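import Groth.Agent.GIT.K688.AbTors
import Groth.Agent.AbVar.K512.AV

/-!
# Torsion points of an abelian variety on a hyperplane

The hyperplane case of `K688.AbTors.card_le`.
-/

set_option autoImplicit false
universe u

open CategoryTheory Limits MonoidalCategory CartesianMonoidalCategory AlgebraicGeometry TopologicalSpace
open scoped MonObj
open Groth.Agent.Grpsch.PicGrp Groth.Agent.Grpsch.Cube
open K518.Phi K518.AVNum K518.Points

namespace K688.AbTorsFin

open Groth.Agent Groth.Agent.Fdesc.LocGen Groth.Agent.Fga.RegSec Groth.Agent.Fga.PicMon K688.HypPt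

/-- the dimension of a scheme over a field is the dimension of its fibre -/
theorem dim_eq {k : Type u} [Field k] (X : Over (Spec (CommRingCat.of k))) (g : ℕ)
    (h : ∀ s : Spec (CommRingCat.of k), topologicalKrullDim ↥(X.hom.fiber s) = g) :
    topologicalKrullDim X.left = g := by
  rw [← h (IsLocalRing.closedPoint k)]
  have e := X.hom.fiberHomeo (IsLocalRing.closedPoint k)
  have h1 : X.hom ⁻¹' {(IsLocalRing.closedPoint k : Spec (CommRingCat.of k))} = Set.univ := by
    ext x
    simp only [Set.mem_preimage, Set.mem_univ, iff_true]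
    exact Subsingleton.elim _ _
  rw [e.isHomeomorph.topologicalKrullDim_eq]
  have h2 : topologicalKrullDim ↥(X.hom ⁻¹' {(IsLocalRing.closedPoint k : Spec (CommRingCat.of k))}) =
      topologicalKrullDim (Set.univ : Set X.left) := by rw [h1]
  exact (h2.trans (Homeomorph.Set.univ X.left).isHomeomorph.topologicalKrullDim_eq).symm

variable {k : Type u} [Field k] [IsAlgClosed k] {A : Over (Spec (CommRingCat.of k))} [GrpObj A] [IsProper A.hom]
  [GeometricallyIntegral A.hom]

theorem main (g : ℕ) (hg : topologicalKrullDim A.left = g) (m : ℕ) (φ : A.left ⟶ CohB1.ProjSpace m k)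
    (hφ : IsClosedImmersion φ) (hφk : φ ≫ CohB1.ProjSpace.toSpec m k = A.hom)
    (hspan : ∀ c : Fin (m + 1) → k, c ≠ 0 → ∃ x : 𝟙_ (Over (Spec (CommRingCat.of k))) ⟶ A,
      c ∉ ProjUP.secKernel m k (x.left ≫ φ))
    (L' : A.left.Modules) (hL' : ClSub.IsInverseOf L' ((Scheme.Modules.pullback φ).obj (Twist.twistProjSpace m k 1)))
    (r : ℕ) (hr : FGA.intNum k A.left g (fun _ : Fin g => L') (Coh.structureModule A.left) = r)
    (n : ℕ) (hn : 1 ≤ n) (hnr : (m + 1) * r < n ^ 2) (c : Fin (m + 1) → k) (hc : c ≠ 0) :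
    (m + 1) * Nat.card {x : 𝟙_ (Over (Spec (CommRingCat.of k))) ⟶ A //
        x ^ n = 1 ∧ c ∈ ProjUP.secKernel m k (x.left ≫ φ)} < n ^ (2 * g) := by
  classical
  have hpt : ∀ x : Pt A, (x.left ≫ φ) ≫ CohB1.ProjSpace.toSpec m k = 𝟙 _ := fun x => by
    rw [Category.assoc, hφk]
    exact Over.w x
  have hzero : ∀ (c : Fin (m + 1) → k) (x : Pt A), φ (pt x) ∈ CohB1.genLocus _ (linHom c) ↔
      c ∉ ProjUP.secKernel m k (x.left ≫ φ) := fun c x => by
    rw [← mem_genLocus_lin (x.left ≫ φ) (hpt x) c (IsLocalRing.closedPoint k)]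
    rfl
  obtain ⟨x₀, hx₀⟩ := hspan c hc
  cases g with
  | zero =>
    have h0 : IsEmpty {x : 𝟙_ (Over (Spec (CommRingCat.of k))) ⟶ A //
        x ^ n = 1 ∧ c ∈ ProjUP.secKernel m k (x.left ≫ φ)} := by
      refine ⟨fun ⟨x, hx, hcx⟩ => hx₀ ?_⟩
      have hint : IsIntegral A.left := K518.Basic.isIntegral_left A
      have h1 : ∀ y : A.left, y = genericPoint A.left := by
        intro y
        have h2 : topologicalKrullDim ↥(closure ({genericPoint A.left} : Set A.left)) ≤ (0 : ℕ) := by
          rw [(genericPoint_spec A.left).def, (Homeomorph.Set.univ A.left).isHomeomorph.topologicalKrullDim_eq, hg]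
        exact CutCount.isClosed_of_dim_zero _ h2 (genericPoint_specializes y)
      have h3 : x = x₀ := pt_ext ((h1 _).trans (h1 _).symm)
      rw [← h3]
      exact hcx
    rw [Nat.card_of_isEmpty, mul_zero]
    positivity
  | succ g =>
    by_cases hfin : Finite {x : 𝟙_ (Over (Spec (CommRingCat.of k))) ⟶ A //
        x ^ n = 1 ∧ c ∈ ProjUP.secKernel m k (x.left ≫ φ)}
    swap
    · rw [not_finite_iff_infinite] at hfin
      rw [Nat.card_eq_zero_of_infinite, mul_zero]
      positivity
    let _ := Fintype.ofFinite {x : 𝟙_ (Over (Spec (CommRingCat.of k))) ⟶ A //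
        x ^ n = 1 ∧ c ∈ ProjUP.secKernel m k (x.left ≫ φ)}
    let E : Finset A.left := Finset.univ.image fun x : {x : 𝟙_ (Over (Spec (CommRingCat.of k))) ⟶ A //
        x ^ n = 1 ∧ c ∈ ProjUP.secKernel m k (x.left ≫ φ)} => pt x.1
    have hEcard : E.card = Nat.card {x : 𝟙_ (Over (Spec (CommRingCat.of k))) ⟶ A //
        x ^ n = 1 ∧ c ∈ ProjUP.secKernel m k (x.left ≫ φ)} := by
      rw [Finset.card_image_of_injective, Finset.card_univ, Nat.card_eq_fintype_card]
      intro x y hxy
      exact Subtype.ext (pt_ext hxy)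
    have hM : PicF.IsInvertible ((Scheme.Modules.pullback φ).obj (Twist.twistProjSpace m k 1)) :=
      isInvertible_pullback φ isInvertible_twist
    have hgl : ∀ c : Fin (m + 1) → k, CohB1.genLocus _ (pullHom φ (linHom c)) = φ ⁻¹ᵁ CohB1.genLocus _ (linHom c) :=
      fun c => Ega1.AmpFam.genLocus_pullHom φ isInvertible_twist _
    have hmain := AbTors.card_le hg n hn hM hM ?_ (pullHom φ (linHom c)) ?_ E ?_
    · have hLinv : PicF.IsInvertible L' := by
        obtain ⟨e⟩ := hL'
        exact Fga.IntAdd.isInvertible_of_tensor (Ega2.Tens.swap _ _ ≪≫ e)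
      have hmk : mk L' hLinv = (mk _ hM)⁻¹ := by
        rw [eq_inv_iff_mul_eq_one, mk_mul_mk, mk_eq_one_iff]
        exact hL'
      have hJ : JA hg (Fin.cons (Additive.ofMul (mk _ hM)) (fun _ : Fin g => Additive.ofMul (mk _ hM))) = r := by
        rw [← hr, Pic13.H970.IntForm.intNum_eq k A.left (g + 1) _ _ (fun _ => hLinv), K518.IntMul.J_apply]
        congr 1
        funext i
        rw [hmk]
        cases i using Fin.cases with
        | zero => rfl
        | succ i => rfl
      rw [hJ, hEcard] at hmain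
      have h1 : Nat.card {x : 𝟙_ (Over (Spec (CommRingCat.of k))) ⟶ A //
        x ^ n = 1 ∧ c ∈ ProjUP.secKernel m k (x.left ≫ φ)} ≤ n ^ (2 * g) * r := by exact_mod_cast hmain
      calc (m + 1) * _ ≤ (m + 1) * (n ^ (2 * g) * r) := Nat.mul_le_mul_left _ h1
        _ = ((m + 1) * r) * n ^ (2 * g) := by ring
        _ < n ^ 2 * n ^ (2 * g) := Nat.mul_lt_mul_of_pos_right hnr (by positivity)
        _ = n ^ (2 * (g + 1)) := by ring
    · intro p q hpq
      have hne : p.left ≫ φ ≠ q.left ≫ φ := by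
        intro h
        apply hpq
        ext1
        exact (cancel_mono φ).1 h
      obtain ⟨c', h1, h2⟩ := exists_separating _ _ (hpt p) (hpt q) hne
      refine ⟨pullHom φ (linHom c'), ?_, ?_⟩
      · rw [hgl]
        exact fun h => (hzero c' p).1 h h1
      · rw [hgl]
        exact (hzero c' q).2 h2
    · rw [hgl]
      intro h
      have h1 : pt x₀ ∈ φ ⁻¹ᵁ CohB1.genLocus _ (linHom c) := (hzero c x₀).2 hx₀
      rw [h] at h1
      exact h1
    · intro e he
      obtain ⟨x, -, rfl⟩ := Finset.mem_image.1 he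
      refine ⟨?_, x.1, x.2.1, rfl⟩
      rw [hgl]
      exact fun h => (hzero c x.1).1 h x.2.2

end K688.AbTorsFin
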