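import Groth.Agent.Books.ComodInv
import Groth.Prelude.Def_Hoch
import Groth.Prelude.Def_GLin

/-!
# The Reynolds operator of a linearly reductive coaction

`exists_compl_fixedPts`: in a comodule over a linearly reductive Hopf algebra (any dimension) the fixed
vectors have a complementary subcomodule; `hom_eq_zero_of_fixedPts_eq_bot`: a comodule map into fixed
vectors from a comodule without fixed vectors is zero.
-/

set_option autoImplicit false

universe u v w w'

open TensorProduct HopfRep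

namespace K688.Reynolds

open Groth.Agent.Books.ComodBasic Groth.Agent.Books.ComodHom Groth.Agent.Books.ComodInv

variable {k : Type u} {A : Type v} [Field k] [CommRing A] [Bialgebra k A]

/-- The two spellings of comodule maps agree. -/
lemma isComodHom_iff {V : Type w} [AddCommGroup V] [Module k V] [Comod k A V]
    {W : Type w'} [AddCommGroup W] [Module k W] [Comod k A W] (f : V →ₗ[k] W) :
    Hoch.IsComodHom A f ↔ IsComodHom k A f := by
  constructor
  · intro h v
    exact LinearMap.congr_fun h v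
  · intro h
    exact LinearMap.ext h

section

variable {V : Type v} [AddCommGroup V] [Module k V] [Comod k A V]
variable {W : Type w'} [AddCommGroup W] [Module k W] [Comod k A W]

/-- Complements inside a finite-dimensional subcomodule. -/
lemma exists_compl_of_finite (hG : IsLinearlyReductive k A) (F W₁ : Submodule k V)
    (hF : IsSubcomod (k := k) (A := A) F) (hW₁ : IsSubcomod (k := k) (A := A) W₁)
    [Module.Finite k F] (hle : W₁ ≤ F) :
    ∃ W₂ : Submodule k V, IsSubcomod (k := k) (A := A) W₂ ∧ W₂ ≤ F ∧ W₁ ⊓ W₂ = ⊥ ∧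
      W₁ ⊔ W₂ = F := by
  let _ := subComod F hF
  have hf : IsComodHom k A F.subtype := isComodHom_subtype F hF
  obtain ⟨W', hW', hc⟩ := hG F inferInstance (W₁.comap F.subtype) (hf.comap hW₁)
  refine ⟨W'.map F.subtype, hf.map hW', ?_, ?_, ?_⟩
  · rintro _ ⟨x, -, rfl⟩
    exact x.2
  · rw [eq_bot_iff]
    rintro _ ⟨hx, ⟨x, hx', rfl⟩⟩
    have : x ∈ W₁.comap F.subtype ⊓ W' := ⟨hx, hx'⟩
    rw [hc.inf_eq_bot, Submodule.mem_bot] at this
    rw [this]
    simp
  · have := congrArg (Submodule.map F.subtype) hc.sup_eq_top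
    rw [Submodule.map_sup, Submodule.map_top, Submodule.range_subtype,
      Submodule.map_comap_eq, Submodule.range_subtype, inf_eq_right.2 hle] at this
    exact this

/-- Every subcomodule of a (possibly infinite-dimensional) comodule over a linearly reductive bialgebra
has a complementary subcomodule. -/
theorem exists_isCompl_isSubcomod (hG : IsLinearlyReductive k A) (W₁ : Submodule k V)
    (hW₁ : IsSubcomod (k := k) (A := A) W₁) :
    ∃ N : Submodule k V, IsSubcomod (k := k) (A := A) N ∧ IsCompl W₁ N := by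
  obtain ⟨N, -, hN⟩ := zorn_le_nonempty₀
    {N : Submodule k V | IsSubcomod (k := k) (A := A) N ∧ Disjoint W₁ N} (by
      intro c hc hchain y hy
      refine ⟨sSup c, ⟨?_, ?_⟩, fun z hz => le_sSup hz⟩
      · rw [sSup_eq_iSup']
        exact IsSubcomod.iSup fun i => (hc i.2).1
      · have hd : DirectedOn (· ≤ ·) c := hchain.directedOn
        rw [hd.disjoint_sSup_right]
        intro b hb
        exact (hc hb).2) ⊥ ⟨isSubcomod_bot, disjoint_bot_right⟩
  refine ⟨N, hN.prop.1, hN.prop.2, ?_⟩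
  rw [codisjoint_iff, eq_top_iff]
  intro v _
  by_contra hv
  have hsup : IsSubcomod (k := k) (A := A) (W₁ ⊔ N) := IsSubcomod.sup hW₁ hN.prop.1
  obtain ⟨C, hC, hCF, hinf, hsupC⟩ := exists_compl_of_finite hG (gen k A v) (gen k A v ⊓ (W₁ ⊔ N))
    (isSubcomod_gen v) (IsSubcomod.inf (isSubcomod_gen v) hsup) inf_le_left
  have hCd : Disjoint (W₁ ⊔ N) C := by
    rw [Submodule.disjoint_def]
    intro x hx hxC
    have : x ∈ (gen k A v ⊓ (W₁ ⊔ N)) ⊓ C := ⟨⟨hCF hxC, hx⟩, hxC⟩
    rwa [hinf, Submodule.mem_bot] at this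
  have hmem : N ⊔ C ∈ {N : Submodule k V | IsSubcomod (k := k) (A := A) N ∧ Disjoint W₁ N} := by
    refine ⟨IsSubcomod.sup hN.prop.1 hC, ?_⟩
    have := hN.prop.2
    exact Disjoint.disjoint_sup_right_of_disjoint_sup_left hN.prop.2 hCd
  have hle : C ≤ N := le_sup_right.trans (hN.le_of_ge hmem le_sup_left)
  have hC0 : C = ⊥ := by
    rw [eq_bot_iff]
    intro x hx
    exact (Submodule.disjoint_def.1 hCd) x (Submodule.mem_sup_right (hle hx)) hx
  rw [hC0, sup_bot_eq] at hsupC
  exact hv (show v ∈ gen k A v ⊓ (W₁ ⊔ N) by rw [hsupC]; exact self_mem_gen v).2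

/-- A comodule map with values in the fixed vectors vanishes on every subcomodule without nonzero
fixed vectors. -/
theorem apply_eq_zero_of_disjoint (hG : IsLinearlyReductive k A) {f : V →ₗ[k] W}
    (hf : IsComodHom k A f) (N : Submodule k V) (hN : IsSubcomod (k := k) (A := A) N)
    (hd : Disjoint N (fixedPts k A V)) {x : V} (hx : x ∈ N) (hfx : f x ∈ fixedPts k A W) :
    f x = 0 := by
  let _ := subComod N hN
  have hs : IsComodHom k A N.subtype := isComodHom_subtype N hN
  obtain ⟨x', hx', hx''⟩ := exists_fixed_lift hG (hf.comp hs) hfx (v := ⟨x, hx⟩) rfl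
  have h1 : (x' : V) ∈ fixedPts k A V := IsComodHom.map_mem_fixedPts hs hx'
  have h2 : (x' : V) = 0 := Submodule.disjoint_def.1 hd _ x'.2 h1
  rw [← hx'', LinearMap.comp_apply, Submodule.subtype_apply, h2, map_zero]

/-- Existence and uniqueness of the Reynolds operator. -/
theorem existsUnique_reynolds (hG : IsLinearlyReductive k A) :
    ∃! E : V →ₗ[k] V, IsComodHom k A E ∧ E ∘ₗ E = E ∧ ∀ x : V, E x = x ↔ x ∈ fixedPts k A V := by
  obtain ⟨N, hN, hc⟩ := exists_isCompl_isSubcomod hG (fixedPts k A V) isSubcomod_fixedPts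
  set E : V →ₗ[k] V := (fixedPts k A V).subtype ∘ₗ Submodule.projectionOnto _ N hc with hE
  have hE1 : ∀ x ∈ fixedPts k A V, E x = x := by
    intro x hx
    rw [hE, LinearMap.comp_apply, Submodule.subtype_apply]
    exact congrArg Subtype.val (Submodule.projectionOnto_apply_left hc ⟨x, hx⟩)
  have hE2 : ∀ x ∈ N, E x = 0 := by
    intro x hx
    rw [hE, LinearMap.comp_apply, Submodule.subtype_apply]
    have h0 := Submodule.projectionOnto_apply_right hc ⟨x, hx⟩
    exact congrArg Subtype.val h0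
  have hE3 : ∀ x, E x ∈ fixedPts k A V := fun x =>
    (Submodule.projectionOnto _ N hc x).2
  have hdec : ∀ x : V, ∃ a ∈ fixedPts k A V, ∃ b ∈ N, a + b = x := fun x =>
    Submodule.mem_sup.1 (hc.sup_eq_top ▸ Submodule.mem_top)
  have hhom : IsComodHom k A E := by
    rw [isComodHom_iff_dact]
    intro φ v
    obtain ⟨a, ha, b, hb, rfl⟩ := hdec v
    rw [map_add, map_add, map_add, hE1 a ha, hE2 b hb, add_zero,
      hE2 _ ((isSubcomod_iff_dact _).1 hN φ b hb), add_zero,
      hE1 _ ((isSubcomod_iff_dact _).1 isSubcomod_fixedPts φ a ha)]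
  refine ⟨E, ⟨hhom, ?_, ?_⟩, ?_⟩
  · refine LinearMap.ext fun x => ?_
    exact hE1 _ (hE3 x)
  · intro x
    refine ⟨fun h => h ▸ hE3 x, hE1 x⟩
  · rintro E' ⟨h₁, h₂, h₃⟩
    have hE3' : ∀ x, E' x ∈ fixedPts k A V := fun x => (h₃ _).1 (LinearMap.congr_fun h₂ x)
    refine LinearMap.ext fun x => ?_
    obtain ⟨a, ha, b, hb, rfl⟩ := hdec x
    rw [map_add, map_add, hE1 a ha, hE2 b hb, (h₃ a).2 ha,
      apply_eq_zero_of_disjoint hG h₁ N hN hc.disjoint.symm hb (hE3' b)]

end

section Props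

variable {V : Type v} [AddCommGroup V] [Module k V] [Comod k A V]
variable {W : Type w'} [AddCommGroup W] [Module k W] [Comod k A W]
variable {E : V →ₗ[k] V}

lemma apply_mem (h₂ : E ∘ₗ E = E) (h₃ : ∀ x : V, E x = x ↔ x ∈ fixedPts k A V) (x : V) :
    E x ∈ fixedPts k A V := (h₃ _).1 (LinearMap.congr_fun h₂ x)

lemma disjoint_ker (h₃ : ∀ x : V, E x = x ↔ x ∈ fixedPts k A V) :
    Disjoint (LinearMap.ker E) (fixedPts k A V) := by
  rw [Submodule.disjoint_def]
  intro x hx hx'
  rw [← (h₃ x).2 hx']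
  exact hx

/-- A comodule map commutes with Reynolds operators. -/
theorem reynolds_comm (hG : IsLinearlyReductive k A) (h₁ : IsComodHom k A E) (h₂ : E ∘ₗ E = E)
    (h₃ : ∀ x : V, E x = x ↔ x ∈ fixedPts k A V) {E' : W →ₗ[k] W} (h₁' : IsComodHom k A E')
    (h₂' : E' ∘ₗ E' = E') (h₃' : ∀ x : W, E' x = x ↔ x ∈ fixedPts k A W) {f : V →ₗ[k] W}
    (hf : IsComodHom k A f) (x : V) : E' (f x) = f (E x) := by
  have h4 : x - E x ∈ LinearMap.ker E := by
    rw [LinearMap.mem_ker, map_sub, ← LinearMap.comp_apply E E, h₂, sub_self]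
  have h5 := apply_eq_zero_of_disjoint hG (h₁'.comp hf) _ h₁.isSubcomod_ker (disjoint_ker h₃) h4
    ((h₃' _).1 (LinearMap.congr_fun h₂' _))
  rw [LinearMap.comp_apply, map_sub, map_sub, sub_eq_zero] at h5
  rw [h5]
  exact (h₃' _).2 (IsComodHom.map_mem_fixedPts hf (apply_mem h₂ h₃ x))

/-- The Reynolds operator preserves every subcomodule. -/
theorem apply_mem_subcomod (hG : IsLinearlyReductive k A) (h₁ : IsComodHom k A E) (h₂ : E ∘ₗ E = E)
    (h₃ : ∀ x : V, E x = x ↔ x ∈ fixedPts k A V) (U : Submodule k V)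
    (hU : IsSubcomod (k := k) (A := A) U) {x : V} (hx : x ∈ U) : E x ∈ U := by
  let _ := subComod U hU
  have hs : IsComodHom k A U.subtype := isComodHom_subtype U hU
  obtain ⟨E₀, ⟨g₁, g₂, g₃⟩, -⟩ := existsUnique_reynolds (k := k) (A := A) (V := U) hG
  have := reynolds_comm hG g₁ g₂ g₃ h₁ h₂ h₃ hs ⟨x, hx⟩
  rw [Submodule.subtype_apply] at this
  rw [this]
  exact (E₀ ⟨x, hx⟩).2

end Props

end K688.Reynolds
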