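import Groth.Agent.GIT.K689.SchGlue
import Mathlib.AlgebraicGeometry.Gluing
import Mathlib.AlgebraicGeometry.ColimitsOver

/-!
# Gluing of quotient maps of saturated opens

`Dat X J`: opens `V i` of `X` with surjective epimorphisms `p i : V i ⟶ Y i`, and open immersions
`t : Y i ⟶ Y j` for `i ≤ j` over which `V i ⊆ V j` is saturated. `Dat.exists_glue`: the `p i` glue.
-/

set_option autoImplicit false

universe u

open CategoryTheory CategoryTheory.Limits AlgebraicGeometry TopologicalSpace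

namespace K688.SchQGlue

open K689.SchGlue

/-- Gluing data for quotient maps. -/
structure Dat (X : Scheme.{u}) (J : Type u) [Preorder J] where
  /-- the opens of the source -/
  V : J → X.Opens
  /-- the quotients -/
  Y : J → Scheme.{u}
  /-- the quotient maps -/
  p : ∀ i, (V i : Scheme.{u}) ⟶ Y i
  epi : ∀ i, Epi (p i)
  surj : ∀ i, Function.Surjective (p i)
  mono : ∀ {i j : J}, i ≤ j → V i ≤ V j
  /-- the transition maps -/
  t : ∀ {i j : J}, i ≤ j → (Y i ⟶ Y j)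
  ot : ∀ {i j : J} (h : i ≤ j), IsOpenImmersion (t h)
  pt : ∀ {i j : J} (h : i ≤ j), p i ≫ t h = X.homOfLE (mono h) ≫ p j
  sat : ∀ {i j : J} (h : i ≤ j), p j ⁻¹ᵁ (t h).opensRange = (V j).ι ⁻¹ᵁ (V i)
  inf : ∀ i j : J, ∃ l, l ≤ i ∧ l ≤ j ∧ V i ⊓ V j ≤ V l
  cov : ∀ x : X, ∃ i, x ∈ V i

namespace Dat

variable {X : Scheme.{u}} {J : Type u} [Preorder J] (D : Dat X J)

instance (i : J) : Epi (D.p i) := D.epi i

instance {i j : J} (h : i ≤ j) : IsOpenImmersion (D.t h) := D.ot h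

/-- the diagram of the quotients -/
noncomputable abbrev F : J ⥤ Scheme.{u} where
  obj i := D.Y i
  map f := D.t (leOfHom f)
  map_id i := by
    rw [← cancel_epi (D.p i), D.pt]
    simp
  map_comp f g := by
    rw [← cancel_epi (D.p _), D.pt, reassoc_of% (D.pt (leOfHom f)), D.pt,
      Scheme.homOfLE_homOfLE_assoc]

instance {i j : J} (f : i ⟶ j) : IsOpenImmersion (D.F.map f) := D.ot (leOfHom f)

theorem t_apply {i j : J} (h : i ≤ j) (x : (D.V i : Scheme.{u})) :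
    D.t h (D.p i x) = D.p j ⟨x.1, D.mono h x.2⟩ := by
  rw [← Scheme.Hom.comp_apply, D.pt, Scheme.Hom.comp_apply]
  congr 1
  apply (D.V j).ι.isOpenEmbedding.injective
  rw [← Scheme.Hom.comp_apply, Scheme.homOfLE_ι]
  rfl

theorem mem_of_mem_range {i j : J} (h : i ≤ j) (x : (D.V j : Scheme.{u}))
    (hx : D.p j x ∈ Set.range (D.t h)) : x.1 ∈ D.V i := by
  have h1 : x ∈ D.p j ⁻¹ᵁ (D.t h).opensRange := hx
  rw [D.sat] at h1
  exact h1

theorem directed_aux {i j k : J} (hi : i ≤ k) (hj : j ≤ k) (xi : D.Y i) (xj : D.Y j)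
    (hx : D.t hi xi = D.t hj xj) :
    ∃ (l : J) (hli : l ≤ i) (hlj : l ≤ j) (z : D.Y l), D.t hli z = xi ∧ D.t hlj z = xj := by
  obtain ⟨ui, rfl⟩ := D.surj i xi
  rw [D.t_apply] at hx
  have h1 : ui.1 ∈ D.V j := D.mem_of_mem_range hj ⟨ui.1, D.mono hi ui.2⟩ ⟨xj, hx.symm⟩
  obtain ⟨l, hli, hlj, hl⟩ := D.inf i j
  have hul : ui.1 ∈ D.V l := hl ⟨ui.2, h1⟩
  refine ⟨l, hli, hlj, D.p l ⟨ui.1, hul⟩, D.t_apply hli ⟨ui.1, hul⟩, ?_⟩
  refine (D.t_apply hlj ⟨ui.1, hul⟩).trans ?_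
  apply (D.t hj).isOpenEmbedding.injective
  exact (D.t_apply hj ⟨ui.1, h1⟩).trans hx

instance : (D.F ⋙ Scheme.forget).IsLocallyDirected where
  cond {i j k} fi fj xi xj hx := by
    obtain ⟨l, hli, hlj, z, h1, h2⟩ := D.directed_aux (leOfHom fi) (leOfHom fj) xi xj hx
    exact ⟨l, homOfLE hli, homOfLE hlj, z, h1, h2⟩

/-- **Gluing of quotient maps.** -/
theorem exists_glue : ∃ (Y : Scheme.{u}) (φ : X ⟶ Y) (j : ∀ i, D.Y i ⟶ Y)
    (_ : ∀ i, IsOpenImmersion (j i)), (∀ i, D.p i ≫ j i = (D.V i).ι ≫ φ) ∧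
    (∀ i, φ ⁻¹ᵁ (j i).opensRange = D.V i) ∧ (∀ y : Y, ∃ i, y ∈ Set.range (j i)) ∧
    ∀ (Z : Scheme.{u}) (f : ∀ i, D.Y i ⟶ Z), (∀ i k (h : i ≤ k), D.t h ≫ f k = f i) →
      ∃ σ : Y ⟶ Z, ∀ i, j i ≫ σ = f i := by
  have hw : ∀ i k (h : i ≤ k), D.t h ≫ colimit.ι D.F k = colimit.ι D.F i := fun i k h =>
    colimit.w D.F (homOfLE h)
  have hlow : ∀ i l (h : l ≤ i) (W : X.Opens) (h' : W ≤ D.V l) (h'' : W ≤ D.V i),
      X.homOfLE h'' ≫ D.p i ≫ colimit.ι D.F i = X.homOfLE h' ≫ D.p l ≫ colimit.ι D.F l := by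
    intro i l h W h' h''
    rw [← hw l i h, reassoc_of% (D.pt h), Scheme.homOfLE_homOfLE_assoc]
  obtain ⟨φ, hφ⟩ := glue_opens D.V D.cov (fun i => D.p i ≫ colimit.ι D.F i) fun i j => by
    obtain ⟨l, hli, hlj, hl⟩ := D.inf i j
    rw [hlow i l hli _ hl inf_le_left, hlow j l hlj _ hl inf_le_right]
  have hφa : ∀ i (x : (D.V i : Scheme.{u})), φ x.1 = colimit.ι D.F i (D.p i x) := fun i x => by
    rw [← Scheme.Hom.comp_apply, ← hφ i, Scheme.Hom.comp_apply]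
    rfl
  refine ⟨colimit D.F, φ, fun i => colimit.ι D.F i, fun i => inferInstance, fun i => (hφ i).symm,
    fun i => ?_, fun y => ?_, fun Z f hf => ?_⟩
  · ext x
    constructor
    · rintro ⟨y, hy⟩
      obtain ⟨j, hj⟩ := D.cov x
      have h1 : colimit.ι D.F j (D.p j ⟨x, hj⟩) = colimit.ι D.F i y := by
        rw [hy, ← hφa j ⟨x, hj⟩]
      rw [Scheme.IsLocallyDirected.ι_eq_ι_iff] at h1
      obtain ⟨k, fj, fi, z, hz1, hz2⟩ := h1
      exact D.mono (leOfHom fi) (D.mem_of_mem_range (leOfHom fj) ⟨x, hj⟩ ⟨z, hz1⟩)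
    · intro hx
      exact ⟨D.p i ⟨x, hx⟩, (hφa i ⟨x, hx⟩).symm⟩
  · obtain ⟨i, y', hy⟩ := Scheme.IsLocallyDirected.ι_jointly_surjective D.F y
    exact ⟨i, y', hy⟩
  · let c : Cocone D.F :=
      { pt := Z
        ι :=
          { app := f
            naturality := fun i k h => by
              change D.t (leOfHom h) ≫ f k = f i ≫ 𝟙 Z
              rw [hf, Category.comp_id] } }
    exact ⟨colimit.desc D.F c, fun i => colimit.ι_desc c i⟩

end Dat

end K688.SchQGlue
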