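import Groth.Agent.GIT.K688.QuotLocal
import Groth.Agent.GIT.K688.SchQGlue

/-!
# Gluing of universal categorical quotients of saturated open subschemes
-/

set_option autoImplicit false

universe u

open CategoryTheory CategoryTheory.Limits MonoidalCategory CartesianMonoidalCategory MonObj AlgebraicGeometry

namespace K688.QuotGlue

open K688.ActRes K688.QuotLocal K688.SchQGlue K689.SchGlue

theorem isPullback_of_opensRange {A B C D : Scheme.{u}} (i : A ⟶ B) (k : C ⟶ D) [IsOpenImmersion i]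
    [IsOpenImmersion k] (f : B ⟶ D) (f' : A ⟶ C) (h : f' ≫ k = i ≫ f)
    (hr : f ⁻¹ᵁ k.opensRange = i.opensRange) : IsPullback i f' f k := by
  have hc : ∀ c : PullbackCone f k, Set.range c.fst ⊆ Set.range i := by
    rintro c _ ⟨x, rfl⟩
    have h1 : c.fst x ∈ i.opensRange := by
      rw [← hr]
      show f (c.fst x) ∈ k.opensRange
      rw [← Scheme.Hom.comp_apply, c.condition]
      exact ⟨c.snd x, rfl⟩
    exact h1
  refine ⟨⟨h.symm⟩, ⟨PullbackCone.IsLimit.mk _ (fun c => IsOpenImmersion.lift i c.fst (hc c))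
    ?_ ?_ ?_⟩⟩
  · intro c
    exact IsOpenImmersion.lift_fac _ _ _
  · intro c
    rw [← cancel_mono k, Category.assoc, h, IsOpenImmersion.lift_fac_assoc, c.condition]
  · intro c m hm _
    rw [← cancel_mono i, hm, IsOpenImmersion.lift_fac]

variable {S : Scheme.{u}} {G : Over S} [GrpObj G]

theorem epi_of_isCatQuot {X Y : Over S} {a : AlgGrp.Action G X} {φ : X ⟶ Y} (h : GIT.IsCatQuot a φ) :
    Epi φ :=
  ⟨fun {Z} f g hfg => (h.2 Z (φ ≫ g) (by
    rw [GIT.IsInvariant, reassoc_of% h.1])).unique hfg rfl⟩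

theorem epi_left_of_isCatQuot {X Y : Over S} {a : AlgGrp.Action G X} {φ : X ⟶ Y}
    (h : GIT.IsCatQuot a φ) : Epi φ.left := by
  have := epi_of_isCatQuot h
  exact inferInstanceAs (Epi ((Over.forget S).map φ))

/-- Uniqueness of the categorical quotient. -/
theorem exists_iso {X Y Y' : Over S} {a : AlgGrp.Action G X} {φ : X ⟶ Y} {φ' : X ⟶ Y'}
    (h : GIT.IsCatQuot a φ) (h' : GIT.IsCatQuot a φ') : ∃ e : Y ≅ Y', φ ≫ e.hom = φ' := by
  have := epi_of_isCatQuot h
  have := epi_of_isCatQuot h'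
  obtain ⟨f, hf, -⟩ := h.2 Y' φ' h'.1
  obtain ⟨g, hg, -⟩ := h'.2 Y φ h.1
  refine ⟨⟨f, g, ?_, ?_⟩, hf⟩
  · rw [← cancel_epi φ, reassoc_of% hf, hg, Category.comp_id]
  · rw [← cancel_epi φ', reassoc_of% hg, hf, Category.comp_id]

/-- The quotient of a saturated open is an open of the quotient. -/
theorem chart_of_saturated {X₁ X₂ Y₁ Y₂ : Over S} {a₁ : AlgGrp.Action G X₁} {a₂ : AlgGrp.Action G X₂}
    {φ₁ : X₁ ⟶ Y₁} {φ₂ : X₂ ⟶ Y₂} (h₁ : GIT.IsCatQuot a₁ φ₁) (h₂ : GIT.IsUnivCatQuot a₂ φ₂)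
    (j : X₁ ⟶ X₂) [IsOpenImmersion j.left] (hj : a₁.act ≫ j = (G ◁ j) ≫ a₂.act)
    (O : Y₂.left.Opens) (hO : φ₂.left ⁻¹ᵁ O = j.left.opensRange) (χ : Y₁ ⟶ Y₂)
    (hχ : φ₁ ≫ χ = j ≫ φ₂) :
    IsOpenImmersion χ.left ∧ Set.range χ.left = (O : Set Y₂.left) ∧ IsPullback j φ₁ φ₂ χ := by
  have hr : Set.range (j ≫ φ₂).left ⊆ Set.range (inc Y₂ O).left := by
    rintro _ ⟨z, rfl⟩
    have h3 : Set.range (inc Y₂ O).left = (O : Set Y₂.left) := Scheme.Opens.range_ι _
    rw [h3, Over.comp_left, Scheme.Hom.comp_apply]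
    have h4 : j.left z ∈ φ₂.left ⁻¹ᵁ O := by
      rw [hO]
      exact ⟨z, rfl⟩
    exact h4
  let f0 := IsOpenImmersion.lift (inc Y₂ O).left (j ≫ φ₂).left hr
  have hf0 : f0 ≫ (inc Y₂ O).left = (j ≫ φ₂).left := IsOpenImmersion.lift_fac _ _ _
  let φO : X₁ ⟶ op Y₂ O := Over.homMk f0 (by rw [← Over.w (inc Y₂ O), ← Category.assoc, hf0, Over.w])
  have hφO : φO ≫ inc Y₂ O = j ≫ φ₂ := by ext1; exact hf0
  have hor : (inc Y₂ O).left.opensRange = O := Scheme.Opens.opensRange_ι O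
  have hpb : IsPullback j φO φ₂ (inc Y₂ O) :=
    isPullback_of_left (isPullback_of_opensRange j.left (inc Y₂ O).left φ₂.left φO.left hf0
      (by rw [hor, hO]))
  have hinv : GIT.IsInvariant a₁ φO := by
    rw [GIT.IsInvariant, ← cancel_mono (inc Y₂ O), Category.assoc, Category.assoc, hφO,
      reassoc_of% hj, h₂.1.1, whiskerLeft_snd_assoc]
  have hU := h₂.baseChange hpb hj hinv
  obtain ⟨e, he⟩ := exists_iso h₁ hU.1
  have := epi_of_isCatQuot h₁
  have hχe : χ = e.hom ≫ inc Y₂ O := by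
    rw [← cancel_epi φ₁, hχ, ← Category.assoc, he, hφO]
  have hie : IsIso e.hom.left := inferInstanceAs (IsIso ((Over.forget S).map e.hom))
  refine ⟨?_, ?_, ?_⟩
  · rw [hχe, Over.comp_left]
    infer_instance
  · have h5 : χ.left = e.hom.left ≫ O.ι := by rw [hχe, Over.comp_left]; rfl
    have h6 : (e.hom.left ≫ O.ι).opensRange = O := by
      rw [Scheme.Hom.opensRange_comp_of_isIso, Scheme.Opens.opensRange_ι]
    rw [h5]
    exact congrArg (fun U : Y₂.left.Opens => (U : Set Y₂.left)) h6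
  · rw [hχe]
    refine IsPullback.of_iso hpb (Iso.refl _) (Iso.refl _) e.symm (Iso.refl _) ?_ ?_ ?_ ?_
    · simp
    · simp only [Iso.refl_hom, Category.id_comp, Iso.symm_hom]
      rw [← he, Category.assoc, Iso.hom_inv_id, Category.comp_id]
    · simp
    · simp

/-- **Gluing of universal categorical quotients.** -/
theorem exists_glue {X : Over S} (a : AlgGrp.Action G X) {J : Type u} (V : J → X.left.Opens)
    (Y : J → Over S) (φ : ∀ i, op X (V i) ⟶ Y i) (b : ∀ i, AlgGrp.Action G (op X (V i)))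
    (hb : ∀ i, (b i).act ≫ inc X (V i) = (G ◁ inc X (V i)) ≫ a.act)
    (hU : ∀ i, GIT.IsUnivCatQuot (b i) (φ i)) (hsurj : ∀ i, Function.Surjective (φ i).left)
    (inf : ∀ i j, ∃ l, V l = V i ⊓ V j)
    (sat : ∀ i j, V i ≤ V j → ∃ O : (Y j).left.Opens, (φ j).left ⁻¹ᵁ O = (V j).ι ⁻¹ᵁ V i)
    (cov : ∀ x, ∃ i, x ∈ V i) :
    ∃ (Z : Over S) (ψ : X ⟶ Z) (j : ∀ i, Y i ⟶ Z),
      (∀ i, Chart a ψ (b i) (φ i) (inc X (V i)) (j i)) ∧
      (∀ i, ψ.left ⁻¹' Set.range (j i).left = (V i : Set X.left)) ∧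
      (∀ z : Z.left, ∃ i, z ∈ Set.range (j i).left) ∧ GIT.IsUnivCatQuot a ψ := by
  let _ : Preorder J := Preorder.lift V
  -- transition maps
  have ht : ∀ i j : J, V i ≤ V j → ∃ χ : Y i ⟶ Y j, ∀ h : V i ≤ V j, φ i ≫ χ = incLE X h ≫ φ j := by
    intro i j h
    obtain ⟨χ, hχ, -⟩ := (hU i).1.2 (Y j) (incLE X h ≫ φ j) (by
      have e1 : (b i).act ≫ incLE X h = (G ◁ incLE X h) ≫ (b j).act := by
        rw [← cancel_mono (inc X (V j)), Category.assoc, Category.assoc, incLE_inc, hb, hb,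
          ← whiskerLeft_comp_assoc, incLE_inc]
      rw [GIT.IsInvariant, reassoc_of% e1, (hU j).1.1, whiskerLeft_snd_assoc])
    exact ⟨χ, fun _ => hχ⟩
  choose χ hχ using ht
  have heq : ∀ {i j : J} (h : V i ≤ V j), (b i).act ≫ incLE X h = (G ◁ incLE X h) ≫ (b j).act := by
    intro i j h
    rw [← cancel_mono (inc X (V j)), Category.assoc, Category.assoc, incLE_inc, hb, hb,
      ← whiskerLeft_comp_assoc, incLE_inc]
  have hoi : ∀ {i j : J} (h : V i ≤ V j), IsOpenImmersion (incLE X h).left := fun h =>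
    inferInstanceAs (IsOpenImmersion (X.left.homOfLE h))
  have hch : ∀ {i j : J} (h : V i ≤ V j), IsOpenImmersion (χ i j h).left ∧
      (φ j).left ⁻¹' Set.range (χ i j h).left = (((V j).ι ⁻¹ᵁ V i : (op X (V j)).left.Opens) :
        Set (op X (V j)).left) := by
    intro i j h
    obtain ⟨O, hO⟩ := sat i j h
    have := hoi h
    have h1 := chart_of_saturated (hU i).1 (hU j) (incLE X h) (heq h) O
      (hO.trans (Scheme.opensRange_homOfLE h).symm) (χ i j h) (hχ i j h h)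
    refine ⟨h1.1, ?_⟩
    rw [h1.2.1, ← hO]
    rfl
  let D : Dat X.left J :=
    { V := V
      Y := fun i => (Y i).left
      p := fun i => (φ i).left
      epi := fun i => epi_left_of_isCatQuot (hU i).1
      surj := hsurj
      mono := fun h => h
      t := fun {i j} h => (χ i j h).left
      ot := fun h => (hch h).1
      pt := fun {i j} h => congrArg (fun f : op X (V i) ⟶ Y j => f.left) (hχ i j h h)
      sat := fun {i j} h => by
        have := (hch h).1
        ext x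
        exact Set.ext_iff.1 (hch h).2 x
      inf := fun i j => by
        obtain ⟨l, hl⟩ := inf i j
        exact ⟨l, hl.le.trans inf_le_left, hl.le.trans inf_le_right, hl.ge⟩
      cov := cov }
  obtain ⟨Z0, ψ0, j0, hj0, hp, hr, hz, hdesc⟩ := D.exists_glue
  obtain ⟨zS, hzS⟩ := hdesc S (fun i => (Y i).hom) (fun i k h => Over.w (χ i k h))
  let Z : Over S := Over.mk zS
  have hψ0 : ψ0 ≫ zS = X.hom := by
    refine hom_ext_opens V cov _ _ fun i => ?_
    have h1 : (φ i).left ≫ j0 i = (V i).ι ≫ ψ0 := hp i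
    rw [← Category.assoc, ← h1, Category.assoc, hzS]
    exact Over.w (φ i)
  let ψ : X ⟶ Z := Over.homMk ψ0 hψ0
  let j : ∀ i, Y i ⟶ Z := fun i => Over.homMk (j0 i) (hzS i)
  have hc : ∀ i, Chart a ψ (b i) (φ i) (inc X (V i)) (j i) := by
    intro i
    have ho : IsOpenImmersion (j i).left := hj0 i
    refine ⟨ho, isPullback_of_left ?_, hb i⟩
    have hr2 : ψ0 ⁻¹ᵁ (j0 i).opensRange = (inc X (V i)).left.opensRange :=
      (hr i).trans (Scheme.Opens.opensRange_ι (V i)).symm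
    exact isPullback_of_opensRange (inc X (V i)).left (j i).left ψ.left (φ i).left (hp i) hr2
  have hinv : GIT.IsInvariant a ψ := by
    rw [GIT.IsInvariant]
    refine hom_ext_over (fun i => (snd G X).left ⁻¹ᵁ V i) (fun z => cov ((snd G X).left z)) fun i => ?_
    -- the open `G × V i`
    have hpb2 : IsPullback (G ◁ inc X (V i)) (snd G _) (snd G X) (inc X (V i)) := by
      refine ⟨⟨by simp⟩, ⟨PullbackCone.IsLimit.mk _ (fun s => lift (s.fst ≫ fst G X) s.snd) ?_ ?_ ?_⟩⟩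
      · intro s
        apply CartesianMonoidalCategory.hom_ext
        · simp
        · simp [s.condition]
      · intro s; simp
      · intro s m h1 h2
        apply CartesianMonoidalCategory.hom_ext
        · rw [lift_fst, ← h1, Category.assoc, whiskerLeft_fst]
        · rw [lift_snd, ← h2]
    let r : op (G ⊗ X) ((snd G X).left ⁻¹ᵁ V i) ⟶ G ⊗ op X (V i) :=
      hpb2.lift (inc _ _) (phiW (snd G X) (V i)) (phiW_inc (snd G X) (V i)).symm
    have hr1 : r ≫ (G ◁ inc X (V i)) = inc (G ⊗ X) _ := hpb2.lift_fst _ _ _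
    rw [← hr1, Category.assoc, Category.assoc, whiskerLeft_snd_assoc, ← reassoc_of% (hb i)]
    have h5 : inc X (V i) ≫ ψ = φ i ≫ j i := (hc i).pb.w
    rw [h5, ← Category.assoc (b i).act, (hU i).1.1, Category.assoc]
  refine ⟨Z, ψ, j, hc, fun i => ?_, fun z => ?_, isUnivCatQuot_of_charts hinv fun z => ?_⟩
  · have h6 := hr i
    exact congrArg (fun U : X.left.Opens => (U : Set X.left)) h6
  · exact hz z
  · obtain ⟨i, hi⟩ := hz z
    exact ⟨_, _, b i, φ i, _, j i, hc i, hi, hU i⟩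

end K688.QuotGlue
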