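import Groth.Agent.GIT.K688.SubmLocal
import Groth.Agent.GIT.K688.QuotGlue
import Groth.Agent.Grpsch.AmpCocycle
import Mathlib.AlgebraicGeometry.Morphisms.Separated
import Mathlib.AlgebraicGeometry.Morphisms.ClosedImmersion

/-!
# Separatedness and an ample module from an affine cover with a cocycle

`isSeparated_of_cocycle`: an affine cover `V i` of `Y` with functions `a i j` on `V i` whose
non-vanishing locus is `V i ⊓ V j` and with `a i j * a j i = 1` on `V i ⊓ V j` makes `Y` separated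
over an affine base.
-/

set_option autoImplicit false

universe u

open CategoryTheory CategoryTheory.Limits AlgebraicGeometry TopologicalSpace Opposite

namespace K688.SepCover

open K688.SubmLocal K688.QuotGlue

/-- restriction of functions -/
noncomputable abbrev rr {Y : Scheme.{u}} {U V : Y.Opens} (h : V ≤ U) : Γ(Y, U) →+* Γ(Y, V) :=
  (Y.presheaf.map (homOfLE h).op).hom

theorem le_ι {Y : Scheme.{u}} (U : Y.Opens) : ⊤ ≤ U.ι ⁻¹ᵁ U := fun x _ => x.2

theorem appLE_ι_surjective {Y : Scheme.{u}} (U : Y.Opens) :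
    Function.Surjective (U.ι.appLE U ⊤ (le_ι U)) := by
  have h : U.ι.appLE U ⊤ (le_ι U) = U.topIso.inv := by
    rw [Scheme.Opens.ι_appLE]
    simp [Scheme.Opens.topIso]
    rfl
  intro s
  refine ⟨U.topIso.hom s, ?_⟩
  rw [h]
  exact congrArg (fun φ => φ.hom s) U.topIso.hom_inv_id

theorem appTop_comp_ι {Y P : Scheme.{u}} {U W : Y.Opens} (δ : W.toScheme ⟶ P) (q : P ⟶ U.toScheme)
    (h : W ≤ U) (e : δ ≫ q = Y.homOfLE h) (b : Γ(Y, U)) :
    δ.appTop (q.appTop (U.ι.appLE U ⊤ (le_ι U) b)) = W.ι.appLE W ⊤ (le_ι W) (rr h b) := by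
  have e2 : (δ ≫ q) ≫ U.ι = W.ι := by rw [e, Scheme.homOfLE_ι]
  have h1 : δ.appTop (q.appTop (U.ι.appLE U ⊤ (le_ι U) b)) = (δ ≫ q).appTop (U.ι.appLE U ⊤ (le_ι U) b) := by
    rw [Scheme.Hom.comp_appTop]
    rfl
  rw [h1]
  have h2 : (δ ≫ q).appTop = (δ ≫ q).appLE ⊤ ⊤ le_top := by
    rw [Scheme.Hom.appTop, Scheme.Hom.app_eq_appLE]
    rfl
  rw [h2]
  have h3 := Scheme.Hom.appLE_comp_appLE (δ ≫ q) U.ι U ⊤ ⊤ (le_ι U) le_top
  have h4 := Scheme.Hom.map_appLE W.ι (le_ι W) (homOfLE h).op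
  have h5 : ((δ ≫ q) ≫ U.ι).appLE U ⊤ (fun x _ => ((δ ≫ q) x).2) = W.ι.appLE U ⊤ ((le_ι W).trans (W.ι.preimage_mono h)) := by
    simp only [e2]
  exact (congrArg (fun φ => φ.hom b) (h3.trans h5)).trans (congrArg (fun φ => φ.hom b) h4).symm

theorem isSeparated_of_cocycle {Y S : Scheme.{u}} [IsAffine S] (f : Y ⟶ S) {I : Type*}
    (V : I → Y.Opens) (hV : ∀ i, IsAffineOpen (V i)) (hcov : ∀ y : Y, ∃ i, y ∈ V i)
    (a : ∀ i j : I, Γ(Y, V i)) (hbas : ∀ i j, Y.basicOpen (a i j) = V i ⊓ V j)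
    (hinv : ∀ i j, rr (inf_le_left : V i ⊓ V j ≤ V i) (a i j) *
      rr (inf_le_right : V i ⊓ V j ≤ V j) (a j i) = 1) : IsSeparated f := by
  refine ⟨of_charts @IsClosedImmersion (pullback.diagonal f) fun z => ?_⟩
  obtain ⟨i, hi⟩ := hcov (pullback.fst f f z)
  obtain ⟨j, hj⟩ := hcov (pullback.snd f f z)
  have : IsAffine (V i).toScheme := hV i
  have : IsAffine (V j).toScheme := hV j
  have hij : IsAffineOpen (V i ⊓ V j) := by
    rw [← hbas]
    exact (hV i).basicOpen _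
  have : IsAffine (V i ⊓ V j : Y.Opens).toScheme := hij
  let m : pullback ((V i).ι ≫ f) ((V j).ι ≫ f) ⟶ pullback f f :=
    pullback.map ((V i).ι ≫ f) ((V j).ι ≫ f) f f (V i).ι (V j).ι (𝟙 S) (by simp) (by simp)
  have hmo : IsOpenImmersion m := inferInstance
  have hmr : Set.range m = pullback.fst f f ⁻¹' (V i : Set Y) ∩ pullback.snd f f ⁻¹' (V j : Set Y) := by
    have := Scheme.Pullback.range_map (f := (V i).ι ≫ f) (g := (V j).ι ≫ f) f f (V i).ι (V j).ι (𝟙 S)
      (by simp) (by simp)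
    rw [Scheme.Opens.range_ι, Scheme.Opens.range_ι] at this
    exact this
  let δ : (V i ⊓ V j : Y.Opens).toScheme ⟶ pullback ((V i).ι ≫ f) ((V j).ι ≫ f) :=
    pullback.lift (Y.homOfLE inf_le_left) (Y.homOfLE inf_le_right) (by simp)
  have hδ : δ ≫ m = (V i ⊓ V j : Y.Opens).ι ≫ pullback.diagonal f := by
    apply pullback.hom_ext
    · rw [Category.assoc, Category.assoc, pullback.diagonal_fst, Category.comp_id]
      have h1 : m ≫ pullback.fst f f = pullback.fst _ _ ≫ (V i).ι := pullback.lift_fst _ _ _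
      rw [h1, pullback.lift_fst_assoc, Scheme.homOfLE_ι]
    · rw [Category.assoc, Category.assoc, pullback.diagonal_snd, Category.comp_id]
      have h1 : m ≫ pullback.snd f f = pullback.snd _ _ ≫ (V j).ι := pullback.lift_snd _ _ _
      rw [h1, pullback.lift_snd_assoc, Scheme.homOfLE_ι]
  refine ⟨_, _, δ, (V i ⊓ V j : Y.Opens).ι, m, hmo, ?_, ?_, ?_⟩
  · refine isPullback_of_opensRange _ m _ _ hδ ?_
    rw [Scheme.Opens.opensRange_ι]
    ext y
    have h1 : (pullback.diagonal f y ∈ m.opensRange) ↔ y ∈ V i ∧ y ∈ V j := by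
      have h2 : (pullback.diagonal f y ∈ m.opensRange) ↔ pullback.diagonal f y ∈ Set.range m := Iff.rfl
      rw [h2, hmr]
      have h3 : pullback.fst f f (pullback.diagonal f y) = y := by
        rw [← Scheme.Hom.comp_apply, pullback.diagonal_fst]
        rfl
      have h4 : pullback.snd f f (pullback.diagonal f y) = y := by
        rw [← Scheme.Hom.comp_apply, pullback.diagonal_snd]
        rfl
      simp only [Set.mem_inter_iff, Set.mem_preimage, h3, h4]
      rfl
    exact h1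
  · rw [hmr]
    exact ⟨hi, hj⟩
  · refine IsClosedImmersion.of_surjective_of_isAffine δ fun s => ?_
    obtain ⟨t, rfl⟩ := appLE_ι_surjective (V i ⊓ V j) s
    -- `t` extends to `V i` after multiplication by a power of `a i j`
    let _ : Algebra Γ(Y, V i) Γ(Y, V i ⊓ V j) := (rr inf_le_left).toAlgebra
    have hloc : IsLocalization.Away (a i j) Γ(Y, V i ⊓ V j) :=
      (hV i).isLocalization_of_eq_basicOpen (a i j) (homOfLE (inf_le_left : V i ⊓ V j ≤ V i))
        (hbas i j).symm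
    obtain ⟨⟨b, _, n, rfl⟩, hb⟩ := IsLocalization.surj (Submonoid.powers (a i j)) t
    have hb' : t * rr (inf_le_left : V i ⊓ V j ≤ V i) (a i j) ^ n =
        rr (inf_le_left : V i ⊓ V j ≤ V i) b := by
      rw [← map_pow]
      exact hb
    have ht : t = rr (inf_le_left : V i ⊓ V j ≤ V i) b *
        rr (inf_le_right : V i ⊓ V j ≤ V j) (a j i) ^ n := by
      rw [← hb', _root_.mul_assoc, ← mul_pow, hinv, one_pow, _root_.mul_one]
    refine ⟨(pullback.fst ((V i).ι ≫ f) ((V j).ι ≫ f)).appTop ((V i).ι.appLE (V i) ⊤ (le_ι _) b) *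
      ((pullback.snd ((V i).ι ≫ f) ((V j).ι ≫ f)).appTop ((V j).ι.appLE (V j) ⊤ (le_ι _) (a j i))) ^ n, ?_⟩
    have k1 := appTop_comp_ι δ (pullback.fst ((V i).ι ≫ f) ((V j).ι ≫ f)) inf_le_left
      (pullback.lift_fst _ _ _) b
    have k2 := appTop_comp_ι δ (pullback.snd ((V i).ι ≫ f) ((V j).ι ≫ f)) inf_le_right
      (pullback.lift_snd _ _ _) (a j i)
    have k3 : δ.appTop ((pullback.fst ((V i).ι ≫ f) ((V j).ι ≫ f)).appTop
        ((V i).ι.appLE (V i) ⊤ (le_ι _) b) *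
      ((pullback.snd ((V i).ι ≫ f) ((V j).ι ≫ f)).appTop ((V j).ι.appLE (V j) ⊤ (le_ι _) (a j i))) ^ n) =
        (V i ⊓ V j : Y.Opens).ι.appLE (V i ⊓ V j) ⊤ (le_ι _) (rr inf_le_left b * rr inf_le_right (a j i) ^ n) := by
      rw [map_mul, map_pow, k1, k2, map_mul, map_pow]
    rw [ht]
    exact k3

/-- An affine cover `V i` with functions `a i j` on `V i` with non-vanishing locus `V i ⊓ V j` forming
a cocycle: the scheme is separated over an affine base and has an ample module. -/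
theorem separated_and_ample {Y S : Scheme.{u}} [IsAffine S] (f : Y ⟶ S) [CompactSpace Y] {I : Type u}
    (V : I → Y.Opens) (hV : ∀ i, IsAffineOpen (V i)) (hcov : ∀ y : Y, ∃ i, y ∈ V i)
    (a : ∀ i j : I, Γ(Y, V i)) (ha1 : ∀ i, a i i = 1) (hbas : ∀ i j, Y.basicOpen (a i j) = V i ⊓ V j)
    (hcoc : ∀ i j k (T : Y.Opens) (hi : T ≤ V i) (hj : T ≤ V j),
      rr hi (a i j) * rr hj (a j k) = rr hi (a i k)) :
    IsSeparated f ∧ ∃ L : Y.Modules, CohB1.IsAmple L := by
  have hcov' : ⨆ i, V i = ⊤ := top_le_iff.1 fun y _ => Opens.mem_iSup.2 (hcov y)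
  refine ⟨isSeparated_of_cocycle f V hV hcov a hbas fun i j => ?_, ?_⟩
  · rw [hcoc i j i, ha1, map_one]
  · exact Groth.Agent.Grpsch.AmpCocycle.exists_isAmple_of_cocycle V hV hcov' a ha1 hbas
      hcoc

end K688.SepCover
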