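import Groth.Agent.GIT.K688.QuotGlue
import Groth.Agent.GIT.K688.SepCover

/-!
# Functions on universal categorical quotients

* `app_injective`: `Γ(Y, T) → Γ(X, ψ⁻¹T)` is injective for a universal categorical quotient.
* `exists_section_of_chart`: an invariant function on a chart descends.
-/

set_option autoImplicit false

universe u

open CategoryTheory CategoryTheory.Limits MonoidalCategory CartesianMonoidalCategory MonObj AlgebraicGeometry
  TopologicalSpace Opposite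

namespace K688.QuotSec

open K688.ActRes K688.QuotLocal K688.QuotGlue K688.SepCover

/-- Injectivity on global functions for an epimorphism. -/
theorem appTop_injective {X Y : Scheme.{u}} (f : X ⟶ Y) [Epi f] :
    Function.Injective f.appTop.hom := by
  have hm : Mono f.appTop := by
    constructor
    intro T α β h
    have h1 : f ≫ Y.toSpecΓ ≫ Spec.map α = f ≫ Y.toSpecΓ ≫ Spec.map β := by
      rw [Scheme.toSpecΓ_naturality_assoc, Scheme.toSpecΓ_naturality_assoc, ← Spec.map_comp,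
        ← Spec.map_comp, h]
    rw [cancel_epi] at h1
    have h2 := congrArg (fun q => q.appTop) h1
    simp only [Scheme.Hom.comp_appTop, Scheme.toSpecΓ_appTop] at h2
    rw [cancel_mono] at h2
    have h3 := Scheme.ΓSpecIso_naturality α
    have h4 := Scheme.ΓSpecIso_naturality β
    rw [h2, h4] at h3
    exact ((cancel_epi _).mp h3).symm
  exact (ConcreteCategory.mono_iff_injective_of_preservesPullback _).mp hm

theorem appLE_ι_injective {Y : Scheme.{u}} (U : Y.Opens) :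
    Function.Injective (U.ι.appLE U ⊤ (le_ι U)) := by
  have h : U.ι.appLE U ⊤ (le_ι U) = U.topIso.inv := by
    rw [Scheme.Opens.ι_appLE]
    simp [Scheme.Opens.topIso]
    rfl
  rw [h]
  exact (ConcreteCategory.bijective_of_isIso U.topIso.inv).1

/-- Composition of `appLE` at an element. -/
theorem appLE_appLE {X Y Z : Scheme.{u}} (f : X ⟶ Y) (g : Y ⟶ Z) {U : Z.Opens} {V : Y.Opens} {W : X.Opens}
    (e₁ : V ≤ g ⁻¹ᵁ U) (e₂ : W ≤ f ⁻¹ᵁ V) (s : Γ(Z, U)) :
    f.appLE V W e₂ (g.appLE U V e₁ s) = (f ≫ g).appLE U W (e₂.trans (f.preimage_mono e₁)) s :=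
  congrArg (fun φ => φ.hom s) (Scheme.Hom.appLE_comp_appLE f g U V W e₁ e₂)

theorem top_le {X Y : Scheme.{u}} (f : X ⟶ Y) : (⊤ : X.Opens) ≤ f ⁻¹ᵁ ⊤ := le_top

theorem appTop_eq_appLE {X Y : Scheme.{u}} (f : X ⟶ Y) (s : Γ(Y, ⊤)) :
    f.appTop s = f.appLE ⊤ ⊤ (top_le f) s :=
  congrArg (fun φ => φ.hom s) (Scheme.Hom.appLE_eq_app f).symm

theorem appLE_congr_hom {X Y : Scheme.{u}} {f g : X ⟶ Y} (h : f = g) {U : Y.Opens} {V : X.Opens}
    (e : V ≤ f ⁻¹ᵁ U) (e' : V ≤ g ⁻¹ᵁ U) (s : Γ(Y, U)) : f.appLE U V e s = g.appLE U V e' s := by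
  subst h
  rfl

theorem appLE_rr {X Y : Scheme.{u}} (f : X ⟶ Y) {U U' : Y.Opens} {V : X.Opens} (h : U' ≤ U)
    (e : V ≤ f ⁻¹ᵁ U') (s : Γ(Y, U)) :
    f.appLE U' V e (rr h s) = f.appLE U V (e.trans (f.preimage_mono h)) s :=
  congrArg (fun φ => φ.hom s) (Scheme.Hom.map_appLE f e (homOfLE h).op)

theorem rr_appLE {X Y : Scheme.{u}} (f : X ⟶ Y) {U : Y.Opens} {V V' : X.Opens} (h : V' ≤ V)
    (e : V ≤ f ⁻¹ᵁ U) (s : Γ(Y, U)) :
    rr h (f.appLE U V e s) = f.appLE U V' (h.trans e) s :=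
  congrArg (fun φ => φ.hom s) (Scheme.Hom.appLE_map f e (homOfLE h).op)

/-- For an open immersion `j` with range `O`, `Γ(Y, O) → Γ(Z, ⊤)` is surjective. -/
theorem appLE_opensRange_surjective {Z Y : Scheme.{u}} (j : Z ⟶ Y) [IsOpenImmersion j]
    (h : ⊤ ≤ j ⁻¹ᵁ j.opensRange) : Function.Surjective (j.appLE j.opensRange ⊤ h) := by
  intro d
  -- through the isomorphism onto the range
  let e := j.isoOpensRange
  have he : e.hom ≫ j.opensRange.ι = j := j.isoOpensRange_hom_ι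
  obtain ⟨t, ht⟩ := appLE_ι_surjective j.opensRange (e.inv.appTop d)
  refine ⟨t, ?_⟩
  have h1 : e.hom.appLE ⊤ ⊤ (top_le _) (j.opensRange.ι.appLE j.opensRange ⊤ (le_ι _) t) =
      j.appLE j.opensRange ⊤ h t := by
    rw [appLE_appLE]
    exact appLE_congr_hom he _ _ t
  rw [← h1, ht, ← appTop_eq_appLE]
  have h2 : e.hom.appTop (e.inv.appTop d) = (e.hom ≫ e.inv).appTop d := by
    rw [Scheme.Hom.comp_appTop]
    rfl
  rw [h2, e.hom_inv_id]
  simp

variable {S : Scheme.{u}} {G : Over S} [GrpObj G]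

/-- Functions on a universal categorical quotient are determined upstairs. -/
theorem app_injective {X Y : Over S} {a : AlgGrp.Action G X} {ψ : X ⟶ Y} (h : GIT.IsUnivCatQuot a ψ)
    (T : Y.left.Opens) {V : X.left.Opens} (hV : V ≤ ψ.left ⁻¹ᵁ T) (hV' : ψ.left ⁻¹ᵁ T ≤ V) :
    Function.Injective (ψ.left.appLE T V hV) := by
  obtain ⟨a', ha'⟩ := exists_aW a ψ h.1.1 T
  have h1 : GIT.IsUnivCatQuot a' (phiW ψ T) :=
    h.baseChange (isPullback_phiW ψ T) ha' (isInvariant_phiW h.1.1 ha')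
  have h2 : Epi (phiW ψ T).left := epi_left_of_isCatQuot h1.1
  have h3 := appTop_injective (phiW ψ T).left
  intro s t hst
  apply appLE_ι_injective T
  apply h3
  have key : ∀ s : Γ(Y.left, T), (phiW ψ T).left.appTop (T.ι.appLE T ⊤ (le_ι T) s) =
      (ψ.left ⁻¹ᵁ T).ι.appLE V ⊤ ((le_ι _).trans ((ψ.left ⁻¹ᵁ T).ι.preimage_mono hV'))
        (ψ.left.appLE T V hV s) := by
    intro s
    rw [appTop_eq_appLE, appLE_appLE, appLE_appLE]
    exact appLE_congr_hom (morphismRestrict_ι ψ.left T) _ _ s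
  exact (key s).trans ((congrArg _ hst).trans (key t).symm)

/-- An invariant function on a chart descends. -/
theorem exists_section_of_chart {X Y Y₁ : Over S} {V : X.left.Opens} {φ : op X V ⟶ Y₁} {ψ : X ⟶ Y}
    {j : Y₁ ⟶ Y} [IsOpenImmersion j.left] (hj : inc X V ≫ ψ = φ ≫ j)
    (hV : V ≤ ψ.left ⁻¹ᵁ j.left.opensRange) (c : Γ(X.left, V)) (d : Γ(Y₁.left, ⊤))
    (hd : φ.left.appTop d = V.ι.appLE V ⊤ (le_ι V) c) :
    ∃ a : Γ(Y.left, j.left.opensRange), ψ.left.appLE _ V hV a = c := by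
  have hle : ⊤ ≤ j.left ⁻¹ᵁ j.left.opensRange := fun z _ => ⟨z, rfl⟩
  obtain ⟨a, ha⟩ := appLE_opensRange_surjective j.left hle d
  refine ⟨a, appLE_ι_injective V ?_⟩
  refine (appLE_appLE V.ι ψ.left hV (le_ι V) a).trans ?_
  have e1 : V.ι ≫ ψ.left = φ.left ≫ j.left := congrArg (fun q : op X V ⟶ Y => q.left) hj
  have hle2 : ⊤ ≤ (φ.left ≫ j.left) ⁻¹ᵁ j.left.opensRange := fun z _ => ⟨φ.left z, rfl⟩
  refine (appLE_congr_hom e1 _ hle2 a).trans ?_
  rw [← hd, ← ha, appTop_eq_appLE]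
  exact (appLE_appLE φ.left j.left hle (top_le _) a).symm

end K688.QuotSec
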