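import Groth.Agent.S3589
import Groth.Agent.Ega1.AmpFam
import Groth.Agent.Fdesc.LocGenPullback
import Groth.Agent.Ega2.VeryAmpleAmple
import Groth.Agent.Ega2.H296.PnGen
import Mathlib.LinearAlgebra.Dual.Lemmas

/-!
# Linear forms as sections of `O(1)`, and their zeros at rational points

* `lin c`: the section `Σ c_i T_i` of `O(1)` on projective space over a field.
* `mem_genLocus_lin`: at a rational point `x` it does not vanish iff `c ∉ secKernel x`.
* `exists_separating`: two distinct rational points are separated by a hyperplane.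
-/

set_option autoImplicit false
universe u
open CategoryTheory CategoryTheory.Limits AlgebraicGeometry TopologicalSpace Opposite

namespace K688.HypPt

open Groth.Agent Groth.Agent.Fdesc.LocGen

section Field

variable {k : Type u} [Field k]

theorem isField_Γ : IsField Γ(Spec (CommRingCat.of k), ⊤) :=
  MulEquiv.isField (Field.toIsField k) (Scheme.ΓSpecIso (CommRingCat.of k)).commRingCatIsoToRingEquiv.toMulEquiv

theorem eq_top_of_mem {U : (Spec (CommRingCat.of k)).Opens} {p : Spec (CommRingCat.of k)} (hp : p ∈ U) : U = ⊤ := by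
  rw [eq_top_iff]
  intro q _
  rwa [Subsingleton.elim q p]

theorem exists_isGen {L : (Spec (CommRingCat.of k)).Modules} (hL : PicF.IsInvertible L) :
    ∃ e : Γ(L, ⊤), IsGen e := by
  obtain ⟨U, e, hU, he⟩ := (isInvertible_iff L).mp hL (IsLocalRing.closedPoint k)
  obtain rfl := eq_top_of_mem hU
  exact ⟨e, he⟩

theorem isGen_iff_ne_zero {L : (Spec (CommRingCat.of k)).Modules} (hL : PicF.IsInvertible L) (m : Γ(L, ⊤)) :
    IsGen m ↔ m ≠ 0 := by
  constructor
  · rintro h rfl
    have h1 : (1 : Γ(Spec (CommRingCat.of k), ⊤)) = 0 := h.ext (by rw [smul_zero, smul_zero])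
    exact one_ne_zero h1
  · intro h
    obtain ⟨e, he⟩ := exists_isGen hL
    obtain ⟨a, rfl⟩ := he.exists_eq m
    refine he.unit_smul ?_
    have ha : a ≠ 0 := by
      rintro rfl
      exact h (zero_smul _ _)
    obtain ⟨b, hb⟩ := isField_Γ.mul_inv_cancel ha
    exact IsUnit.of_mul_eq_one b hb

theorem mem_genLocus_spec {L : (Spec (CommRingCat.of k)).Modules} (hL : PicF.IsInvertible L)
    (t : Coh.structureModule _ ⟶ L) (p : Spec (CommRingCat.of k)) :
    p ∈ CohB1.genLocus L t ↔ sec t ⊤ ≠ 0 := by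
  rw [← isGen_iff_ne_zero hL, mem_genLocus_iff]
  constructor
  · rintro ⟨V, hV, h⟩
    obtain rfl := eq_top_of_mem hV
    exact h
  · intro h
    exact ⟨⊤, trivial, h⟩

end Field

variable {k : Type u} [Field k] {m : ℕ}

/-- the linear form `Σ c_i T_i` as a section of `O(1)` -/
noncomputable def lin (c : Fin (m + 1) → k) : Γ(Twist.twistProjSpace m k 1, ⊤) :=
  ∑ i, ((CohB1.ProjSpace.toSpec m k).appTop ((Scheme.ΓSpecIso (CommRingCat.of k)).inv (c i)) :
    Γ(CohB1.ProjSpace m k, ⊤)) • (ProjUP.coord m k i : Γ(Twist.twistProjSpace m k 1, ⊤))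

/-- the linear form as a morphism -/
noncomputable def linHom (c : Fin (m + 1) → k) :
    Coh.structureModule (CohB1.ProjSpace m k) ⟶ Twist.twistProjSpace m k 1 := homOf (lin c)

theorem pullTop_sum {X Y : Scheme.{u}} (f : X ⟶ Y) {M : Y.Modules} {ι : Type*} (s : Finset ι) (v : ι → Γ(M, ⊤)) :
    pullTop f (∑ i ∈ s, v i) = ∑ i ∈ s, pullTop f (v i) :=
  map_sum (((Scheme.Modules.pullbackPushforwardAdjunction f).unit.app M).app ⊤).hom v s

theorem pullTop_smul {X Y : Scheme.{u}} (f : X ⟶ Y) {M : Y.Modules} (a : Γ(Y, ⊤)) (v : Γ(M, ⊤)) :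
    pullTop f (a • v) = (f.appTop a : Γ(X, ⊤)) • pullTop f v :=
  pullSec_smul f a v

theorem pullTop_lin (x : Spec (CommRingCat.of k) ⟶ CohB1.ProjSpace m k)
    (hx : x ≫ CohB1.ProjSpace.toSpec m k = 𝟙 _) (c : Fin (m + 1) → k) :
    pullTop x (lin c) = ∑ i, ((Scheme.ΓSpecIso (CommRingCat.of k)).inv (c i) : Γ(Spec (CommRingCat.of k), ⊤)) •
      pullTop x (ProjUP.coord m k i : Γ(Twist.twistProjSpace m k 1, ⊤)) := by
  rw [lin, pullTop_sum]
  refine Finset.sum_congr rfl fun i _ => ?_
  rw [pullTop_smul]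
  congr 1
  have h : (CohB1.ProjSpace.toSpec m k).appTop ≫ x.appTop = 𝟙 _ := by
    rw [← Scheme.Hom.comp_appTop, hx, Scheme.Hom.id_appTop]
  exact congrArg (fun φ => φ.hom ((Scheme.ΓSpecIso (CommRingCat.of k)).inv (c i))) h

theorem mem_secKernel_iff (x : Spec (CommRingCat.of k) ⟶ CohB1.ProjSpace m k)
    (hx : x ≫ CohB1.ProjSpace.toSpec m k = 𝟙 _) (c : Fin (m + 1) → k) :
    c ∈ ProjUP.secKernel m k x ↔ pullTop x (lin c) = 0 := by
  rw [S3589.mem_secKernel_iff, pullTop_lin x hx]
  rfl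

theorem isInvertible_twist : PicF.IsInvertible (Twist.twistProjSpace m k 1) :=
  Ega2.VeryAmpleAmple.isInvertible_twistProjSpace m k 1

theorem mem_genLocus_lin (x : Spec (CommRingCat.of k) ⟶ CohB1.ProjSpace m k)
    (hx : x ≫ CohB1.ProjSpace.toSpec m k = 𝟙 _) (c : Fin (m + 1) → k) (p : Spec (CommRingCat.of k)) :
    x p ∈ CohB1.genLocus _ (linHom c) ↔ c ∉ ProjUP.secKernel m k x := by
  have h1 : x p ∈ CohB1.genLocus _ (linHom c) ↔ p ∈ CohB1.genLocus _ (pullHom x (linHom c)) := by
    rw [Ega1.AmpFam.genLocus_pullHom x isInvertible_twist]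
    rfl
  have h2 : sec (pullHom x (linHom c)) ⊤ = pullTop x (lin c) := by
    have := sec_pullHom x (linHom c) ⊤
    rw [linHom, sec_homOf, res_refl] at this
    exact this
  rw [h1, mem_genLocus_spec (isInvertible_pullback x isInvertible_twist), h2, Ne,
    ← mem_secKernel_iff x hx]

section Dual

/-- the functional whose kernel is `secKernel x` -/
theorem exists_dual (x : Spec (CommRingCat.of k) ⟶ CohB1.ProjSpace m k)
    (hx : x ≫ CohB1.ProjSpace.toSpec m k = 𝟙 _) :
    ∃ ℓ : Module.Dual k (Fin (m + 1) → k), ProjUP.secKernel m k x = LinearMap.ker ℓ := by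
  obtain ⟨e, he⟩ := exists_isGen (isInvertible_pullback x (isInvertible_twist (k := k) (m := m)))
  choose a ha using fun i => he.exists_eq (pullTop x (ProjUP.coord m k i : Γ(Twist.twistProjSpace m k 1, ⊤)))
  let φ : k →+* Γ(Spec (CommRingCat.of k), ⊤) := (Scheme.ΓSpecIso (CommRingCat.of k)).inv.hom
  have hφ : Function.Bijective φ := ConcreteCategory.bijective_of_isIso (Scheme.ΓSpecIso (CommRingCat.of k)).inv
  choose b hb using fun i => hφ.2 (a i)
  refine ⟨Fintype.linearCombination k b, ?_⟩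
  ext c
  rw [mem_secKernel_iff x hx, LinearMap.mem_ker, Fintype.linearCombination_apply, pullTop_lin x hx]
  have h1 : ∑ i, ((Scheme.ΓSpecIso (CommRingCat.of k)).inv (c i) : Γ(Spec (CommRingCat.of k), ⊤)) •
      pullTop x (ProjUP.coord m k i : Γ(Twist.twistProjSpace m k 1, ⊤)) = φ (∑ i, c i • b i) • e := by
    rw [map_sum, Finset.sum_smul]
    refine Finset.sum_congr rfl fun i _ => ?_
    rw [ha i, smul_smul, smul_eq_mul, map_mul, hb]
  rw [h1]
  constructor
  · intro h
    have h2 : φ (∑ i, c i • b i) = 0 := he.ext (by rw [h, zero_smul])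
    exact (map_eq_zero_iff φ hφ.1).1 h2
  · intro h
    rw [h, map_zero, zero_smul]

theorem exists_notMem (x : Spec (CommRingCat.of k) ⟶ CohB1.ProjSpace m k) : ∃ c, c ∉ ProjUP.secKernel m k x := by
  by_contra! hcon
  obtain ⟨e, he⟩ := exists_isGen (isInvertible_pullback x (isInvertible_twist (k := k) (m := m)))
  obtain ⟨c, hc⟩ := Ega2.H296.PnGen.evalMap_surjective (A := CommRingCat.of k) x e
  have h1 := (Ega2.H296.PnGen.mem_secKernel_iff x c).1 (hcon c)
  rw [hc] at h1
  exact (isGen_iff_ne_zero (isInvertible_pullback x isInvertible_twist) e).1 he h1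

/-- two distinct rational points are separated by a hyperplane through the first -/
theorem exists_separating (x y : Spec (CommRingCat.of k) ⟶ CohB1.ProjSpace m k)
    (hx : x ≫ CohB1.ProjSpace.toSpec m k = 𝟙 _) (hy : y ≫ CohB1.ProjSpace.toSpec m k = 𝟙 _) (hne : x ≠ y) :
    ∃ c, c ∈ ProjUP.secKernel m k x ∧ c ∉ ProjUP.secKernel m k y := by
  by_contra! hcon
  apply hne
  refine S3589.result m x y hx hy ?_
  obtain ⟨ℓ, hℓ⟩ := exists_dual x hx
  obtain ⟨ℓ', hℓ'⟩ := exists_dual y hy
  have hle : ProjUP.secKernel m k x ≤ ProjUP.secKernel m k y := hcon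
  refine Submodule.eq_of_le_of_finrank_eq hle ?_
  have h0 : ∀ (z : Spec (CommRingCat.of k) ⟶ CohB1.ProjSpace m k)
      (l : Module.Dual k (Fin (m + 1) → k)), ProjUP.secKernel m k z = LinearMap.ker l → l ≠ 0 := by
    rintro z l hl rfl
    obtain ⟨c, hc⟩ := exists_notMem z
    rw [hl] at hc
    exact hc (by simp)
  have h1 := Module.Dual.finrank_ker_add_one_of_ne_zero (h0 x ℓ hℓ)
  have h2 := Module.Dual.finrank_ker_add_one_of_ne_zero (h0 y ℓ' hℓ')
  rw [hℓ, hℓ']
  omega

end Dual

end K688.HypPt
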