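import Groth.Agent.GIT.K688.CutCount
import Groth.Agent.GIT.K688.HypPt
import Groth.Agent.AbVar.K518.AVNum
import Groth.Agent.AbVar.K518.Points
import Groth.Agent.Fdesc.IntegralFib

/-!
# Torsion points of an abelian variety on an effective divisor

`A` an abelian variety of dimension `g + 1` over an algebraically closed field, `M` an invertible module with
sections separating points, `t` a nonzero section of an invertible module `T`: at most `n^{2g} (T · M^g)` points of
`A` killed by `n` are zeros of `t`.
-/

set_option autoImplicit false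
universe u

open CategoryTheory Limits MonoidalCategory CartesianMonoidalCategory AlgebraicGeometry TopologicalSpace
open scoped MonObj
open Groth.Agent.Grpsch.PicGrp Groth.Agent.Grpsch.Cube
open K518.Phi K518.AVNum K518.Points

namespace K688.AbTors

open Groth.Agent Groth.Agent.Fdesc.LocGen Groth.Agent.Fga.RegSec Groth.Agent.Fga.PicMon

variable {k : Type u} [Field k] [IsAlgClosed k] {A : Over (Spec (CommRingCat.of k))} [GrpObj A] [IsProper A.hom]
  [GeometricallyIntegral A.hom]

section Num

omit [IsAlgClosed k] [IsProper A.hom] [GeometricallyIntegral A.hom] in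
theorem isMonHom_pow [IsCommMonObj A] (n : ℕ) : IsMonHom (𝟙 A ^ n : A ⟶ A) := by
  induction n with
  | zero =>
    rw [pow_zero]
    exact (EndAV.Hom.isMonHom_toHom (0 : EndAV.Hom A A))
  | succ n ih =>
    rw [pow_succ]
    exact isMonHom_mul _ _

/-- `[n]^* x ≡ n² x` modulo translation-invariant classes -/
theorem pull_mul_inv_mem (n : ℕ) (x : Pic A.left) : pl (𝟙 A ^ n) x * (x ^ (n ^ 2))⁻¹ ∈ Inv A := by
  have : IsCommMonObj A := isCommMonObj_of_isProper_of_geometricallyIntegral A
  have hmon : IsMonHom (𝟙 A ^ n : A ⟶ A) := isMonHom_pow n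
  rw [← phi_eq_iff]
  intro p
  rw [phi_pl, phi_pow_left, MonObj.comp_pow, Category.comp_id, phi_pow, map_pow,
    pl_pow_of_inv (phi_mem_Inv x p), pl_id, ← pow_mul, ← sq]

theorem J_pull {g : ℕ} (hg : topologicalKrullDim A.left = (g + 1 : ℕ)) (n : ℕ) (x y : Pic A.left) :
    JA hg (Fin.cons (Additive.ofMul y) (fun _ : Fin g => Additive.ofMul (pl (𝟙 A ^ n) x))) =
      n ^ (2 * g) * JA hg (Fin.cons (Additive.ofMul y) (fun _ : Fin g => Additive.ofMul x)) := by
  let t : Additive (Pic A.left) := Additive.ofMul (pl (𝟙 A ^ n) x * (x ^ (n ^ 2))⁻¹)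
  have h1 : (Fin.cons (Additive.ofMul y) (fun _ : Fin g => Additive.ofMul (pl (𝟙 A ^ n) x)) :
      Fin (g + 1) → Additive (Pic A.left)) =
      fun i => (Fin.cons (Additive.ofMul y) (fun _ : Fin g => ((n : ℤ) ^ 2) • Additive.ofMul x) :
        Fin (g + 1) → Additive (Pic A.left)) i + (Fin.cons 0 (fun _ : Fin g => t) :
        Fin (g + 1) → Additive (Pic A.left)) i := by
    funext i
    cases i using Fin.cases with
    | zero => simp
    | succ i =>
      simp only [Fin.cons_succ]
      have h2 : ((n : ℤ) ^ 2) • Additive.ofMul x = Additive.ofMul (x ^ (n ^ 2)) := by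
        rw [ofMul_pow]
        exact_mod_cast natCast_zsmul (Additive.ofMul x) (n ^ 2)
      rw [h2]
      change Additive.ofMul (pl (𝟙 A ^ n) x) =
        Additive.ofMul (x ^ (n ^ 2) * (pl (𝟙 A ^ n) x * (x ^ (n ^ 2))⁻¹))
      congr 1
      rw [mul_comm, inv_mul_cancel_right]
  rw [h1, K518.MulPoly.map_add_null (JA hg) {t | t.toMul ∈ Inv A}
    (fun t ht c i => J_eq_zero_of_inv hg _ i (by rw [Function.update_self]; exact ht))]
  · have h3 : (Fin.cons (Additive.ofMul y) (fun _ : Fin g => ((n : ℤ) ^ 2) • Additive.ofMul x) :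
        Fin (g + 1) → Additive (Pic A.left)) =
        fun i => (Fin.cons 1 (fun _ : Fin g => (n : ℤ) ^ 2) : Fin (g + 1) → ℤ) i •
          (Fin.cons (Additive.ofMul y) (fun _ : Fin g => Additive.ofMul x) :
            Fin (g + 1) → Additive (Pic A.left)) i := by
      funext i
      cases i using Fin.cases with
      | zero => simp
      | succ i => simp
    rw [h3, MultilinearMap.map_smul_univ, Fin.prod_univ_succ]
    simp only [Fin.cons_zero, Fin.cons_succ, Finset.prod_const, Finset.card_univ, Fintype.card_fin, one_mul,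
      smul_eq_mul]
    rw [← pow_mul]
  · intro i
    cases i using Fin.cases with
    | zero => exact (Inv A).one_mem
    | succ i => exact pull_mul_inv_mem n x

end Num

section Count

omit [GrpObj A] [GeometricallyIntegral A.hom] in
/-- a non-closed point specializes to a rational point different from a given one -/
theorem exists_pt_ne (y : A.left) (hy : ¬ IsClosed ({y} : Set A.left)) (o : Pt A) :
    ∃ p : Pt A, o ≠ p ∧ y ⤳ pt p := by
  have hJ : JacobsonSpace A.left := LocallyOfFiniteType.jacobsonSpace (Y := Spec _) A.hom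
  by_contra! hcon
  have h1 : closure (closure {y} ∩ closedPoints A.left) = closure {y} :=
    closure_inter_closedPoints isClosed_closure
  have h2 : closure {y} ∩ closedPoints A.left ⊆ {pt o} := by
    rintro z ⟨hz, hzc⟩
    obtain ⟨p, hp⟩ := exists_pt z hzc
    by_contra hne
    refine hcon p ?_ ?_
    · rintro rfl
      exact hne hp.symm
    · rw [specializes_iff_mem_closure]
      change p.left (IsLocalRing.closedPoint k) ∈ _
      rw [hp]
      exact hz
  have h3 : closure {y} ⊆ {pt o} := by
    rw [← h1]
    exact closure_minimal h2 (isClosed_pt o)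
  have h4 : y = pt o := h3 (subset_closure rfl)
  rw [h4] at hy
  exact hy (isClosed_pt o)

/-- a finite morphism maps non-closed points to non-closed points -/
theorem not_isClosed_map {X Y : Scheme.{u}} (f : X ⟶ Y) [IsFinite f] (y : X) (hy : ¬ IsClosed ({y} : Set X)) :
    ¬ IsClosed ({f y} : Set Y) := by
  intro h
  apply hy
  have h1 : IsClosed (f ⁻¹' {f y}) := h.preimage f.continuous
  rw [← closure_subset_iff_isClosed]
  intro z hz
  have h2 : z ∈ f ⁻¹' {f y} := (closure_minimal (by intro w hw; rw [Set.mem_singleton_iff.1 hw]; rfl) h1) hz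
  have h3 : y ⤳ z := specializes_iff_mem_closure.2 hz
  exact (Groth.Agent.Fdesc.IntegralFib.eq_of_specializes_of_isIntegralHom f h3 h2.symm).symm

variable {g : ℕ} (hg : topologicalKrullDim A.left = (g + 1 : ℕ))

/-- **Torsion points on an effective divisor.** -/
theorem card_le (n : ℕ) (hn : 1 ≤ n) {M T : A.left.Modules} (hM : PicF.IsInvertible M) (hT : PicF.IsInvertible T)
    (Hsep : ∀ p q : Pt A, p ≠ q → ∃ s : Coh.structureModule A.left ⟶ M, pt p ∉ CohB1.genLocus M s ∧
      pt q ∈ CohB1.genLocus M s)
    (t : Coh.structureModule A.left ⟶ T) (ht : CohB1.genLocus T t ≠ ⊥) (E : Finset A.left)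
    (hE : ∀ e ∈ E, e ∉ CohB1.genLocus T t ∧ ∃ x : Pt A, x ^ n = 1 ∧ pt x = e) :
    (E.card : ℤ) ≤ n ^ (2 * g) * JA hg (Fin.cons (Additive.ofMul (mk T hT))
      (fun _ : Fin g => Additive.ofMul (mk M hM))) := by
  have hint : IsIntegral A.left := K518.Basic.isIntegral_left A
  have nA : AlgebraicGeometry.IsNoetherian A.left := Fga.HypSec.isNoetherian k A.left
  have hfin : IsFinite (𝟙 A ^ n : A ⟶ A).left := by
    have h := (S1842.result k A (g + 1) hg n (by exact_mod_cast (by omega : n ≠ 0))).1
    rwa [zpow_natCast] at h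
  set f : A.left ⟶ A.left := (𝟙 A ^ n : A ⟶ A).left with hf
  have hN : PicF.IsInvertible ((Scheme.Modules.pullback f).obj M) := isInvertible_pullback f hM
  have hN' := isInvertible_dual hN
  have hT' := isInvertible_dual hT
  have hd : topologicalKrullDim A.left ≤ ((g + 1 : ℕ) : WithBot ℕ∞) := hg.le
  have hmul : ∀ {L : A.left.Modules}, PicF.IsInvertible L → mc (dual L) * mc L = 1 := fun {L} hL => by
    rw [mul_comm, ← mc_tensor, ← mc_one]
    exact mc_eq (@asIso _ _ _ _ (ev L) (isIso_ev hL))
  have hO : Coh.IsCoh (Coh.structureModule A.left) := CurvesC.UnitCoh.isCoh_unit A.left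
  have hTO : Coh.IsCoh (CohB1.tensorMod T (Coh.structureModule A.left)) :=
    Sga67.CohBasic.isCoh_of_iso (Ega2.Tens.swap _ _) (Fga.TwistCoh.isCoh_tensor hO hT)
  have hmono : Mono (mulS t (Coh.structureModule A.left)) :=
    mulS_mono t _ hO (Sga67.CohBasic.isCoh_kernel _ hO hTO.1).1 (K518.IntPos.ass_subset_genLocus hT t ht)
  -- the cut
  have hcut := CutCount.cut k (g + 1) hd hT hT' (hmul hT) t (Coh.structureModule A.left) hO hmono
    (fun _ : Fin g => dual ((Scheme.Modules.pullback f).obj M)) (fun _ => hN')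
  have hJ : JA hg (Fin.cons (Additive.ofMul (mk T hT)) (fun _ : Fin g => Additive.ofMul (pl (𝟙 A ^ n) (mk M hM)))) =
      FGA.intNum k A.left (g + 1) (Fin.cons (dual T) (fun _ : Fin g => dual ((Scheme.Modules.pullback f).obj M)) :
        Fin (g + 1) → A.left.Modules) (Coh.structureModule A.left) := by
    rw [K518.IntMul.J_apply]
    have hinv : ∀ i, PicF.IsInvertible ((Fin.cons (dual T) (fun _ : Fin g => dual ((Scheme.Modules.pullback f).obj M)) :
        Fin (g + 1) → A.left.Modules) i) := by
      intro i
      cases i using Fin.cases with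
      | zero => exact hT'
      | succ i => exact hN'
    rw [Pic13.H970.IntForm.intNum_eq k A.left (g + 1) _ _ hinv]
    congr 1
    funext i
    cases i using Fin.cases with
    | zero => rfl
    | succ i => rfl
  rw [← J_pull hg n, hJ, hcut]
  -- support of the divisor
  have hsupp : CohB1.support (CohB1.tensorMod (dual T) (cokernel (mulS t (Coh.structureModule A.left)))) =
      (CohB1.genLocus T t : Set A.left)ᶜ := by
    rw [CutCount.support_cut hT hT' (hmul hT) t _ hO, K518.IntMul.support_unit, Set.compl_eq_univ_sdiff]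
  have hgen : genericPoint A.left ∈ CohB1.genLocus T t := by
    rw [Ne, ← Opens.not_nonempty_iff_eq_bot, not_not] at ht
    obtain ⟨z, hz⟩ := ht
    exact (genericPoint_specializes z).mem_open (CohB1.genLocus T t).isOpen hz
  have hcl : closure ({genericPoint A.left} : Set A.left) = Set.univ := (genericPoint_spec A.left).def
  have hdim : topologicalKrullDim
      (CohB1.support (CohB1.tensorMod (dual T) (cokernel (mulS t (Coh.structureModule A.left))))) ≤ (g : ℕ) := by
    rw [hsupp]
    have hlt := Fga.DimLt.topologicalKrullDim_lt (d := g + 1) (A := (Set.univ : Set A.left))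
      (IrreducibleSpace.isIrreducible_univ A.left) (CohB1.genLocus T t).isOpen.isClosed_compl (Set.subset_univ _)
      (fun h => by
        have h5 : genericPoint A.left ∈ (CohB1.genLocus T t : Set A.left)ᶜ := by
          rw [h]; trivial
        exact h5 hgen) (by
        rw [(Homeomorph.Set.univ A.left).isHomeomorph.topologicalKrullDim_eq, hg]
        exact_mod_cast Nat.lt_succ_self _)
    exact Fga.DimCut.le_of_not_succ_le (not_le.mpr hlt)
  have hEcl : ∀ e ∈ E, IsClosed ({e} : Set A.left) := by
    intro e he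
    obtain ⟨-, x, -, rfl⟩ := hE e he
    exact isClosed_pt x
  have hmain := CutCount.card_le_intNum k (g + 1) hd hN hN' (hmul hN) E hEcl ?_ g _
    (CutCount.isCoh_cut hT hT' t _ hO) hdim
  · refine le_trans ?_ hmain
    have hsub : E ⊆ DevCount.ptsOn E g
        (CohB1.support (CohB1.tensorMod (dual T) (cokernel (mulS t (Coh.structureModule A.left))))) := by
      intro e he
      rw [DevCount.mem_ptsOn]
      refine ⟨he, ?_⟩
      obtain ⟨U, hxU, e', a, -, -, ha, -⟩ := exists_gen_of_not_mem t hT (hE e he).1
      obtain ⟨x, hx, hxd, hxe⟩ := CutCount.exists_component k (genericPoint A.left) e g (by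
        rw [hcl, (Homeomorph.Set.univ A.left).isHomeomorph.topologicalKrullDim_eq, hg]) (CohB1.genLocus T t) hgen
        (hEcl e he) (genericPoint_specializes e) ⟨U, hxU, a, ha⟩ (hE e he).1
      refine ⟨x, ?_, hxd, hxe⟩
      rw [hsupp]
      exact hx.2
    exact_mod_cast Finset.card_le_card hsub
  · intro y hy
    obtain ⟨p, hp, hyp⟩ := exists_pt_ne (f y) (not_isClosed_map f y hy) 1
    obtain ⟨s, hs1, hs2⟩ := Hsep 1 p hp
    refine ⟨pullHom f s, ?_, fun e he => ?_⟩
    · rw [Ega1.AmpFam.genLocus_pullHom f hM s]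
      exact hyp.mem_open (CohB1.genLocus M s).isOpen hs2
    · rw [Ega1.AmpFam.genLocus_pullHom f hM s]
      obtain ⟨-, x, hx, rfl⟩ := hE e he
      intro h
      apply hs1
      have h2 : f (pt x) = pt (1 : Pt A) := by
        rw [← hx, hf, ← pt_comp, MonObj.comp_pow, Category.comp_id]
      rw [← h2]
      exact h

end Count

end K688.AbTors
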