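import Groth.Prelude.Def_W4bk4git07Quot
import Groth.Agent.GIT.K689.SchGlue
import Mathlib.AlgebraicGeometry.PullbackCarrier

/-!
# Restricting an action along a monomorphism; invariant opens; restricted quotient maps

* `ofMono`: an action restricts along a monomorphism `j` when it factors.
* `exists_restrict`: an action restricts to an open immersion with invariant range.
* `XO a φ W`, `prW`, `phiW`, `aW`: the restriction of an invariant `φ : X ⟶ Y` over an open `W` of `Y`.
-/

set_option autoImplicit false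

universe u

open CategoryTheory CategoryTheory.Limits MonoidalCategory CartesianMonoidalCategory MonObj AlgebraicGeometry

namespace K688.ActRes

variable {S : Scheme.{u}} {G X Y : Over S} [GrpObj G]

/-- An action restricts along a monomorphism. -/
noncomputable def ofMono (a : AlgGrp.Action G X) {X' : Over S} (j : X' ⟶ X) [Mono j] (m : G ⊗ X' ⟶ X')
    (h : m ≫ j = (G ◁ j) ≫ a.act) : AlgGrp.Action G X' where
  act := m
  one_act := by
    rw [← cancel_mono j, Category.assoc, h, ← whisker_exchange_assoc, a.one_act, leftUnitor_naturality]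
  mul_act := by
    rw [← cancel_mono j]
    simp only [Category.assoc, h]
    rw [← whisker_exchange_assoc, a.mul_act, ← whiskerLeft_comp_assoc, h, whiskerLeft_comp_assoc]
    simp

theorem mono_of_isOpenImmersion {X' : Over S} (j : X' ⟶ X) [IsOpenImmersion j.left] : Mono j :=
  Over.mono_of_mono_left j

/-- An action restricts to an open immersion with invariant range. -/
theorem exists_restrict (a : AlgGrp.Action G X) {X' : Over S} (j : X' ⟶ X) [IsOpenImmersion j.left]
    (h : ∀ z : (G ⊗ X).left, (snd G X).left z ∈ Set.range j.left → a.act.left z ∈ Set.range j.left) :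
    ∃ a' : AlgGrp.Action G X', a'.act ≫ j = (G ◁ j) ≫ a.act := by
  have := mono_of_isOpenImmersion j
  have hr : Set.range ((G ◁ j) ≫ a.act).left ⊆ Set.range j.left := by
    rintro _ ⟨z, rfl⟩
    have h1 := h ((G ◁ j).left z) (by
      have h2 : (G ◁ j).left ≫ (snd G X).left = (snd G X').left ≫ j.left := by
        rw [← Over.comp_left, ← Over.comp_left, whiskerLeft_snd]
      refine ⟨(snd G X').left z, ?_⟩
      rw [← Scheme.Hom.comp_apply, ← Scheme.Hom.comp_apply, h2])
    have h3 : ((G ◁ j) ≫ a.act).left z = a.act.left ((G ◁ j).left z) := by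
      rw [Over.comp_left, Scheme.Hom.comp_apply]
    rw [h3]
    exact h1
  let m0 := IsOpenImmersion.lift j.left ((G ◁ j) ≫ a.act).left hr
  have hm0 : m0 ≫ j.left = ((G ◁ j) ≫ a.act).left := IsOpenImmersion.lift_fac _ _ _
  let m : G ⊗ X' ⟶ X' := Over.homMk m0 (by
    rw [← Over.w j, ← Category.assoc, hm0, Over.w])
  exact ⟨ofMono a j m (by ext1; exact hm0), by ext1; exact hm0⟩

theorem act_ext {a a' : AlgGrp.Action G X} (h : a.act = a'.act) : a = a' := by
  cases a; cases a'; cases h; rfl

/-- The restricted action is unique. -/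
theorem restrict_unique {a : AlgGrp.Action G X} {X' : Over S} (j : X' ⟶ X) [Mono j]
    {a₁ a₂ : AlgGrp.Action G X'} (h₁ : a₁.act ≫ j = (G ◁ j) ≫ a.act)
    (h₂ : a₂.act ≫ j = (G ◁ j) ≫ a.act) : a₁ = a₂ :=
  act_ext (by rw [← cancel_mono j, h₁, h₂])

section Open

/-- The open subscheme over `S`. -/
noncomputable abbrev op (X : Over S) (W : X.left.Opens) : Over S := Over.mk (W.ι ≫ X.hom)

/-- The inclusion of an open subscheme. -/
noncomputable abbrev inc (X : Over S) (W : X.left.Opens) : op X W ⟶ X := Over.homMk W.ι rfl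

instance (X : Over S) (W : X.left.Opens) : IsOpenImmersion (inc X W).left :=
  inferInstanceAs (IsOpenImmersion W.ι)

instance (X : Over S) (W : X.left.Opens) : Mono (inc X W) := mono_of_isOpenImmersion _

/-- The inclusion of opens. -/
noncomputable abbrev incLE (X : Over S) {W W' : X.left.Opens} (h : W ≤ W') : op X W ⟶ op X W' :=
  Over.homMk (X.left.homOfLE h) (by simp)

@[reassoc]
lemma incLE_inc (X : Over S) {W W' : X.left.Opens} (h : W ≤ W') : incLE X h ≫ inc X W' = inc X W := by
  ext1
  simp

/-- The restriction of `φ` over an open of the target. -/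
noncomputable abbrev phiW (φ : X ⟶ Y) (W : Y.left.Opens) : op X (φ.left ⁻¹ᵁ W) ⟶ op Y W :=
  Over.homMk (φ.left ∣_ W) (by
    change (φ.left ∣_ W) ≫ W.ι ≫ Y.hom = (φ.left ⁻¹ᵁ W).ι ≫ X.hom
    rw [morphismRestrict_ι_assoc, Over.w φ])

@[reassoc]
lemma phiW_inc (φ : X ⟶ Y) (W : Y.left.Opens) : phiW φ W ≫ inc Y W = inc X _ ≫ φ := by
  ext1
  exact morphismRestrict_ι φ.left W

/-- A commutative square in `Over S` is cartesian if the underlying square of schemes is. -/
theorem isPullback_of_left {A B C D : Over S} {f : A ⟶ B} {g : A ⟶ C} {h : B ⟶ D} {k : C ⟶ D}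
    (H : IsPullback f.left g.left h.left k.left) : IsPullback f g h k := by
  have w : f ≫ h = g ≫ k := by
    ext1
    exact H.w
  exact IsPullback.of_map (Over.forget S) w H

theorem isPullback_phiW (φ : X ⟶ Y) (W : Y.left.Opens) :
    IsPullback (inc X (φ.left ⁻¹ᵁ W)) (phiW φ W) φ (inc Y W) :=
  isPullback_of_left (isPullback_morphismRestrict φ.left W).flip

/-- The restricted action over an open of the target of an invariant morphism. -/
theorem exists_aW (a : AlgGrp.Action G X) (φ : X ⟶ Y) (hφ : GIT.IsInvariant a φ) (W : Y.left.Opens) :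
    ∃ a' : AlgGrp.Action G (op X (φ.left ⁻¹ᵁ W)), a'.act ≫ inc X _ = (G ◁ inc X _) ≫ a.act := by
  refine exists_restrict a (inc X (φ.left ⁻¹ᵁ W)) ?_
  intro z hz
  have h1 : Set.range (inc X (φ.left ⁻¹ᵁ W)).left = φ.left ⁻¹' (W : Set Y.left) :=
    Scheme.Opens.range_ι _
  rw [h1] at hz ⊢
  have h2 := hφ.left
  have h3 : φ.left (a.act.left z) = φ.left ((snd G X).left z) := by
    rw [← Scheme.Hom.comp_apply, ← Scheme.Hom.comp_apply, h2]
  change φ.left (a.act.left z) ∈ W
  rw [h3]
  exact hz

theorem isInvariant_phiW {a : AlgGrp.Action G X} {φ : X ⟶ Y} (hφ : GIT.IsInvariant a φ) {W : Y.left.Opens}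
    {a' : AlgGrp.Action G (op X (φ.left ⁻¹ᵁ W))} (ha' : a'.act ≫ inc X _ = (G ◁ inc X _) ≫ a.act) :
    GIT.IsInvariant a' (phiW φ W) := by
  rw [GIT.IsInvariant, ← cancel_mono (inc Y W), Category.assoc, Category.assoc, phiW_inc,
    reassoc_of% ha', hφ, whiskerLeft_snd_assoc]

end Open

end K688.ActRes
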