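import Groth.Agent.GIT.K688.DevCount
import Groth.Agent.Fga.PosMain
import Groth.Agent.AbVar.K518.IntPos
import Groth.Agent.Ega1.ReducedSub
import Groth.Agent.CohqB.DevGeom
import Groth.Agent.S2528

/-!
# Counting points by intersection numbers

* `exists_component`: a closed point on a hypersurface section of `cl y`, `dim cl y = r + 1`, lies on a component
  of dimension exactly `r`.
* `cut`: the intersection number with a hypersurface.
* `card_le_intNum`: `E` a finite set of closed points, `N` an invertible module such that every non-closed point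
  is off the zeros of a section of `N` vanishing on `E`; then the number of points of `E` on the `r`-dimensional
  part of `Supp F` is at most `(N^r · F)`.
-/

set_option autoImplicit false
universe u
open CategoryTheory CategoryTheory.Limits AlgebraicGeometry TopologicalSpace Opposite

namespace K688.CutCount

open Groth.Agent Groth.Agent.Fga.RegSec Groth.Agent.Fga.PicMon Groth.Agent.Fga.AltSum Groth.Agent.Fga.IntAdd
open K688.DevCount K266.DimFilt

variable (k : Type u) [Field k] {X : Scheme.{u}} [X.Over (Spec (CommRingCat.of k))]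
  [IsProper (X ↘ Spec (CommRingCat.of k))]

/-- dimension of a set covered by finitely many closed sets -/
theorem exists_le_dim {Y : Type*} [TopologicalSpace Y] {V : Set Y} {S : Set (Set Y)} (hS : S.Finite)
    (hcl : ∀ t ∈ S, IsClosed t) (hirr : ∀ t ∈ S, IsIrreducible t) (hV : V = ⋃₀ S) (hne : V.Nonempty) (r : ℕ)
    (hr : (r : WithBot ℕ∞) ≤ topologicalKrullDim V) : ∃ t ∈ S, (r : WithBot ℕ∞) ≤ topologicalKrullDim t := by
  cases r with
  | zero =>
    obtain ⟨v, hv⟩ := hne
    rw [hV] at hv
    obtain ⟨t, ht, -⟩ := hv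
    have : Nonempty t := (hirr t ht).nonempty.to_subtype
    exact ⟨t, ht, by exact_mod_cast Fga.IntNum0.topologicalKrullDim_nonneg t⟩
  | succ n =>
    by_contra hcon
    push Not at hcon
    have : topologicalKrullDim V ≤ (n : WithBot ℕ∞) := by
      rw [VarietyB.DimTop.topologicalKrullDim_eq_iSup_irreducibleComponents (X := V)]
      refine iSup_le fun Z => ?_
      have hZ : IsIrreducible (Subtype.val '' (Z : Set V) : Set Y) := Z.2.1.image _ continuous_subtype_val.continuousOn
      have hsub : (Subtype.val '' (Z : Set V) : Set Y) ⊆ ⋃₀ S := by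
        rintro _ ⟨v, -, rfl⟩
        rw [← hV]
        exact v.2
      obtain ⟨t, ht, htZ⟩ := (isIrreducible_iff_sUnion_isClosed.1 hZ) hS.toFinset
        (fun z hz => hcl z (hS.mem_toFinset.1 hz)) (by rwa [hS.coe_toFinset])
      have ht' := hS.mem_toFinset.1 ht
      refine le_trans ?_ (Fga.DimCut.le_of_not_succ_le (not_le.mpr (hcon t ht')))
      let f : ↥(Z.1 : Set V) → ↥t := fun z => ⟨z.1.1, htZ ⟨z.1, z.2, rfl⟩⟩
      have hf : Topology.IsInducing f := by
        have e : Topology.IsInducing (fun z : ↥(Z.1 : Set V) => (z.1.1 : Y)) :=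
          Topology.IsInducing.subtypeVal.comp Topology.IsInducing.subtypeVal
        have e2 : Topology.IsInducing (Subtype.val : t → Y) := Topology.IsInducing.subtypeVal
        exact (e2.of_comp_iff).mp e
      exact hf.topologicalKrullDim_le
    have h2 := hr.trans this
    have h3 : n + 1 ≤ n := by exact_mod_cast h2
    omega

include k in
theorem exists_component (y e : X) (r : ℕ)
    (hy : topologicalKrullDim ↥(closure ({y} : Set X)) = ((r + 1 : ℕ) : WithBot ℕ∞)) (W : X.Opens) (hyW : y ∈ W)
    (he : IsClosed ({e} : Set X)) (hye : y ⤳ e)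
    (hloc : ∃ (U : X.Opens) (_ : e ∈ U) (a : Γ(X, U)), W ⊓ U = X.basicOpen a) (heW : e ∉ W) :
    ∃ x ∈ closure {y} \ (W : Set X), topologicalKrullDim ↥(closure ({x} : Set X)) = r ∧ x ⤳ e := by
  have nX : AlgebraicGeometry.IsNoetherian X := Fga.HypSec.isNoetherian k X
  have hcl : IsClosed (closure {y} \ (W : Set X)) := isClosed_closure.sdiff W.isOpen
  obtain ⟨S, hfin, hScl, hSirr, hDS⟩ := NoetherianSpace.exists_finite_set_isClosed_irreducible hcl
  obtain ⟨Z, i, hi, hZ, hrange⟩ := CohqB.DevGeom.exists_integral (closure {y}) isClosed_closure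
    isIrreducible_singleton.closure
  have heC : e ∈ closure {y} := specializes_iff_mem_closure.1 hye
  obtain ⟨e', he'⟩ : ∃ e', i e' = e := by rw [← hrange] at heC; exact heC
  have he'cl : IsClosed ({e'} : Set Z) := by
    have : ({e'} : Set Z) = i ⁻¹' {e} := by
      ext z
      constructor
      · rintro rfl; exact he'
      · intro hz
        exact i.isClosedEmbedding.injective ((show i z = e from hz).trans he'.symm)
    rw [this]
    exact he.preimage i.continuous
  let _ : Z.Over (Spec (CommRingCat.of k)) := ⟨i ≫ X ↘ (Spec (CommRingCat.of k))⟩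
  have hZlft : LocallyOfFiniteType (Z ↘ (Spec (CommRingCat.of k))) :=
    inferInstanceAs (LocallyOfFiniteType (i ≫ X ↘ (Spec (CommRingCat.of k))))
  let S₁ : Set (Set X) := {t ∈ S | e ∈ t}
  let S₂ : Set (Set X) := {t ∈ S | e ∉ t}
  let V' : Set X := ⋃₀ S₂
  have hV' : IsClosed V' := by
    change IsClosed (⋃₀ S₂)
    rw [Set.sUnion_eq_biUnion]
    exact (hfin.subset (Set.sep_subset _ _)).isClosed_biUnion fun t ht => hScl t ht.1
  have heV' : e ∉ V' := by
    rintro ⟨t, ht, het⟩
    exact ht.2 het
  let U' : X.Opens := ⟨V'ᶜ, hV'.isOpen_compl⟩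
  obtain ⟨U, heU, a, ha⟩ := hloc
  have hdimZ : ((r + 1 : ℕ) : WithBot ℕ∞) ≤ topologicalKrullDim Z := by
    rw [← hy, ← hrange]
    have h1 : Topology.IsInducing (fun z : Set.range i => (i.isClosedEmbedding.isEmbedding.toHomeomorph.symm z)) :=
      i.isClosedEmbedding.isEmbedding.toHomeomorph.symm.isInducing
    exact h1.topologicalKrullDim_le
  let a' : Γ(Z, i ⁻¹ᵁ (U ⊓ U')) := i.app (U ⊓ U') (X.presheaf.map (homOfLE (inf_le_left : U ⊓ U' ≤ U)).op a)
  have ha' : Z.basicOpen a' = i ⁻¹ᵁ (U ⊓ U' ⊓ (W ⊓ U)) := by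
    rw [← Scheme.preimage_basicOpen, Scheme.basicOpen_res, ha]
  have hle : (r : WithBot ℕ∞) ≤ topologicalKrullDim (i ⁻¹' (⋃₀ S₁) : Set Z) := by
    refine Fga.DimCut.le_dim_of_local_equation k Z e' he'cl (i ⁻¹ᵁ (U ⊓ U')) ?_ a' ?_ _ ?_ r hdimZ
    · change i e' ∈ U ⊓ U'
      rw [he']
      exact ⟨heU, heV'⟩
    · rw [ha']
      intro h
      have : i e' ∈ W := h.2.1
      rw [he'] at this
      exact heW this
    · intro z hz hz'
      rw [ha'] at hz'
      have hzU : i z ∈ U := hz.1
      have hzU' : i z ∈ U' := hz.2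
      have hzW : i z ∉ W := fun h => hz' ⟨hz, h, hzU⟩
      have hzC : i z ∈ closure {y} := by rw [← hrange]; exact ⟨z, rfl⟩
      have : i z ∈ ⋃₀ S := by rw [← hDS]; exact ⟨hzC, hzW⟩
      obtain ⟨t, ht, hzt⟩ := this
      by_cases het : e ∈ t
      · exact ⟨t, ⟨ht, het⟩, hzt⟩
      · exact absurd ⟨t, ⟨ht, het⟩, hzt⟩ hzU'
  have hle' : (r : WithBot ℕ∞) ≤ topologicalKrullDim (⋃₀ S₁ : Set X) :=
    hle.trans (VarietyB.DimTop.topologicalKrullDim_le_of_isEmbedding i.isEmbedding.isInducing _ _ fun z hz => hz)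
  have heD : e ∈ ⋃₀ S := by rw [← hDS]; exact ⟨heC, heW⟩
  have hne : (⋃₀ S₁ : Set X).Nonempty := by
    obtain ⟨t, ht, het⟩ := heD
    exact ⟨e, t, ⟨ht, het⟩, het⟩
  obtain ⟨t, ht, hrt⟩ := exists_le_dim (hfin.subset (Set.sep_subset _ _) : S₁.Finite) (fun t ht => hScl t ht.1)
    (fun t ht => hSirr t ht.1) rfl hne r hle'
  have htD : t ⊆ closure {y} \ (W : Set X) := by
    rw [hDS]
    exact Set.subset_sUnion_of_mem ht.1
  have htr : topologicalKrullDim t = r := by
    refine le_antisymm ?_ hrt
    have h1 : t ≠ closure {y} := by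
      rintro rfl
      exact (htD (subset_closure rfl)).2 hyW
    have h2 := Fga.DimLt.topologicalKrullDim_lt (d := r + 1) (isIrreducible_singleton (x := y)).closure
      (hScl t ht.1) (htD.trans Set.sdiff_subset) h1 (by rw [hy]; exact_mod_cast Nat.lt_succ_self _)
    exact Fga.DimCut.le_of_not_succ_le (not_le.mpr h2)
  obtain ⟨x, hx⟩ := QuasiSober.sober (hSirr t ht.1) (hScl t ht.1)
  refine ⟨x, htD hx.mem, ?_, ?_⟩
  · rw [hx.def]
    exact htr
  · exact hx.specializes ht.2

section Cut

variable (d : ℕ) (hd : topologicalKrullDim X ≤ d) {N P : X.Modules} (hN : PicF.IsInvertible N)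
  (hP : PicF.IsInvertible P) (hPN : mc P * mc N = 1) (s : Coh.structureModule X ⟶ N)

omit [X.Over (Spec (CommRingCat.of k))] [IsProper (X ↘ Spec (CommRingCat.of k))] in
include hN hP in
theorem isCoh_cut (F : X.Modules) (hF : Coh.IsCoh F) : Coh.IsCoh (CohB1.tensorMod P (cokernel (mulS s F))) := by
  have hNF : Coh.IsCoh (CohB1.tensorMod N F) :=
    Sga67.CohBasic.isCoh_of_iso (Ega2.Tens.swap F _) (Fga.TwistCoh.isCoh_tensor hF hN)
  have hC : Coh.IsCoh (cokernel (mulS s F)) := Sga67.CohBasic.isCoh_cokernel _ hF.1 hNF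
  exact Sga67.CohBasic.isCoh_of_iso (Ega2.Tens.swap _ _) (Fga.TwistCoh.isCoh_tensor hC hP)

omit [X.Over (Spec (CommRingCat.of k))] [IsProper (X ↘ Spec (CommRingCat.of k))] in
include hN hP hPN in
theorem support_cut (F : X.Modules) (hF : Coh.IsCoh F) :
    CohB1.support (CohB1.tensorMod P (cokernel (mulS s F))) = CohB1.support F \ (CohB1.genLocus N s : Set X) := by
  rw [Fga.PosMain.support_tensor X hP hN hPN, support_cokernel_mulS s F hN hF.2]

include hd hN hP hPN in
theorem cut (F : X.Modules) (hF : Coh.IsCoh F) (hmono : Mono (mulS s F)) {r : ℕ} (M : Fin r → X.Modules)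
    (hM : ∀ i, PicF.IsInvertible (M i)) :
    FGA.intNum k X d (Fin.cons P M : Fin (r + 1) → X.Modules) F =
      FGA.intNum k X d M (CohB1.tensorMod P (cokernel (mulS s F))) := by
  have hNF : Coh.IsCoh (CohB1.tensorMod N F) :=
    Sga67.CohBasic.isCoh_of_iso (Ega2.Tens.swap F _) (Fga.TwistCoh.isCoh_tensor hF hN)
  have hC : Coh.IsCoh (cokernel (mulS s F)) := Sga67.CohBasic.isCoh_cokernel _ hF.1 hNF
  have hS : (ShortComplex.mk (mulS s F) (cokernel.π (mulS s F)) (cokernel.condition _)).ShortExact :=
    { exact := ShortComplex.exact_cokernel _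
      mono_f := hmono
      epi_g := inferInstanceAs (Epi (cokernel.π (mulS s F))) }
  have hadd := isAdd_tensor X (isAdd_intNum k X d hd M hM) hP _ hS hF hNF hC
  have hiso : FGA.intNum k X d M (CohB1.tensorMod P (CohB1.tensorMod N F)) = FGA.intNum k X d M F := by
    obtain ⟨e⟩ := (mc_eq_iff (CohB1.tensorMod P (CohB1.tensorMod N F)) F).mp (by
      rw [mc_tensor, mc_tensor, ← mul_assoc, hPN, one_mul])
    exact intNum_iso k X d _ e
  rw [intNum_cons k X d P M F]
  simp only at hadd
  rw [hiso] at hadd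
  rw [hadd]
  ring

end Cut

section Mono

instance isIntegral_ptIdeal (x : X) : IsIntegral (IntMult.ptIdeal x).subscheme := by
  have hr : Set.range (IntMult.ptIdeal x).subschemeι = closure {x} := by
    rw [Scheme.IdealSheafData.range_subschemeι]
    exact Scheme.IdealSheafData.coe_support_vanishingIdeal _
  have h1 : IsReduced (IntMult.ptIdeal x).subscheme := Groth.Agent.Ega1.ReducedSub.isReduced_subscheme_vanishingIdeal _
  have h2 : IrreducibleSpace (IntMult.ptIdeal x).subscheme := by
    have hi : IsIrreducible (Set.univ : Set (IntMult.ptIdeal x).subscheme) := by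
      let e := (IntMult.ptIdeal x).subschemeι.isClosedEmbedding.isEmbedding.toHomeomorph
      have h3 : IrreducibleSpace (Set.range (IntMult.ptIdeal x).subschemeι) := by
        rw [← isIrreducible_iff_irreducibleSpace, hr]
        exact isIrreducible_singleton.closure
      have h4 := (IrreducibleSpace.isIrreducible_univ (Set.range (IntMult.ptIdeal x).subschemeι)).image e.symm
        e.symm.continuous.continuousOn
      rwa [Set.image_univ, e.symm.surjective.range_eq] at h4
    have : PreirreducibleSpace (IntMult.ptIdeal x).subscheme := ⟨hi.isPreirreducible⟩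
    obtain ⟨x, _⟩ := hi.nonempty
    exact { toPreirreducibleSpace := this, toNonempty := ⟨x⟩ }
  exact isIntegral_of_irreducibleSpace_of_isReduced _

theorem exists_ptIdeal (x : X) : ∃ z, (IntMult.ptIdeal x).subschemeι z = x := by
  have hr : Set.range (IntMult.ptIdeal x).subschemeι = closure {x} := by
    rw [Scheme.IdealSheafData.range_subschemeι]
    exact Scheme.IdealSheafData.coe_support_vanishingIdeal _
  have : x ∈ Set.range (IntMult.ptIdeal x).subschemeι := by
    rw [hr]
    exact subset_closure rfl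
  exact this

theorem ass_closureStructureSheaf [IsLocallyNoetherian X] {N : X.Modules} (hN : PicF.IsInvertible N)
    (s : Coh.structureModule X ⟶ N) (x : X) (hx : x ∈ CohB1.genLocus N s) :
    AssSch.Ass (Cyc.closureStructureSheaf x) ⊆ (CohB1.genLocus N s : Set X) := by
  have hno : IsLocallyNoetherian (IntMult.ptIdeal x).subscheme :=
    LocallyOfFiniteType.isLocallyNoetherian (IntMult.ptIdeal x).subschemeι
  rw [Cyc.closureStructureSheaf, Groth.Agent.S2528.result _ _ (CurvesC.UnitCoh.isQCoh_unit _)]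
  rintro _ ⟨z, hz, rfl⟩
  obtain ⟨w, hw⟩ := exists_ptIdeal x
  have h2 := K518.IntPos.ass_subset_genLocus
    (Groth.Agent.Fdesc.LocGen.isInvertible_pullback (IntMult.ptIdeal x).subschemeι hN)
    (Groth.Agent.Fdesc.LocGen.pullHom (IntMult.ptIdeal x).subschemeι s) (by
      rw [Groth.Agent.Ega1.AmpFam.genLocus_pullHom _ hN s]
      intro h
      have h3 : w ∈ (IntMult.ptIdeal x).subschemeι ⁻¹ᵁ CohB1.genLocus N s := by
        change (IntMult.ptIdeal x).subschemeι w ∈ CohB1.genLocus N s
        rw [hw]
        exact hx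
      rw [h] at h3
      exact h3) hz
  rw [Groth.Agent.Ega1.AmpFam.genLocus_pullHom _ hN s] at h2
  exact h2

theorem mono_closureStructureSheaf [IsLocallyNoetherian X] {N : X.Modules} (hN : PicF.IsInvertible N)
    (s : Coh.structureModule X ⟶ N) (x : X) (hx : x ∈ CohB1.genLocus N s) :
    Mono (mulS s (Cyc.closureStructureSheaf x)) := by
  have hF := CycB.ClosSheaf.isCoh_closureStructureSheaf x
  have hNF : Coh.IsCoh (CohB1.tensorMod N (Cyc.closureStructureSheaf x)) :=
    Sga67.CohBasic.isCoh_of_iso (Ega2.Tens.swap _ _) (Fga.TwistCoh.isCoh_tensor hF hN)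
  exact mulS_mono s _ hF (Sga67.CohBasic.isCoh_kernel _ hF hNF.1).1 (ass_closureStructureSheaf hN s x hx)

end Mono

theorem isClosed_of_dim_zero {Y : Type*} [TopologicalSpace Y] [T0Space Y] (x : Y)
    (h : topologicalKrullDim ↥(closure ({x} : Set Y)) ≤ (0 : ℕ)) {e : Y} (he : x ⤳ e) : e = x := by
  by_contra hne
  have h1 : closure ({e} : Set Y) ⊆ closure {x} :=
    closure_minimal (Set.singleton_subset_iff.2 (specializes_iff_mem_closure.1 he)) isClosed_closure
  have h2 : closure ({e} : Set Y) ≠ closure {x} := by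
    intro h
    apply hne
    have h4 : e ⤳ x := specializes_iff_mem_closure.2 (by rw [h]; exact subset_closure rfl)
    exact (h4.antisymm he).eq
  have h3 := Fga.DimLt.topologicalKrullDim_lt (d := 0) (isIrreducible_singleton (x := x)).closure isClosed_closure h1 h2
    (lt_of_le_of_lt h (by exact_mod_cast Nat.zero_lt_one))
  have h4 : Nonempty ↥(closure ({e} : Set Y)) := ⟨⟨e, subset_closure rfl⟩⟩
  exact absurd h3 (not_lt.2 (by exact_mod_cast Fga.IntNum0.topologicalKrullDim_nonneg _))

theorem dim_zero_of_isClosed {Y : Type*} [TopologicalSpace Y] (x : Y) (h : IsClosed ({x} : Set Y)) :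
    topologicalKrullDim ↥(closure ({x} : Set Y)) ≤ (0 : ℕ) := by
  rw [h.closure_eq]
  have h1 : Subsingleton (IrreducibleCloseds ↥({x} : Set Y)) := by
    refine ⟨fun a b => ?_⟩
    apply SetLike.coe_injective
    have key : ∀ c : IrreducibleCloseds ↥({x} : Set Y), (c : Set ↥({x} : Set Y)) = Set.univ := fun c => by
      obtain ⟨z, hz⟩ := c.isIrreducible.nonempty
      ext w
      simp only [Set.mem_univ, iff_true]
      rwa [Subsingleton.elim w z]
    rw [key a, key b]
  exact Order.krullDim_nonpos_of_subsingleton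

/-- **Counting points.** -/
theorem card_le_intNum (d : ℕ) (hd : topologicalKrullDim X ≤ d) {N P : X.Modules} (hN : PicF.IsInvertible N)
    (hP : PicF.IsInvertible P) (hPN : mc P * mc N = 1) (E : Finset X) (hE : ∀ e ∈ E, IsClosed ({e} : Set X))
    (H : ∀ y : X, ¬ IsClosed ({y} : Set X) → ∃ s : Coh.structureModule X ⟶ N, y ∈ CohB1.genLocus N s ∧
      ∀ e ∈ E, e ∉ CohB1.genLocus N s) (r : ℕ) (F : X.Modules) (hF : Coh.IsCoh F)
    (hr : topologicalKrullDim (CohB1.support F) ≤ r) :
    ((ptsOn E r (CohB1.support F)).card : ℤ) ≤ FGA.intNum k X d (fun _ : Fin r => P) F := by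
  have nX : AlgebraicGeometry.IsNoetherian X := Fga.HypSec.isNoetherian k X
  induction r generalizing F with
  | zero =>
    refine card_le (fun F => FGA.intNum k X d (fun _ : Fin 0 => P) F) (isAdd_intNum k X d hd _ fun _ => hP) 0
      (fun G hG hGd => S3231.result k X d hd _ (fun _ => hP) G hG hGd) E ?_ F hF hr
    intro x hx
    have h1 : 0 < FGA.intNum k X d (fun _ : Fin 0 => P) (Cyc.closureStructureSheaf x) := by
      rw [Fga.PicMon.intNum_zero]
      refine Fga.PosZero.euler_pos k X d _ (CycB.ClosSheaf.isCoh_closureStructureSheaf x) ?_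
      rw [support_closureStructureSheaf, hx]
      rfl
    have h2 : (ptsCl E x).card ≤ 1 := by
      refine Finset.card_le_one.2 fun a ha b hb => ?_
      rw [isClosed_of_dim_zero x hx.le (mem_ptsCl.1 ha).2, isClosed_of_dim_zero x hx.le (mem_ptsCl.1 hb).2]
    have h3 : ((ptsCl E x).card : ℤ) ≤ 1 := by exact_mod_cast h2
    change ((ptsCl E x).card : ℤ) ≤ FGA.intNum k X d (fun _ : Fin 0 => P) (Cyc.closureStructureSheaf x)
    omega
  | succ r ih =>
    refine card_le (fun F => FGA.intNum k X d (fun _ : Fin (r + 1) => P) F) (isAdd_intNum k X d hd _ fun _ => hP)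
      (r + 1) (fun G hG hGd => S3231.result k X d hd _ (fun _ => hP) G hG hGd) E ?_ F hF hr
    intro x hx
    have hxcl : ¬ IsClosed ({x} : Set X) := by
      intro h
      have h1 := dim_zero_of_isClosed x h
      rw [hx] at h1
      have : r + 1 ≤ 0 := by exact_mod_cast h1
      omega
    obtain ⟨s, hxs, hsE⟩ := H x hxcl
    have hG := CycB.ClosSheaf.isCoh_closureStructureSheaf x
    have hcut := cut k d hd hN hP hPN s _ hG (mono_closureStructureSheaf hN s x hxs) (fun _ : Fin r => P) (fun _ => hP)
    have hcons : (Fin.cons P (fun _ => P) : Fin (r + 1) → X.Modules) = fun _ => P := by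
      funext i
      cases i using Fin.cases <;> rfl
    rw [hcons] at hcut
    change ((ptsCl E x).card : ℤ) ≤ FGA.intNum k X d (fun _ : Fin (r + 1) => P) (Cyc.closureStructureSheaf x)
    rw [hcut]
    have hsupp : CohB1.support (CohB1.tensorMod P (cokernel (mulS s (Cyc.closureStructureSheaf x)))) =
        closure {x} \ (CohB1.genLocus N s : Set X) := by
      rw [support_cut hN hP hPN s _ hG, support_closureStructureSheaf]
    have hdim : topologicalKrullDim
        (CohB1.support (CohB1.tensorMod P (cokernel (mulS s (Cyc.closureStructureSheaf x))))) ≤ r := by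
      rw [hsupp]
      have hlt := Fga.DimLt.topologicalKrullDim_lt (d := r + 1) (isIrreducible_singleton (x := x)).closure
        (isClosed_closure.sdiff (CohB1.genLocus N s).isOpen : IsClosed (closure {x} \ (CohB1.genLocus N s : Set X)))
        Set.sdiff_subset (fun h => by
          have h5 : x ∈ closure {x} \ (CohB1.genLocus N s : Set X) := by
            rw [h]; exact subset_closure rfl
          exact h5.2 hxs) (by rw [hx]; exact_mod_cast Nat.lt_succ_self _)
      exact Fga.DimCut.le_of_not_succ_le (not_le.mpr hlt)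
    refine le_trans ?_ (ih _ (isCoh_cut hN hP s _ hG) hdim)
    have hsub : ptsCl E x ⊆ ptsOn E r
        (CohB1.support (CohB1.tensorMod P (cokernel (mulS s (Cyc.closureStructureSheaf x))))) := by
      intro e he
      obtain ⟨heE, hxe⟩ := mem_ptsCl.1 he
      rw [mem_ptsOn]
      refine ⟨heE, ?_⟩
      rw [hsupp]
      refine exists_component k x e r hx (CohB1.genLocus N s) hxs (hE e heE) hxe ?_ (hsE e heE)
      obtain ⟨U, hxU, e', a, -, -, ha, -⟩ := exists_gen_of_not_mem s hN (hsE e heE)
      exact ⟨U, hxU, a, ha⟩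
    exact_mod_cast Finset.card_le_card hsub

end K688.CutCount
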