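import Groth.Agent.SGA6.K266.DimFilt

/-!
# Dévissage of additive functions by dimension, and counting points on supports

* `eq_sum`: an additive function on coherent modules which vanishes on modules with support of dimension `< n`
  is, on modules with support of dimension `≤ n`, the sum over the points `x` with closure of dimension `n` of
  `length(F_x) φ(O_{cl x})`.
* `card_le`: if moreover `φ(O_{cl x})` bounds the number of points of a finite set `E` on `cl x`, then `φ F` bounds
  the number of points of `E` lying on `n`-dimensional components of `Supp F`.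
-/

set_option autoImplicit false
universe u
open CategoryTheory CategoryTheory.Limits AlgebraicGeometry TopologicalSpace

namespace K688.DevCount

open Groth.Agent Groth.Agent.Sga67.K0Basic Groth.Agent.Ega3B.Devissage Groth.Agent.Fga.MultForm K266.DimFilt
open Groth.Agent.Fga.ChiBasic (IsAdd)

variable {X : Scheme.{u}} [AlgebraicGeometry.IsNoetherian X]

theorem eq_sum (φ : X.Modules → ℤ) (hφ : IsAdd φ) (n : ℕ)
    (hvan : ∀ G : X.Modules, Coh.IsCoh G → topologicalKrullDim ↥(CohB1.support G) < n → φ G = 0)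
    {T : Set X} (hT : IsClosed T) (hd : topologicalKrullDim ↥T ≤ n) (s : Finset X)
    (hs : ∀ x, x ∈ s ↔ x ∈ T ∧ topologicalKrullDim ↥(closure ({x} : Set ↥X)) = n)
    (F : X.Modules) (hF : Coh.IsCoh F) (hFT : CohB1.support F ⊆ T) :
    φ F = ∑ x ∈ s, ((len F x).toNat : ℤ) * φ (Cyc.closureStructureSheaf x) := by
  have h1 := cl_sub_sum_mem_aux n hT hd s hs F hF hFT
  let ψ : KZero.K0sub (cohP X) →+ ℤ := liftSub (cohP X) φ hφ
  have hψ : ∀ M : X.Modules, Coh.IsCoh M → ψ (KZero.clSub (cohP X) M) = φ M := fun M hM => liftSub_clSub φ hφ hM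
  have h2 : filtLt X n ≤ ψ.ker := by
    rw [AddSubgroup.closure_le]
    rintro c ⟨G, hG, hGd, rfl⟩
    change ψ _ = 0
    rw [hψ G hG, hvan G hG hGd]
  have h3 : ψ (KZero.clSub (cohP X) F -
      ∑ x ∈ s, (len F x).toNat • KZero.clSub (cohP X) (Cyc.closureStructureSheaf x)) = 0 := h2 h1
  rw [map_sub, hψ F hF, map_sum, sub_eq_zero] at h3
  rw [h3]
  refine Finset.sum_congr rfl fun x _ => ?_
  rw [map_nsmul, hψ _ (CycB.ClosSheaf.isCoh_closureStructureSheaf x), nsmul_eq_mul]

open Classical in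
/-- the points of `E` on `n`-dimensional components of the closed set `T` -/
noncomputable def ptsOn (E : Finset X) (n : ℕ) (T : Set X) : Finset X :=
  E.filter fun e => ∃ x ∈ T, topologicalKrullDim ↥(closure ({x} : Set ↥X)) = n ∧ x ⤳ e

omit [AlgebraicGeometry.IsNoetherian X] in
theorem mem_ptsOn {E : Finset X} {n : ℕ} {T : Set X} {e : X} :
    e ∈ ptsOn E n T ↔ e ∈ E ∧ ∃ x ∈ T, topologicalKrullDim ↥(closure ({x} : Set ↥X)) = n ∧ x ⤳ e := by
  classical
  rw [ptsOn, Finset.mem_filter]

open Classical in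
/-- the points of `E` on the closure of `x` -/
noncomputable def ptsCl (E : Finset X) (x : X) : Finset X := E.filter fun e => x ⤳ e

omit [AlgebraicGeometry.IsNoetherian X] in
theorem mem_ptsCl {E : Finset X} {x e : X} : e ∈ ptsCl E x ↔ e ∈ E ∧ x ⤳ e := by
  classical
  rw [ptsCl, Finset.mem_filter]

theorem card_le (φ : X.Modules → ℤ) (hφ : IsAdd φ) (n : ℕ)
    (hvan : ∀ G : X.Modules, Coh.IsCoh G → topologicalKrullDim ↥(CohB1.support G) < n → φ G = 0)
    (E : Finset X)
    (hE : ∀ x : X, topologicalKrullDim ↥(closure ({x} : Set ↥X)) = n →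
      ((ptsCl E x).card : ℤ) ≤ φ (Cyc.closureStructureSheaf x))
    (F : X.Modules) (hF : Coh.IsCoh F) (hd : topologicalKrullDim ↥(CohB1.support F) ≤ n) :
    ((ptsOn E n (CohB1.support F)).card : ℤ) ≤ φ F := by
  classical
  have hT := isClosed_support hF
  have hfin := finite_gen hT hd
  have hs : ∀ x, x ∈ hfin.toFinset ↔ x ∈ CohB1.support F ∧ topologicalKrullDim ↥(closure ({x} : Set ↥X)) = n := by
    intro x
    rw [Set.Finite.mem_toFinset]
    rfl
  rw [eq_sum φ hφ n hvan hT hd hfin.toFinset hs F hF subset_rfl]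
  have h1 : ptsOn E n (CohB1.support F) ⊆ hfin.toFinset.biUnion fun x => ptsCl E x := by
    intro e he
    obtain ⟨heE, x, hx, hxd, hxe⟩ := mem_ptsOn.1 he
    rw [Finset.mem_biUnion]
    exact ⟨x, (hs x).2 ⟨hx, hxd⟩, mem_ptsCl.2 ⟨heE, hxe⟩⟩
  have h2 : ((ptsOn E n (CohB1.support F)).card : ℤ) ≤ ∑ x ∈ hfin.toFinset, ((ptsCl E x).card : ℤ) := by
    have := (Finset.card_le_card h1).trans Finset.card_biUnion_le
    exact_mod_cast this
  refine h2.trans (Finset.sum_le_sum fun x hx => ?_)
  have h3 := (hs x).1 hx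
  have h4 : len F x ≠ ⊤ := length_ne_top hT hd hF subset_rfl h3.2
  have h5 : len F x ≠ 0 := len_pos h3.1
  have h6 : 1 ≤ (len F x).toNat := by
    rw [Nat.one_le_iff_ne_zero]
    intro h
    rcases ENat.toNat_eq_zero.1 h with h | h
    · exact h5 h
    · exact h4 h
  have h7 := hE x h3.2
  have h8 : (0 : ℤ) ≤ φ (Cyc.closureStructureSheaf x) := le_trans (by positivity) h7
  calc ((ptsCl E x).card : ℤ) ≤ 1 * φ (Cyc.closureStructureSheaf x) := by rw [one_mul]; exact h7
    _ ≤ ((len F x).toNat : ℤ) * φ (Cyc.closureStructureSheaf x) :=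
        mul_le_mul_of_nonneg_right (by exact_mod_cast h6) h8

end K688.DevCount
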