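import Groth.Agent.Books.ComodHom
import Groth.Agent.S3272
import Groth.Prelude.Def_GLin

/-!
# Weights of a linear diagonalizable action and the numerical function
-/

set_option autoImplicit false

universe u v w w'

open TensorProduct HopfRep LaurentPolynomial

namespace K688.DiagMu

open Groth.Agent.Books.ComodBasic Groth.Agent.Books.ComodHom

/-- The character of a nonzero eigenvector is group-like. -/
lemma isGroupLikeElem_of_coact {k : Type u} {A : Type v} [Field k] [AddCommGroup A] [Module k A]
    [Coalgebra k A] {V : Type w} [AddCommGroup V] [Module k V] [Comod k A V] {v : V} {a : A}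
    (hv : v ≠ 0) (h : Comod.coact (k := k) (A := A) v = v ⊗ₜ[k] a) : IsGroupLikeElem k a := by
  obtain ⟨f, hf⟩ := Module.Projective.exists_dual_eq_one k hv
  constructor
  · have h1 := LinearMap.congr_fun (Comod.counit_comp (k := k) (A := A) (V := V)) v
    simp only [LinearMap.comp_apply, h, LinearMap.lTensor_tmul, LinearMap.flip_apply,
      TensorProduct.mk_apply] at h1
    have h2 := congrArg (fun z => TensorProduct.lid k k (f.rTensor k z)) h1
    simpa [hf] using h2
  · have h1 := LinearMap.congr_fun (Comod.coassoc (k := k) (A := A) (V := V)) v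
    simp only [LinearMap.comp_apply, h, LinearMap.rTensor_tmul, LinearMap.lTensor_tmul,
      LinearEquiv.coe_coe, TensorProduct.assoc_tmul] at h1
    have h2 := congrArg (fun z => TensorProduct.lid k (A ⊗[k] A) (f.rTensor (A ⊗[k] A) z)) h1
    simp only [LinearMap.rTensor_tmul, TensorProduct.lid_tmul, hf, one_smul] at h2
    exact h2.symm

variable {k : Type u} [Field k] {A : Type v} [CommRing A] [Bialgebra k A]
  {ι : Type w} [Fintype ι] [Comod k A (MvPolynomial ι k)]

/-- The linear forms. -/
noncomputable abbrev linForms (k : Type u) [Field k] (ι : Type w) : Submodule k (MvPolynomial ι k) :=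
  Submodule.span k (Set.range (MvPolynomial.X : ι → MvPolynomial ι k))

lemma isSubcomod_linForms (hlin : GLin.IsLinear k A ι) :
    IsSubcomod (k := k) (A := A) (linForms k ι) := by
  intro w hw
  induction hw using Submodule.span_induction with
  | mem x hx =>
    obtain ⟨i, rfl⟩ := hx
    obtain ⟨m, hm⟩ := hlin i
    rw [hm]
    refine Submodule.sum_mem _ fun j _ => ?_
    exact ⟨(⟨MvPolynomial.X j, Submodule.subset_span ⟨j, rfl⟩⟩ : linForms k ι) ⊗ₜ m j, rfl⟩
  | zero => simp
  | add x y _ _ hx hy => rw [map_add]; exact Submodule.add_mem _ hx hy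
  | smul a x _ hx => rw [map_smul]; exact Submodule.smul_mem _ _ hx

/-- For a diagonalizable linear action, the linear forms are spanned by finitely many nonzero
eigenvectors. -/
theorem exists_eigen_span (hdiag : IsDiagonalizable k A) (hlin : GLin.IsLinear k A ι) :
    ∃ (N : ℕ) (χ : Fin N → A) (b : Fin N → MvPolynomial ι k),
      (∀ j, IsGroupLikeElem k (χ j)) ∧ (∀ j, b j ∈ linForms k ι) ∧
      (∀ j, Comod.coact (k := k) (A := A) (b j) = b j ⊗ₜ[k] χ j) ∧
      Submodule.span k (Set.range b) = linForms k ι := by
  classical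
  let _ := subComod (linForms k ι) (isSubcomod_linForms (A := A) hlin)
  have hs : IsComodHom k A (linForms k ι).subtype :=
    isComodHom_subtype (linForms k ι) (isSubcomod_linForms hlin)
  have h1 := Groth.Agent.S3272.span_eigen_of_diag k A hdiag (linForms k ι)
  set S : Set (MvPolynomial ι k) := {w | w ∈ linForms k ι ∧ w ≠ 0 ∧
    ∃ a : A, Comod.coact (k := k) (A := A) w = w ⊗ₜ[k] a} with hS
  have h2 : Submodule.span k S = linForms k ι := by
    refine le_antisymm (Submodule.span_le.2 fun w hw => hw.1) ?_
    have h3 := congrArg (Submodule.map (linForms k ι).subtype) h1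
    rw [Submodule.map_top, Submodule.range_subtype, Submodule.map_span] at h3
    rw [← h3, Submodule.span_le]
    rintro _ ⟨w, ⟨a, ha⟩, rfl⟩
    by_cases hw : w = 0
    · rw [hw]
      simp
    · refine Submodule.subset_span ⟨w.2, ?_, a, ?_⟩
      · simpa using hw
      · rw [hs, ha, LinearMap.rTensor_tmul]
  have hfg : (Submodule.span k S).FG := by
    rw [h2]
    exact Submodule.fg_span (Set.finite_range _)
  obtain ⟨t, htS, ht⟩ := Submodule.fg_span_iff_fg_span_finset_subset S |>.1 hfg
  have ht' : ∀ x : t, ∃ a : A, Comod.coact (k := k) (A := A) x.1 = x.1 ⊗ₜ[k] a := fun x =>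
    (htS x.2).2.2
  choose a ha using ht'
  refine ⟨t.card, fun j => a (t.equivFin.symm j), fun j => (t.equivFin.symm j).1, ?_, ?_, ?_, ?_⟩
  · intro j
    exact isGroupLikeElem_of_coact (htS (t.equivFin.symm j).2).2.1 (ha _)
  · intro j
    exact (htS (t.equivFin.symm j).2).1
  · intro j
    exact ha _
  · rw [← h2, ht]
    congr 1
    ext x
    constructor
    · rintro ⟨j, rfl⟩
      exact (t.equivFin.symm j).2
    · intro hx
      exact ⟨t.equivFin ⟨x, hx⟩, by simp⟩

section
variable [GLin.IsCoactAlg k A (MvPolynomial ι k)]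

omit [Fintype ι] in
lemma lamOrbit_eigen (lam : A →ₐc[k] k[T;T⁻¹]) (v : ι → k) {w : MvPolynomial ι k} {a : A}
    (hw : Comod.coact (k := k) (A := A) w = w ⊗ₜ[k] a) :
    GLin.lamOrbit k A lam (GLin.vecPt k ι v) w = MvPolynomial.eval v w • lam a := by
  have h1 : GLin.orbitHom k A (GLin.vecPt k ι v) w = MvPolynomial.eval v w • a := by
    simp only [GLin.orbitHom, AlgHom.comp_apply, GLin.coactAlgHom_apply, hw]
    simp [MvPolynomial.aeval_eq_eval]
  rw [GLin.lamOrbit, AlgHom.comp_apply, h1, map_smul]
  rfl

omit [Fintype ι] in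
/-- The shifted orbit on linear forms. -/
lemma shiftedOrbit_linForm (lam : A →ₐc[k] k[T;T⁻¹]) (v : ι → k) (m : ℤ) {w : MvPolynomial ι k}
    (hw : w ∈ linForms k ι) :
    GLin.shiftedOrbit k A lam v m w = T m * GLin.lamOrbit k A lam (GLin.vecPt k ι v) w := by
  induction hw using Submodule.span_induction with
  | mem x hx =>
    obtain ⟨i, rfl⟩ := hx
    simp [GLin.shiftedOrbit]
  | zero => simp
  | add x y _ _ hx hy => rw [map_add, map_add, mul_add, hx, hy]
  | smul a x _ hx => rw [map_smul, map_smul, hx, mul_smul_comm]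

omit [Fintype ι] [Comod k A (MvPolynomial ι k)] [GLin.IsCoactAlg k A (MvPolynomial ι k)] in
lemma eval_zero_linForm {w : MvPolynomial ι k} (hw : w ∈ linForms k ι) :
    MvPolynomial.aeval (fun _ : ι => (0 : k)) w = 0 := by
  induction hw using Submodule.span_induction with
  | mem x hx =>
    obtain ⟨i, rfl⟩ := hx
    simp
  | zero => simp
  | add x y _ _ hx hy => rw [map_add, hx, hy, add_zero]
  | smul a x _ hx => rw [map_smul, hx, smul_zero]

/-- A polynomial which is a monomial `c T^n` as a Laurent polynomial. -/
lemma eq_of_toLaurent {c : k} (hc : c ≠ 0) {n : ℤ} {p : Polynomial k}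
    (h : Polynomial.toLaurent p = C c * (T n : k[T;T⁻¹])) :
    ∃ m : ℕ, n = m ∧ p = Polynomial.C c * Polynomial.X ^ m := by
  rcases le_or_gt 0 n with hn | hn
  · obtain ⟨m, rfl⟩ := Int.eq_ofNat_of_zero_le hn
    refine ⟨m, rfl, Polynomial.toLaurent_injective ?_⟩
    rw [h, Polynomial.toLaurent_C_mul_X_pow]
  · exfalso
    obtain ⟨m, hm⟩ := Int.eq_ofNat_of_zero_le (a := -n) (by omega)
    have hm0 : m ≠ 0 := by omega
    have h1 : Polynomial.toLaurent (p * Polynomial.X ^ m) =
        Polynomial.toLaurent (Polynomial.C c) := by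
      rw [map_mul, h, Polynomial.toLaurent_X_pow, ← hm, mul_assoc, ← T_add, Polynomial.toLaurent_C]
      simp
    have h2 := congrArg (Polynomial.eval 0) (Polynomial.toLaurent_injective h1)
    simp [hm0] at h2
    exact hc h2.symm

theorem isMu_iff (hdiag : IsDiagonalizable k A) (hlin : GLin.IsLinear k A ι) :
    ∃ (N : ℕ) (χ : Fin N → A), (∀ j, IsGroupLikeElem k (χ j)) ∧
      ∀ v : ι → k, v ≠ 0 → ∃ I : Finset (Fin N), I.Nonempty ∧
        ∀ (lam : A →ₐc[k] k[T;T⁻¹]) (e : Fin N → ℤ), (∀ j, lam (χ j) = LaurentPolynomial.T (e j)) →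
          ∀ m : ℤ, GLin.IsMu k A lam v m ↔ ((∀ j ∈ I, -e j ≤ m) ∧ ∃ j ∈ I, m = -e j) := by
  classical
  obtain ⟨N, χ, b, hχ, hb, hco, hspan⟩ := exists_eigen_span hdiag hlin
  refine ⟨N, χ, hχ, fun v hv => ?_⟩
  refine ⟨Finset.univ.filter fun j => MvPolynomial.eval v (b j) ≠ 0, ?_, ?_⟩
  · by_contra hne
    rw [Finset.not_nonempty_iff_eq_empty] at hne
    apply hv
    funext i
    have h0 : ∀ w ∈ linForms k ι, MvPolynomial.eval v w = 0 := by
      intro w hw
      rw [← hspan] at hw
      induction hw using Submodule.span_induction with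
      | mem x hx =>
        obtain ⟨j, rfl⟩ := hx
        by_contra hj
        have : j ∈ Finset.univ.filter fun j => MvPolynomial.eval v (b j) ≠ 0 := by simp [hj]
        rw [hne] at this
        simp at this
      | zero => simp
      | add x y _ _ hx hy => rw [map_add, hx, hy, add_zero]
      | smul a x _ hx => rw [MvPolynomial.smul_eval, hx, mul_zero]
    simpa using h0 (MvPolynomial.X i) (Submodule.subset_span ⟨i, rfl⟩)
  · intro lam e he m
    have hso : ∀ j, GLin.shiftedOrbit k A lam v m (b j) =
        C (MvPolynomial.eval v (b j)) * T (m + e j) := by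
      intro j
      rw [shiftedOrbit_linForm lam v m (hb j), lamOrbit_eigen lam v (hco j), he, T_add,
        LaurentPolynomial.smul_eq_C_mul]
      ring
    constructor
    · rintro ⟨h, hh, hne⟩
      have hb' : ∀ j, Polynomial.toLaurent (h (b j)) =
          C (MvPolynomial.eval v (b j)) * T (m + e j) := by
        intro j
        rw [← hso, ← hh]
        rfl
      refine ⟨fun j hj => ?_, ?_⟩
      · rw [Finset.mem_filter] at hj
        obtain ⟨n, hn, -⟩ := eq_of_toLaurent hj.2 (hb' j)
        omega
      · by_contra hcon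
        push Not at hcon
        apply hne
        have h0 : ∀ w ∈ linForms k ι, (Polynomial.aeval (0 : k)) (h w) = 0 := by
          intro w hw
          rw [← hspan] at hw
          induction hw using Submodule.span_induction with
          | mem x hx =>
            obtain ⟨j, rfl⟩ := hx
            by_cases hj : MvPolynomial.eval v (b j) = 0
            · have h3 := hb' j
              rw [hj, map_zero, zero_mul, Polynomial.toLaurent_eq_zero] at h3
              rw [h3, map_zero]
            · obtain ⟨n, hn, h4⟩ := eq_of_toLaurent hj (hb' j)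
              have h5 := hcon j (by simp [hj])
              have hn0 : n ≠ 0 := by omega
              rw [h4]
              simp [hn0]
          | zero => simp
          | add x y _ _ hx hy => rw [map_add, map_add, hx, hy, add_zero]
          | smul a x _ hx => rw [map_smul, map_smul, hx, smul_zero]
        refine MvPolynomial.algHom_ext fun i => ?_
        rw [AlgHom.comp_apply, h0 _ (Submodule.subset_span ⟨i, rfl⟩)]
        simp
    · rintro ⟨h1, j₀, hj₀, hm⟩
      have hex : ∀ w ∈ linForms k ι, ∃ p : Polynomial k,
          Polynomial.toLaurent p = GLin.shiftedOrbit k A lam v m w := by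
        intro w hw
        rw [← hspan] at hw
        induction hw using Submodule.span_induction with
        | mem x hx =>
          obtain ⟨j, rfl⟩ := hx
          rw [hso]
          by_cases hj : MvPolynomial.eval v (b j) = 0
          · exact ⟨0, by simp [hj]⟩
          · have h2 := h1 j (by simp [hj])
            obtain ⟨n, hn⟩ := Int.eq_ofNat_of_zero_le (a := m + e j) (by omega)
            refine ⟨Polynomial.C (MvPolynomial.eval v (b j)) * Polynomial.X ^ n, ?_⟩
            rw [Polynomial.toLaurent_C_mul_X_pow, hn]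
        | zero => exact ⟨0, by simp⟩
        | add x y _ _ hx hy =>
          obtain ⟨p, hp⟩ := hx
          obtain ⟨q, hq⟩ := hy
          exact ⟨p + q, by rw [map_add, map_add, hp, hq]⟩
        | smul a x _ hx =>
          obtain ⟨p, hp⟩ := hx
          refine ⟨a • p, ?_⟩
          rw [map_smul (GLin.shiftedOrbit k A lam v m), ← hp, ← Polynomial.toLaurentAlg_apply,
            ← Polynomial.toLaurentAlg_apply, map_smul]
      choose P hP using fun i => hex (MvPolynomial.X i) (Submodule.subset_span ⟨i, rfl⟩)
      have hcomp : (Polynomial.toLaurentAlg (R := k)).comp (MvPolynomial.aeval P) =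
          GLin.shiftedOrbit k A lam v m := by
        refine MvPolynomial.algHom_ext fun i => ?_
        rw [AlgHom.comp_apply, MvPolynomial.aeval_X, Polynomial.toLaurentAlg_apply, hP]
      refine ⟨MvPolynomial.aeval P, hcomp, fun h0 => ?_⟩
      rw [Finset.mem_filter] at hj₀
      have h2 : Polynomial.toLaurent (MvPolynomial.aeval P (b j₀)) =
          C (MvPolynomial.eval v (b j₀)) * T (m + e j₀) := by
        rw [← hso, ← hcomp]
        rfl
      obtain ⟨n, hn, h4⟩ := eq_of_toLaurent hj₀.2 h2
      have hn0 : n = 0 := by omega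
      have h5 := congrArg (fun f : MvPolynomial ι k →ₐ[k] k => f (b j₀)) h0
      simp only [AlgHom.comp_apply] at h5
      rw [h4, eval_zero_linForm (hb j₀), hn0] at h5
      simp at h5
      exact hj₀.2 h5

end

end K688.DiagMu
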