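import Mathlib.Algebra.Order.Field.Basic
import Mathlib.LinearAlgebra.Pi
import Mathlib.Algebra.Order.BigOperators.Group.Finset
import Mathlib.Algebra.BigOperators.GroupWithZero.Action
import Mathlib.Algebra.BigOperators.Module
import Mathlib.Tactic.Linarith
import Mathlib.Tactic.LinearCombination

/-!
# The Farkas lemma over a linearly ordered field (Bartl's algebraic proof)
-/

set_option autoImplicit false

namespace K688.Farkas

/-- Farkas: a functional `γ` which is `≤ 0` wherever finitely many functionals `α i` are `≤ 0` is a
nonnegative combination of the `α i`.  The vector space `W` is arbitrary. -/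
theorem farkas {F : Type*} [Field F] [LinearOrder F] [IsStrictOrderedRing F] {W : Type*}
    [AddCommGroup W] [Module F W] {ι : Type*} (s : Finset ι) :
    ∀ (α : ι → W →ₗ[F] F) (γ : W →ₗ[F] F), (∀ x, (∀ i ∈ s, α i x ≤ 0) → γ x ≤ 0) →
      ∃ u : ι → F, (∀ i, 0 ≤ u i) ∧ γ = ∑ i ∈ s, u i • α i := by
  classical
  induction s using Finset.induction_on with
  | empty =>
    intro α γ h
    refine ⟨fun _ => 0, fun _ => le_rfl, ?_⟩
    rw [Finset.sum_empty]
    refine LinearMap.ext fun x => ?_
    rw [LinearMap.zero_apply]
    refine le_antisymm (h x (by simp)) ?_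
    have := h (-x) (by simp)
    rw [map_neg] at this
    linarith
  | insert a s ha ih =>
    intro α γ h
    by_cases h' : ∀ x, (∀ i ∈ s, α i x ≤ 0) → γ x ≤ 0
    · obtain ⟨u, hu, hγ⟩ := ih α γ h'
      refine ⟨fun i => if i = a then 0 else u i, fun i => ?_, ?_⟩
      · dsimp only
        split_ifs
        · exact le_rfl
        · exact hu i
      · rw [Finset.sum_insert ha]
        dsimp only
        rw [if_pos rfl, zero_smul, zero_add, hγ]
        refine Finset.sum_congr rfl fun i hi => ?_
        rw [if_neg]
        rintro rfl
        exact ha hi
    · push Not at h'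
      obtain ⟨z, hz, hγz⟩ := h'
      have haz : 0 < α a z := by
        by_contra hc
        push Not at hc
        refine absurd (h z fun i hi => ?_) (not_le.2 hγz)
        rcases Finset.mem_insert.1 hi with rfl | hi
        · exact hc
        · exact hz i hi
      set t : F := (α a z)⁻¹ with ht
      have ht0 : 0 < t := inv_pos.2 haz
      set y : W := t • z with hy
      have hay : α a y = 1 := by
        rw [hy, map_smul, smul_eq_mul, ht, inv_mul_cancel₀ haz.ne']
      have hy' : ∀ i ∈ s, α i y ≤ 0 := by
        intro i hi
        rw [hy, map_smul, smul_eq_mul]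
        exact mul_nonpos_of_nonneg_of_nonpos ht0.le (hz i hi)
      have hγy : 0 < γ y := by
        rw [hy, map_smul, smul_eq_mul]
        exact mul_pos ht0 hγz
      obtain ⟨u, hu, hγ⟩ := ih (fun i => α i - α i y • α a) (γ - γ y • α a) (by
        intro x hx
        have h1 := h (x - α a x • y) (by
          intro i hi
          rcases Finset.mem_insert.1 hi with rfl | hi
          · rw [map_sub, map_smul, hay, smul_eq_mul, mul_one, sub_self]
          · have := hx i hi
            simp only [LinearMap.sub_apply, LinearMap.smul_apply, smul_eq_mul] at this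
            rw [map_sub, map_smul, smul_eq_mul]
            linarith)
        simp only [LinearMap.sub_apply, LinearMap.smul_apply, smul_eq_mul]
        rw [map_sub, map_smul, smul_eq_mul] at h1
        linarith)
      refine ⟨fun i => if i = a then γ y - ∑ j ∈ s, u j * α j y else u i, fun i => ?_, ?_⟩
      · dsimp only
        split_ifs
        · have : ∑ j ∈ s, u j * α j y ≤ 0 :=
            Finset.sum_nonpos fun j hj => mul_nonpos_of_nonneg_of_nonpos (hu j) (hy' j hj)
          linarith
        · exact hu i
      · rw [Finset.sum_insert ha]
        dsimp only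
        rw [if_pos rfl]
        have h2 : ∑ i ∈ s, (if i = a then γ y - ∑ j ∈ s, u j * α j y else u i) • α i =
            ∑ i ∈ s, u i • α i := by
          refine Finset.sum_congr rfl fun i hi => ?_
          rw [if_neg]
          rintro rfl
          exact ha hi
        rw [h2]
        refine LinearMap.ext fun x => ?_
        have h3 := LinearMap.congr_fun hγ x
        simp only [LinearMap.add_apply, LinearMap.smul_apply, LinearMap.sum_apply,
          LinearMap.sub_apply, smul_eq_mul] at h3 ⊢
        have h4 : ∑ i ∈ s, u i * (α i x - α i y * α a x) =
            ∑ i ∈ s, u i * α i x - (∑ i ∈ s, u i * α i y) * α a x := by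
          rw [Finset.sum_mul, ← Finset.sum_sub_distrib]
          exact Finset.sum_congr rfl fun i _ => by ring
        rw [h4] at h3
        linear_combination h3

end K688.Farkas
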