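import Groth.Agent.GIT.K688.RosUnits
import Groth.Prelude.Def_GLinSh
import Groth.Agent.Books.AlgPtsGrp

/-!
# Liftings of an action to a line bundle, on rational points

`vl p W h s`: the value in `k` of the section `s` of `W` at the rational point `p`.
-/

set_option autoImplicit false

universe u

open CategoryTheory MonoidalCategory CartesianMonoidalCategory MonObj GrpObj AlgebraicGeometry Limits Opposite
open Groth.Agent.Books.AlgPts

namespace K688.LinLift

variable {k : Type u} [Field k]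

section Val

/-- The value in `k` of a section of `O_Y` over `W` at a rational point in `W`. -/
noncomputable def vl {Y : Over (Spec (CommRingCat.of k))} (p : 𝟙_ (Over (Spec (CommRingCat.of k))) ⟶ Y)
    (W : Y.left.Opens) (h : ⊤ ≤ p.left ⁻¹ᵁ W) : Γ(Y.left, W) →+* k :=
  (Scheme.ΓSpecIso (CommRingCat.of k)).hom.hom.comp
    (show Γ(Y.left, W) →+* Γ(Spec (CommRingCat.of k), ⊤) from (p.left.appLE W ⊤ h).hom)

lemma vl_apply {Y : Over (Spec (CommRingCat.of k))} (p : 𝟙_ (Over (Spec (CommRingCat.of k))) ⟶ Y)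
    (W : Y.left.Opens) (h : ⊤ ≤ p.left ⁻¹ᵁ W) (s : Γ(Y.left, W)) :
    vl p W h s = (Scheme.ΓSpecIso (CommRingCat.of k)).hom.hom (p.left.appLE W ⊤ h s) := rfl

lemma vl_congr {Y : Over (Spec (CommRingCat.of k))} {p q : 𝟙_ (Over (Spec (CommRingCat.of k))) ⟶ Y}
    (hpq : p = q) (W : Y.left.Opens) (h : ⊤ ≤ p.left ⁻¹ᵁ W) (h' : ⊤ ≤ q.left ⁻¹ᵁ W)
    (s : Γ(Y.left, W)) : vl p W h s = vl q W h' s := by
  subst hpq
  rfl

lemma vl_appLE {Y Z : Over (Spec (CommRingCat.of k))} (p : 𝟙_ (Over (Spec (CommRingCat.of k))) ⟶ Y)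
    (f : Y ⟶ Z) (W : Z.left.Opens) (W' : Y.left.Opens) (e : W' ≤ f.left ⁻¹ᵁ W)
    (h : ⊤ ≤ p.left ⁻¹ᵁ W') (h' : ⊤ ≤ (p ≫ f).left ⁻¹ᵁ W) (s : Γ(Z.left, W)) :
    vl p W' h (f.left.appLE W W' e s) = vl (p ≫ f) W h' s := by
  rw [vl_apply, vl_apply]
  congr 1
  have h1 := Scheme.Hom.appLE_comp_appLE p.left f.left W W' ⊤ e h
  exact congrArg (fun t => t.hom s) h1

lemma vl_app {Y Z : Over (Spec (CommRingCat.of k))} (p : 𝟙_ (Over (Spec (CommRingCat.of k))) ⟶ Y)
    (f : Y ⟶ Z) (W : Z.left.Opens)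
    (h : ⊤ ≤ p.left ⁻¹ᵁ (f.left ⁻¹ᵁ W)) (h' : ⊤ ≤ (p ≫ f).left ⁻¹ᵁ W) (s : Γ(Z.left, W)) :
    vl p (f.left ⁻¹ᵁ W) h (f.left.app W s) = vl (p ≫ f) W h' s := by
  rw [← vl_appLE p f W (f.left ⁻¹ᵁ W) le_rfl h h' s, Scheme.Hom.app_eq_appLE]

lemma vl_res {Y : Over (Spec (CommRingCat.of k))} (p : 𝟙_ (Over (Spec (CommRingCat.of k))) ⟶ Y)
    (W W' : Y.left.Opens) (e : W' ≤ W) (h : ⊤ ≤ p.left ⁻¹ᵁ W') (h' : ⊤ ≤ p.left ⁻¹ᵁ W)
    (s : Γ(Y.left, W)) : vl p W' h (Y.left.presheaf.map (homOfLE e).op s) = vl p W h' s := by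
  rw [vl_apply, vl_apply]
  congr 1
  have h1 := Scheme.Hom.map_appLE p.left h (homOfLE e).op
  exact congrArg (fun t => t.hom s) h1

lemma top_le_of_pt_mem {Y : Over (Spec (CommRingCat.of k))}
    (p : 𝟙_ (Over (Spec (CommRingCat.of k))) ⟶ Y) (W : Y.left.Opens) (h : pt p ∈ W) :
    ⊤ ≤ p.left ⁻¹ᵁ W := by
  intro q _
  have : q = IsLocalRing.closedPoint k := Subsingleton.elim (α := PrimeSpectrum k) _ _
  rw [this]
  exact h

lemma pt_mem_of_top_le {Y : Over (Spec (CommRingCat.of k))}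
    (p : 𝟙_ (Over (Spec (CommRingCat.of k))) ⟶ Y) (W : Y.left.Opens) (h : ⊤ ≤ p.left ⁻¹ᵁ W) :
    pt p ∈ W := h (show IsLocalRing.closedPoint k ∈ ⊤ from trivial)

/-- The value is nonzero exactly on the basic open. -/
lemma vl_ne_zero_iff {Y : Over (Spec (CommRingCat.of k))}
    (p : 𝟙_ (Over (Spec (CommRingCat.of k))) ⟶ Y) (W : Y.left.Opens) (h : ⊤ ≤ p.left ⁻¹ᵁ W)
    (s : Γ(Y.left, W)) : vl p W h s ≠ 0 ↔ pt p ∈ Y.left.basicOpen s := by
  have h1 := Scheme.basicOpen_appLE p.left ⊤ W h s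
  constructor
  · intro hs
    have h2 : IsUnit (vl p W h s) := isUnit_iff_ne_zero.mpr hs
    have h3 : IsUnit (p.left.appLE W ⊤ h s) :=
      (isUnit_map_iff (Scheme.ΓSpecIso (CommRingCat.of k)).commRingCatIsoToRingEquiv _).mp h2
    rw [Scheme.basicOpen_of_isUnit _ h3] at h1
    exact pt_mem_of_top_le p _ (h1.le.trans inf_le_right)
  · intro hs h0
    have h3 : p.left.appLE W ⊤ h s = 0 :=
      (map_eq_zero_iff _ (Scheme.ΓSpecIso (CommRingCat.of k)).commRingCatIsoToRingEquiv.injective).mp h0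
    rw [h3, Scheme.basicOpen_zero] at h1
    have h4 := top_le_of_pt_mem p _ hs
    have h5 : (⊤ : (𝟙_ (Over (Spec (CommRingCat.of k)))).left.Opens) ≤ ⊥ := by
      rw [h1]
      exact le_inf le_rfl h4
    exact h5 (show IsLocalRing.closedPoint k ∈ ⊤ from trivial)

/-- A global function whose values at all rational points are nonzero is a unit. -/
theorem isUnit_of_vl [IsAlgClosed k] {Y : Over (Spec (CommRingCat.of k))} [LocallyOfFiniteType Y.hom]
    (s : Γ(Y.left, ⊤)) (h : ∀ p : 𝟙_ (Over (Spec (CommRingCat.of k))) ⟶ Y, vl p ⊤ le_top s ≠ 0) :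
    IsUnit s := by
  have h1 : (Set.univ : Set Y.left) ⊆ (Y.left.basicOpen s : Set Y.left) := by
    by_contra hne
    obtain ⟨z, -, hz⟩ := Set.not_subset.mp hne
    obtain ⟨x, hx⟩ := exists_pt_mem (X := Y) (U := (Y.left.basicOpen s : Set Y.left)ᶜ) ⟨z, hz⟩
      (Y.left.basicOpen s).isOpen.isClosed_compl.isLocallyClosed
    exact hx ((vl_ne_zero_iff x ⊤ le_top s).mp (h x))
  refine Y.left.toRingedSpace.isUnit_of_isUnit_germ ⊤ s fun x hx => ?_
  exact (Scheme.mem_basicOpen _ _ _ hx).mp (h1 (Set.mem_univ x))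

/-- Over an algebraically closed field, two morphisms from a reduced scheme locally of finite type
to `Y`, which agree after a separated morphism `Y ⟶ Z` and on rational points, are equal. -/
theorem hom_ext_of_pt [IsAlgClosed k] {X Y Z : Over (Spec (CommRingCat.of k))}
    [LocallyOfFiniteType X.hom] [IsReduced X.left] (f g : X ⟶ Y) (i : Y ⟶ Z) [IsSeparated i.left]
    (h : f ≫ i = g ≫ i)
    (H : ∀ p : 𝟙_ (Over (Spec (CommRingCat.of k))) ⟶ X, p ≫ f = p ≫ g) : f = g := by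
  have := LocallyOfFiniteType.jacobsonSpace X.hom
  ext1
  suffices IsDominant (equalizer.ι f.left g.left) from
    ext_of_isDominant_of_isSeparated i.left (by rw [← Over.comp_left, h, Over.comp_left])
      (equalizer.ι f.left g.left) (equalizer.condition _ _)
  have hd : Dense (closedPoints X.left) := by
    rw [dense_iff_closure_eq]
    have := JacobsonSpace.closure_inter_closedPoints (X := X.left) isClosed_univ
    simpa using this
  refine ⟨.mono (fun x hx ↦ ?_) hd⟩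
  obtain ⟨p, hp⟩ := exists_pt x hx
  have he : p.left ≫ f.left = p.left ≫ g.left := by rw [← Over.comp_left, H p, Over.comp_left]
  exact ⟨equalizer.lift p.left he (IsLocalRing.closedPoint k),
    (congrArg (fun (m : (𝟙_ (Over (Spec (CommRingCat.of k)))).left ⟶ X.left) =>
      m (show PrimeSpectrum k from IsLocalRing.closedPoint k)) (equalizer.lift_ι p.left he)).trans hp⟩

end Val

section Pts

lemma hom_ext_of_appLE {R : CommRingCat.{u}} {Y : Scheme.{u}} {f g : Spec R ⟶ Y} {W : Y.Opens}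
    (hW : IsAffineOpen W) (hf : ⊤ ≤ f ⁻¹ᵁ W) (hg : ⊤ ≤ g ⁻¹ᵁ W)
    (h : f.appLE W ⊤ hf = g.appLE W ⊤ hg) : f = g := by
  have h1 := hW.SpecMap_appLE_fromSpec f (isAffineOpen_top (Spec R)) hf
  have h2 := hW.SpecMap_appLE_fromSpec g (isAffineOpen_top (Spec R)) hg
  rw [h, h2] at h1
  have : IsIso (isAffineOpen_top (Spec R)).fromSpec := by
    rw [IsAffineOpen.fromSpec_top]; infer_instance
  exact ((cancel_epi _).mp h1).symm

lemma pt_ext_of_vl {Y : Over (Spec (CommRingCat.of k))} {p q : 𝟙_ (Over (Spec (CommRingCat.of k))) ⟶ Y}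
    {W : Y.left.Opens} (hW : IsAffineOpen W) (hp : ⊤ ≤ p.left ⁻¹ᵁ W) (hq : ⊤ ≤ q.left ⁻¹ᵁ W)
    (h : ∀ s, vl p W hp s = vl q W hq s) : p = q := by
  ext1
  apply hom_ext_of_appLE (R := CommRingCat.of k) hW hp hq
  ext s
  exact (Scheme.ΓSpecIso (CommRingCat.of k)).commRingCatIsoToRingEquiv.injective (h s)

lemma exists_hom_appLE {R : CommRingCat.{u}} {Y : Scheme.{u}} {W : Y.Opens}
    (hW : IsAffineOpen W) (φ : Γ(Y, W) ⟶ R) :
    ∃ (m : Spec R ⟶ Y) (h : ⊤ ≤ m ⁻¹ᵁ W), m.appLE W ⊤ h ≫ (Scheme.ΓSpecIso R).hom = φ := by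
  have h : ⊤ ≤ (Spec.map φ ≫ hW.fromSpec) ⁻¹ᵁ W := by
    rw [Scheme.Hom.comp_preimage, hW.fromSpec_preimage_self]
    exact le_rfl
  refine ⟨Spec.map φ ≫ hW.fromSpec, h, ?_⟩
  have e1 : (⊤ : (Spec Γ(Y, W)).Opens) ≤ hW.fromSpec ⁻¹ᵁ W := hW.fromSpec_preimage_self.ge
  have h1 := Scheme.Hom.appLE_comp_appLE (Spec.map φ) hW.fromSpec W ⊤ ⊤ e1 le_top
  rw [← h1]
  have h2 : hW.fromSpec.appLE W ⊤ e1 = (Scheme.ΓSpecIso Γ(Y, W)).inv := by
    rw [Scheme.Hom.appLE, hW.fromSpec_app_self, Category.assoc, ← Functor.map_comp, ← op_comp]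
    have : eqToHom hW.fromSpec_preimage_self = homOfLE le_top := Subsingleton.elim _ _
    have h3 : (homOfLE e1 ≫ eqToHom hW.fromSpec_preimage_self) = 𝟙 _ := Subsingleton.elim _ _
    rw [h3]
    simp
  rw [h2, Category.assoc]
  have h4 : (Spec.map φ).appLE ⊤ ⊤ le_top = (Spec.map φ).appTop := by
    rw [Scheme.Hom.appTop, Scheme.Hom.app_eq_appLE]
    rfl
  rw [h4, Scheme.ΓSpecIso_naturality, Iso.inv_hom_id_assoc]

end Pts

section Fibre

variable {X V : Over (Spec (CommRingCat.of k))} {π : V ⟶ X}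

lemma exists_affine_nhd {Y : Scheme.{u}} {U : Y.Opens} {y : Y} (hy : y ∈ U) :
    ∃ W : Y.Opens, IsAffineOpen W ∧ y ∈ W ∧ W ≤ U := by
  obtain ⟨_, ⟨W, hW, rfl⟩, hxW, hWU⟩ :=
    Y.isBasis_affineOpens.exists_subset_of_mem_open hy U.isOpen
  exact ⟨W, hW, hxW, hWU⟩

open GLinSh

lemma pt_ext_of_coord [IsAffineHom π.left] {U : X.left.Opens} {y : Γ(V.left, π.left ⁻¹ᵁ U)}
    (hy : IsFibreCoord π U y) {v v' : 𝟙_ (Over (Spec (CommRingCat.of k))) ⟶ V}
    (h : ⊤ ≤ v.left ⁻¹ᵁ (π.left ⁻¹ᵁ U)) (h' : ⊤ ≤ v'.left ⁻¹ᵁ (π.left ⁻¹ᵁ U))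
    (hπ : v ≫ π = v' ≫ π) (hv : vl v _ h y = vl v' _ h' y) : v = v' := by
  have hx : pt (v ≫ π) ∈ U := by
    have := pt_mem_of_top_le v _ h
    rw [pt_comp]
    exact this
  obtain ⟨W, hW, hxW, hWU⟩ := exists_affine_nhd hx
  have hP : IsAffineOpen (π.left ⁻¹ᵁ W) := hW.preimage π.left
  have h1 : ⊤ ≤ (v ≫ π).left ⁻¹ᵁ W := top_le_of_pt_mem _ _ hxW
  have h1' : ⊤ ≤ (v' ≫ π).left ⁻¹ᵁ W := hπ ▸ h1
  have h2 : ⊤ ≤ v.left ⁻¹ᵁ (π.left ⁻¹ᵁ W) := h1
  have h2' : ⊤ ≤ v'.left ⁻¹ᵁ (π.left ⁻¹ᵁ W) := h1'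
  refine pt_ext_of_vl hP h2 h2' fun s => ?_
  obtain ⟨f, rfl⟩ := (hy W hW hWU).2 s
  have key : (vl v _ h2).comp (Polynomial.eval₂RingHom (π.left.app W).hom (res π hWU y)) =
      (vl v' _ h2').comp (Polynomial.eval₂RingHom (π.left.app W).hom (res π hWU y)) := by
    apply Polynomial.ringHom_ext
    · intro a
      simp only [RingHom.comp_apply, Polynomial.coe_eval₂RingHom, Polynomial.eval₂_C]
      exact (vl_app v π W h2 h1 a).trans ((vl_congr hπ W h1 h1' a).trans (vl_app v' π W h2' h1' a).symm)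
    · simp only [RingHom.comp_apply, Polynomial.coe_eval₂RingHom, Polynomial.eval₂_X]
      exact (vl_res v _ _ (π.left.preimage_mono hWU) h2 h y).trans
        (hv.trans (vl_res v' _ _ (π.left.preimage_mono hWU) h2' h' y).symm)
  exact congrArg (fun r => r f) key

lemma exists_pt_of_coord [IsAffineHom π.left] {U : X.left.Opens} {y : Γ(V.left, π.left ⁻¹ᵁ U)}
    (hy : IsFibreCoord π U y) (x : 𝟙_ (Over (Spec (CommRingCat.of k))) ⟶ X)
    (hx : ⊤ ≤ x.left ⁻¹ᵁ U) (c : k) :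
    ∃ (v : 𝟙_ (Over (Spec (CommRingCat.of k))) ⟶ V) (h : ⊤ ≤ v.left ⁻¹ᵁ (π.left ⁻¹ᵁ U)),
      v ≫ π = x ∧ vl v _ h y = c := by
  obtain ⟨W, hW, hxW, hWU⟩ := exists_affine_nhd (pt_mem_of_top_le x U hx)
  have hP : IsAffineOpen (π.left ⁻¹ᵁ W) := hW.preimage π.left
  have h1 : ⊤ ≤ x.left ⁻¹ᵁ W := top_le_of_pt_mem _ _ hxW
  let e := RingEquiv.ofBijective _ (hy W hW hWU)
  let φ : Γ(V.left, π.left ⁻¹ᵁ W) →+* k :=
    (Polynomial.eval₂RingHom (vl x W h1) c).comp e.symm.toRingHom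
  have hφe : ∀ f, φ (e f) = Polynomial.eval₂RingHom (vl x W h1) c f := fun f => by
    simp only [φ, RingHom.comp_apply]
    congr 1
    exact e.symm_apply_apply f
  have hφπ : ∀ a, φ (π.left.app W a) = vl x W h1 a := fun a => by
    have := hφe (Polynomial.C a)
    simpa [e] using this
  have hφy : φ (res π hWU y) = c := by
    have := hφe Polynomial.X
    simpa [e] using this
  obtain ⟨m, hm, hmφ⟩ := exists_hom_appLE (R := CommRingCat.of k) hP (CommRingCat.ofHom φ)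
  have hmφ' : ∀ s, (Scheme.ΓSpecIso (CommRingCat.of k)).hom.hom (m.appLE _ ⊤ hm s) = φ s := fun s =>
    congrArg (fun t => t.hom s) hmφ
  have hmπ : m ≫ π.left = x.left := by
    refine hom_ext_of_appLE (R := CommRingCat.of k) hW (f := m ≫ π.left) (g := x.left) hm h1 ?_
    ext s
    apply (Scheme.ΓSpecIso (CommRingCat.of k)).commRingCatIsoToRingEquiv.injective
    have h3 := Scheme.Hom.appLE_comp_appLE m π.left W (π.left ⁻¹ᵁ W) ⊤ le_rfl hm
    have h4 : (m ≫ π.left).appLE W ⊤ hm s = m.appLE _ ⊤ hm (π.left.app W s) := by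
      rw [← h3, ← Scheme.Hom.app_eq_appLE]
      rfl
    exact (congrArg _ h4).trans ((hmφ' _).trans (hφπ s))
  refine ⟨Over.homMk m ?_, ?_, ?_, ?_⟩
  · have : m ≫ V.hom = x.left ≫ X.hom := by
      rw [← hmπ, Category.assoc, Over.w π]
    exact this.trans (Over.w x)
  · exact hm.trans (Scheme.Hom.preimage_mono _ (π.left.preimage_mono hWU))
  · ext1
    exact hmπ
  · refine (vl_res (Over.homMk m _) _ _ (π.left.preimage_mono hWU) hm _ y).symm.trans ?_
    exact (hmφ' _).trans hφy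

end Fibre

section Geom

variable {X V : Over (Spec (CommRingCat.of k))} {π : V ⟶ X}

open GLinSh

lemma exists_affine_coord (A : LinAtlas π) (v : V.left) :
    ∃ (W : X.left.Opens) (y : Γ(V.left, π.left ⁻¹ᵁ W)), IsAffineOpen W ∧ v ∈ π.left ⁻¹ᵁ W ∧
      Function.Bijective (Polynomial.eval₂RingHom (π.left.app W).hom y) := by
  obtain ⟨U, hxU, ⟨y, hy⟩⟩ := A.cover (π.left v)
  obtain ⟨W, hW, hxW, hWU⟩ := exists_affine_nhd hxU
  exact ⟨W, res π hWU y, hW, hxW, A.coord U y hy W hW hWU⟩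

theorem locallyOfFiniteType_left (A : LinAtlas π) : LocallyOfFiniteType π.left := by
  have := A.affine
  rw [HasRingHomProperty.iff_exists_appLE (P := @LocallyOfFiniteType)
    (RingHom.finiteType_stableUnderComposition.stableUnderCompositionWithLocalizationAway
        RingHom.finiteType_holdsForLocalizationAway).1]
  intro v
  obtain ⟨W, y, hW, hv, hb⟩ := exists_affine_coord A v
  refine ⟨⟨W, hW⟩, ⟨_, hW.preimage π.left⟩, hv, le_rfl, ?_⟩
  rw [← Scheme.Hom.app_eq_appLE]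
  have h1 : (π.left.app W).hom =
      (Polynomial.eval₂RingHom (π.left.app W).hom y).comp Polynomial.C := by
    ext s
    simp
  rw [h1]
  refine RingHom.FiniteType.comp (RingHom.FiniteType.of_surjective _ hb.2) ?_
  rw [← Polynomial.algebraMap_eq]
  exact RingHom.finiteType_algebraMap.mpr inferInstance

theorem locallyOfFiniteType_hom (A : LinAtlas π) [LocallyOfFiniteType X.hom] :
    LocallyOfFiniteType V.hom := by
  have := locallyOfFiniteType_left A
  rw [← Over.w π]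
  infer_instance

theorem isReduced_left (A : LinAtlas π) [IsReduced X.left] : IsReduced V.left := by
  have := A.affine
  choose W y hW hv hb using exists_affine_coord A
  have hcov : ⨆ v, (π.left ⁻¹ᵁ W v) = ⊤ := by
    rw [eq_top_iff]
    intro v _
    exact TopologicalSpace.Opens.mem_iSup.mpr ⟨v, hv v⟩
  have hr : ∀ v, IsReduced (π.left ⁻¹ᵁ W v).toScheme := fun v => by
    have hP := (hW v).preimage π.left
    have : IsAffine (π.left ⁻¹ᵁ W v).toScheme := hP
    have h0 : _root_.IsReduced (Polynomial Γ(X.left, W v)) := by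
      rw [isReduced_iff]
      intro f hf
      rw [Polynomial.isNilpotent_iff] at hf
      ext i
      simpa using (hf i).eq_zero
    have h1 : _root_.IsReduced Γ(V.left, π.left ⁻¹ᵁ W v) :=
      isReduced_of_injective (RingEquiv.ofBijective _ (hb v)).symm
        (RingEquiv.ofBijective _ (hb v)).symm.injective
    have h2 : _root_.IsReduced Γ((π.left ⁻¹ᵁ W v).toScheme, ⊤) :=
      isReduced_of_injective (π.left ⁻¹ᵁ W v).topIso.commRingCatIsoToRingEquiv
        (π.left ⁻¹ᵁ W v).topIso.commRingCatIsoToRingEquiv.injective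
    exact isReduced_of_isAffine_isReduced _
  exact @IsReduced.of_openCover _ (V.left.openCoverOfIsOpenCover _ (.mk hcov)) hr

theorem isReduced_tensor (G V : Over (Spec (CommRingCat.of k))) [Smooth G.hom]
    [LocallyOfFiniteType V.hom] [IsReduced V.left] : IsReduced (G ⊗ V).left := by
  have := Groth.Agent.Flat2B.SmoothGeom.geometricallyReduced_of_smooth G.hom
  have : IsLocallyNoetherian V.left := LocallyOfFiniteType.isLocallyNoetherian V.hom
  exact inferInstanceAs (IsReduced (pullback G.hom V.hom))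

theorem locallyOfFiniteType_tensor (G V : Over (Spec (CommRingCat.of k))) [LocallyOfFiniteType G.hom]
    [LocallyOfFiniteType V.hom] : LocallyOfFiniteType (G ⊗ V).hom := by
  have h : (G ⊗ V).hom = (snd G V).left ≫ V.hom := (Over.w (snd G V)).symm
  rw [h]
  have : LocallyOfFiniteType (snd G V).left :=
    inferInstanceAs (LocallyOfFiniteType (pullback.snd G.hom V.hom))
  infer_instance

end Geom

end K688.LinLift
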