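import Groth.Agent.GIT.K688.LinLift

/-!
# Uniqueness of a linear lift when there are no characters
-/

set_option autoImplicit false

universe u

open CategoryTheory MonoidalCategory CartesianMonoidalCategory MonObj GrpObj AlgebraicGeometry Limits Opposite
open Groth.Agent.Books.AlgPts GLinSh K688.LinLift

namespace K688.LinLiftUniq

section Act

variable {S : Scheme.{u}} {G X : Over S} [GrpObj G]

theorem lift_one_act (a : AlgGrp.Action G X) {T : Over S} (x : T ⟶ X) :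
    lift (1 : T ⟶ G) x ≫ a.act = x := by
  rw [Hom.one_def, ← lift_whiskerRight_assoc (toUnit T) x η[G], a.one_act, leftUnitor_hom, lift_snd]

theorem lift_mul_act (a : AlgGrp.Action G X) {T : Over S} (g h : T ⟶ G) (x : T ⟶ X) :
    lift (g * h) x ≫ a.act = lift g (lift h x ≫ a.act) ≫ a.act := by
  rw [Hom.mul_def, ← lift_whiskerRight_assoc, a.mul_act, lift_lift_associator_hom_assoc,
    lift_whiskerLeft_assoc]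

theorem act_injective (a : AlgGrp.Action G X) {T : Over S} (g : T ⟶ G) {x x' : T ⟶ X}
    (h : lift g x ≫ a.act = lift g x' ≫ a.act) : x = x' := by
  rw [← lift_one_act a x, ← lift_one_act a x', ← inv_mul_cancel g, lift_mul_act, lift_mul_act, h]

end Act

variable {k : Type u} [Field k]
variable {G X V : Over (Spec (CommRingCat.of k))} [GrpObj G] {π : V ⟶ X}

lemma lift_act_comp {a : AlgGrp.Action G X} {Φ : AlgGrp.Action G V}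
    (hπ : Φ.act ≫ π = (G ◁ π) ≫ a.act) {T : Over (Spec (CommRingCat.of k))} (g : T ⟶ G) (v : T ⟶ V) :
    (lift g v ≫ Φ.act) ≫ π = lift g (v ≫ π) ≫ a.act := by
  rw [Category.assoc, hπ, lift_whiskerLeft_assoc]

/-- The factor of a linear lift at rational points. -/
theorem exists_factor {a : AlgGrp.Action G X} {chart : ∀ U : X.left.Opens, Set (Γ(V.left, π.left ⁻¹ᵁ U))}
    {Φ : AlgGrp.Action G V} {hπ : Φ.act ≫ π = (G ◁ π) ≫ a.act} (hl : IsLinearLift a π Φ chart hπ)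
    {U U' : X.left.Opens} {y : Γ(V.left, π.left ⁻¹ᵁ U)} {y' : Γ(V.left, π.left ⁻¹ᵁ U')}
    (hy : y ∈ chart U) (hy' : y' ∈ chart U')
    (g : 𝟙_ (Over (Spec (CommRingCat.of k))) ⟶ G) (x : 𝟙_ (Over (Spec (CommRingCat.of k))) ⟶ X)
    (hx : ⊤ ≤ x.left ⁻¹ᵁ U) (hx' : ⊤ ≤ (lift g x ≫ a.act).left ⁻¹ᵁ U') :
    ∃ r : k, ∀ (v : 𝟙_ (Over (Spec (CommRingCat.of k))) ⟶ V) (_ : v ≫ π = x)
      (h : ⊤ ≤ v.left ⁻¹ᵁ (π.left ⁻¹ᵁ U))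
      (h' : ⊤ ≤ (lift g v ≫ Φ.act).left ⁻¹ᵁ (π.left ⁻¹ᵁ U')),
      vl (lift g v ≫ Φ.act) _ h' y' = r * vl v _ h y := by
  obtain ⟨c, hc⟩ := hl U U' y y' hy hy'
  have hD : ⊤ ≤ (lift g x).left ⁻¹ᵁ (a.act.left ⁻¹ᵁ U' ⊓ (snd G X).left ⁻¹ᵁ U) := by
    have h2 : ⊤ ≤ (lift g x ≫ snd G X).left ⁻¹ᵁ U := by rw [lift_snd]; exact hx
    exact le_inf hx' h2
  refine ⟨vl (lift g x) _ hD c, fun v hv h h' => ?_⟩
  subst hv
  have e1 : lift g v ≫ (G ◁ π) = lift g (v ≫ π) := lift_whiskerLeft _ _ _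
  have hL : ⊤ ≤ (lift g v).left ⁻¹ᵁ (liftOpen a π U U') := by
    have h3 : ⊤ ≤ (lift g v ≫ (G ◁ π)).left ⁻¹ᵁ (a.act.left ⁻¹ᵁ U' ⊓ (snd G X).left ⁻¹ᵁ U) := by
      rw [e1]; exact hD
    exact h3
  have hsv : lift g v ≫ snd G V = v := lift_snd _ _
  have hsv' : ⊤ ≤ (lift g v ≫ snd G V).left ⁻¹ᵁ (π.left ⁻¹ᵁ U) := by rw [hsv]; exact h
  have hD' : ⊤ ≤ (lift g v ≫ (G ◁ π)).left ⁻¹ᵁ (a.act.left ⁻¹ᵁ U' ⊓ (snd G X).left ⁻¹ᵁ U) := by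
    rw [e1]; exact hD
  have h4 := congrArg (vl (lift g v) _ hL) hc
  rw [map_mul] at h4
  rw [vl_appLE (lift g v) Φ.act _ _ (liftOpen_le_act a π Φ hπ) hL h' y',
    vl_appLE (lift g v) (G ◁ π) _ _ (liftOpen_le_base a π) hL hD' c,
    vl_appLE (lift g v) (snd G V) _ _ (liftOpen_le_snd a π) hL hsv' y,
    vl_congr e1 _ hD' hD, vl_congr hsv _ hsv' h] at h4
  exact h4

lemma top_le_of_eq {Y : Over (Spec (CommRingCat.of k))} {p q : 𝟙_ (Over (Spec (CommRingCat.of k))) ⟶ Y}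
    (h : p = q) {W : Y.left.Opens} (hp : ⊤ ≤ p.left ⁻¹ᵁ W) : ⊤ ≤ q.left ⁻¹ᵁ W := h ▸ hp

/-- The factor is non-zero. -/
theorem exists_factor_ne_zero {a : AlgGrp.Action G X} (A : LinAtlas π)
    {Φ : AlgGrp.Action G V} {hπ : Φ.act ≫ π = (G ◁ π) ≫ a.act} (hl : IsLinearLift a π Φ A.chart hπ)
    {U U' : X.left.Opens} {y : Γ(V.left, π.left ⁻¹ᵁ U)} {y' : Γ(V.left, π.left ⁻¹ᵁ U')}
    (hy : y ∈ A.chart U) (hy' : y' ∈ A.chart U')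
    (g : 𝟙_ (Over (Spec (CommRingCat.of k))) ⟶ G) (x : 𝟙_ (Over (Spec (CommRingCat.of k))) ⟶ X)
    (hx : ⊤ ≤ x.left ⁻¹ᵁ U) (hx' : ⊤ ≤ (lift g x ≫ a.act).left ⁻¹ᵁ U') :
    ∃ r : k, r ≠ 0 ∧ ∀ (v : 𝟙_ (Over (Spec (CommRingCat.of k))) ⟶ V) (_ : v ≫ π = x)
      (h : ⊤ ≤ v.left ⁻¹ᵁ (π.left ⁻¹ᵁ U))
      (h' : ⊤ ≤ (lift g v ≫ Φ.act).left ⁻¹ᵁ (π.left ⁻¹ᵁ U')),
      vl (lift g v ≫ Φ.act) _ h' y' = r * vl v _ h y := by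
  have := A.affine
  obtain ⟨r, hr⟩ := exists_factor hl hy hy' g x hx hx'
  refine ⟨r, ?_, hr⟩
  rintro rfl
  obtain ⟨v₀, h₀, hv₀, e₀⟩ := exists_pt_of_coord (A.coord U y hy) x hx 0
  obtain ⟨v₁, h₁, hv₁, e₁⟩ := exists_pt_of_coord (A.coord U y hy) x hx 1
  have hp : ∀ v : 𝟙_ (Over (Spec (CommRingCat.of k))) ⟶ V, v ≫ π = x →
      ⊤ ≤ (lift g v ≫ Φ.act).left ⁻¹ᵁ (π.left ⁻¹ᵁ U') := fun v hv => by
    have h3 : ⊤ ≤ ((lift g v ≫ Φ.act) ≫ π).left ⁻¹ᵁ U' := by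
      rw [lift_act_comp hπ, hv]; exact hx'
    exact h3
  have e2 : lift g v₀ ≫ Φ.act = lift g v₁ ≫ Φ.act := by
    refine pt_ext_of_coord (A.coord U' y' hy') (hp v₀ hv₀) (hp v₁ hv₁) ?_ ?_
    · rw [lift_act_comp hπ, lift_act_comp hπ, hv₀, hv₁]
    · rw [hr v₀ hv₀ h₀, hr v₁ hv₁ h₁, zero_mul, zero_mul]
  have e3 : v₀ = v₁ := act_injective Φ g e2
  rw [vl_congr e3 _ h₀ h₁, e₁] at e₀
  exact one_ne_zero e₀


/-- `g ↦ Φ₂(g, Φ₁(g⁻¹, v))`. -/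
noncomputable def twist (Φ₁ Φ₂ : AlgGrp.Action G V) (v : 𝟙_ (Over (Spec (CommRingCat.of k))) ⟶ V) : G ⟶ V :=
  lift (𝟙 G) (lift ((𝟙 G)⁻¹) (toUnit G ≫ v) ≫ Φ₁.act) ≫ Φ₂.act

lemma comp_twist (Φ₁ Φ₂ : AlgGrp.Action G V) (v : 𝟙_ (Over (Spec (CommRingCat.of k))) ⟶ V)
    (g : 𝟙_ (Over (Spec (CommRingCat.of k))) ⟶ G) :
    g ≫ twist Φ₁ Φ₂ v = lift g (lift g⁻¹ v ≫ Φ₁.act) ≫ Φ₂.act := by
  rw [twist, comp_lift_assoc, comp_lift_assoc, GrpObj.comp_inv, Category.comp_id, ← Category.assoc g (toUnit G) v,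
    toUnit_unique (g ≫ toUnit G) (𝟙 _), Category.id_comp]

lemma twist_comp {a : AlgGrp.Action G X} {Φ₁ Φ₂ : AlgGrp.Action G V}
    (h₁ : Φ₁.act ≫ π = (G ◁ π) ≫ a.act) (h₂ : Φ₂.act ≫ π = (G ◁ π) ≫ a.act)
    (v : 𝟙_ (Over (Spec (CommRingCat.of k))) ⟶ V) :
    twist Φ₁ Φ₂ v ≫ π = toUnit G ≫ v ≫ π := by
  rw [twist, lift_act_comp h₂, lift_act_comp h₁, ← lift_mul_act, mul_inv_cancel, lift_one_act,
    Category.assoc]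

theorem pt_eq [IsAlgClosed k] [Smooth G.hom] [ConnectedSpace G.left]
    (hχ : ∀ (χ : G ⟶ Red.Gm (Spec (CommRingCat.of k))) [IsMonHom χ], χ = 1)
    (a : AlgGrp.Action G X) (A : GLinSh.LinAtlas π)
    (Φ₁ Φ₂ : AlgGrp.Action G V) (h₁ : Φ₁.act ≫ π = (G ◁ π) ≫ a.act) (h₂ : Φ₂.act ≫ π = (G ◁ π) ≫ a.act)
    (hl₁ : GLinSh.IsLinearLift a π Φ₁ A.chart h₁) (hl₂ : GLinSh.IsLinearLift a π Φ₂ A.chart h₂)
    (v : 𝟙_ (Over (Spec (CommRingCat.of k))) ⟶ V) (g : 𝟙_ (Over (Spec (CommRingCat.of k))) ⟶ G) :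
    g ≫ twist Φ₁ Φ₂ v = v := by
  have := A.affine
  obtain ⟨U, hxU, ⟨y, hy⟩⟩ := A.cover (pt (v ≫ π))
  have hx : ⊤ ≤ (v ≫ π).left ⁻¹ᵁ U := top_le_of_pt_mem _ _ hxU
  have hc := A.coord U y hy
  obtain ⟨v₁, hv₁U, hv₁, e₁⟩ := exists_pt_of_coord hc (v ≫ π) hx 1
  have hv : ⊤ ≤ v.left ⁻¹ᵁ (π.left ⁻¹ᵁ U) := hx
  -- the twist of any point over `x` stays over `x`
  have hov : ∀ v' : 𝟙_ (Over (Spec (CommRingCat.of k))) ⟶ V, v' ≫ π = v ≫ π →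
      ∀ g : 𝟙_ (Over (Spec (CommRingCat.of k))) ⟶ G, (g ≫ twist Φ₁ Φ₂ v') ≫ π = v ≫ π := by
    intro v' hv' g
    rw [Category.assoc, twist_comp h₁ h₂, hv', ← Category.assoc g, toUnit_unique (g ≫ toUnit G) (𝟙 _),
      Category.id_comp]
  have hmem : ∀ v' : 𝟙_ (Over (Spec (CommRingCat.of k))) ⟶ V, v' ≫ π = v ≫ π →
      ∀ g : 𝟙_ (Over (Spec (CommRingCat.of k))) ⟶ G,
        ⊤ ≤ (g ≫ twist Φ₁ Φ₂ v').left ⁻¹ᵁ (π.left ⁻¹ᵁ U) := by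
    intro v' hv' g
    exact top_le_of_eq (hov v' hv' g).symm hx
  -- linearity on the fibre
  have hlin : ∀ g : 𝟙_ (Over (Spec (CommRingCat.of k))) ⟶ G, ∃ r : k, r ≠ 0 ∧
      ∀ (v' : 𝟙_ (Over (Spec (CommRingCat.of k))) ⟶ V) (hv' : v' ≫ π = v ≫ π)
        (h' : ⊤ ≤ v'.left ⁻¹ᵁ (π.left ⁻¹ᵁ U)),
        vl (g ≫ twist Φ₁ Φ₂ v') _ (hmem v' hv' g) y = r * vl v' _ h' y := by
    intro g
    obtain ⟨U', hxU', ⟨y', hy'⟩⟩ := A.cover (pt (lift g⁻¹ (v ≫ π) ≫ a.act))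
    have hx' : ⊤ ≤ (lift g⁻¹ (v ≫ π) ≫ a.act).left ⁻¹ᵁ U' := top_le_of_pt_mem _ _ hxU'
    have hback : lift g (lift g⁻¹ (v ≫ π) ≫ a.act) ≫ a.act = v ≫ π := by
      rw [← lift_mul_act, mul_inv_cancel, lift_one_act]
    obtain ⟨r₁, hr₁, H₁⟩ := exists_factor_ne_zero A hl₁ hy hy' g⁻¹ (v ≫ π) hx hx'
    obtain ⟨r₂, hr₂, H₂⟩ := exists_factor_ne_zero A hl₂ hy' hy g _ hx' (top_le_of_eq hback.symm hx)
    refine ⟨r₂ * r₁, mul_ne_zero hr₂ hr₁, fun v' hv' h' => ?_⟩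
    have e2 : (lift g⁻¹ v' ≫ Φ₁.act) ≫ π = lift g⁻¹ (v ≫ π) ≫ a.act := by
      rw [lift_act_comp h₁, hv']
    have m2 : ⊤ ≤ (lift g⁻¹ v' ≫ Φ₁.act).left ⁻¹ᵁ (π.left ⁻¹ᵁ U') :=
      top_le_of_eq e2.symm hx'
    have m3 : ⊤ ≤ (lift g (lift g⁻¹ v' ≫ Φ₁.act) ≫ Φ₂.act).left ⁻¹ᵁ (π.left ⁻¹ᵁ U) :=
      top_le_of_eq (comp_twist Φ₁ Φ₂ v' g) (hmem v' hv' g)
    rw [vl_congr (comp_twist Φ₁ Φ₂ v' g) _ (hmem v' hv' g) m3, H₂ _ e2 m2 m3, H₁ v' hv' h' m2,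
      _root_.mul_assoc]
  -- the function `w` on `G`
  have hw : ⊤ ≤ (twist Φ₁ Φ₂ v₁).left ⁻¹ᵁ (π.left ⁻¹ᵁ U) := by
    have h3 : ⊤ ≤ (twist Φ₁ Φ₂ v₁ ≫ π).left ⁻¹ᵁ U := by
      rw [twist_comp h₁ h₂, hv₁]
      intro z _
      exact hx (show (toUnit G).left z ∈ ⊤ from trivial)
    exact h3
  let w : Γ(G.left, ⊤) := (twist Φ₁ Φ₂ v₁).left.appLE (π.left ⁻¹ᵁ U) ⊤ hw y
  have hwv : ∀ g : 𝟙_ (Over (Spec (CommRingCat.of k))) ⟶ G,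
      vl g ⊤ le_top w = vl (g ≫ twist Φ₁ Φ₂ v₁) _ (hmem v₁ hv₁ g) y := fun g =>
    vl_appLE g (twist Φ₁ Φ₂ v₁) _ _ hw le_top _ y
  have hwu : IsUnit w := by
    refine isUnit_of_vl w fun g => ?_
    obtain ⟨r, hr, H⟩ := hlin g
    rw [hwv, H v₁ hv₁ hv₁U, e₁, _root_.mul_one]
    exact hr
  have hη : (η[G] : 𝟙_ (Over (Spec (CommRingCat.of k))) ⟶ G) ≫ twist Φ₁ Φ₂ v₁ = v₁ := by
    have h0 : (η[G] : 𝟙_ (Over (Spec (CommRingCat.of k))) ⟶ G) = 1 := by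
      rw [Hom.one_def, toUnit_unique (toUnit _) (𝟙 _), Category.id_comp]
    rw [h0, comp_twist, inv_one, lift_one_act, lift_one_act]
  have hw1 : η[G].left.appTop w = 1 := by
    apply (Scheme.ΓSpecIso (CommRingCat.of k)).commRingCatIsoToRingEquiv.injective
    rw [map_one]
    have h5 : vl η[G] ⊤ le_top w = 1 := by
      rw [hwv, vl_congr hη _ _ hv₁U, e₁]
    have h6 : η[G].left.appTop = η[G].left.appLE ⊤ ⊤ le_top := by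
      rw [Scheme.Hom.appTop, Scheme.Hom.app_eq_appLE]
      rfl
    refine Eq.trans ?_ h5
    exact congrArg (fun t => (Scheme.ΓSpecIso (CommRingCat.of k)).hom.hom (t.hom w)) h6
  have hw1' : w = 1 := RosUnits.eq_one_of_no_character G hχ w hwu hw1
  -- conclusion
  obtain ⟨r, hr, H⟩ := hlin g
  have hr1 : r = 1 := by
    have h7 := H v₁ hv₁ hv₁U
    rw [e₁, _root_.mul_one, ← hwv, hw1', map_one] at h7
    exact h7.symm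
  refine pt_ext_of_coord hc (hmem v rfl g) hv (hov v rfl g) ?_
  rw [H v rfl hv, hr1, _root_.one_mul]

theorem act_eq [IsAlgClosed k] [Smooth G.hom] [ConnectedSpace G.left]
    (hχ : ∀ (χ : G ⟶ Red.Gm (Spec (CommRingCat.of k))) [IsMonHom χ], χ = 1)
    [LocallyOfFiniteType G.hom] [LocallyOfFiniteType X.hom] [IsReduced X.left]
    (a : AlgGrp.Action G X) (A : GLinSh.LinAtlas π)
    (Φ₁ Φ₂ : AlgGrp.Action G V) (h₁ : Φ₁.act ≫ π = (G ◁ π) ≫ a.act) (h₂ : Φ₂.act ≫ π = (G ◁ π) ≫ a.act)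
    (hl₁ : GLinSh.IsLinearLift a π Φ₁ A.chart h₁) (hl₂ : GLinSh.IsLinearLift a π Φ₂ A.chart h₂) :
    Φ₁.act = Φ₂.act := by
  have := A.affine
  have := locallyOfFiniteType_hom A
  have := isReduced_left A
  have := isReduced_tensor G V
  have := locallyOfFiniteType_tensor G V
  refine hom_ext_of_pt _ _ π (h₁.trans h₂.symm) fun p => ?_
  have h3 := pt_eq hχ a A Φ₁ Φ₂ h₁ h₂ hl₁ hl₂ (p ≫ snd G V) (p ≫ fst G V)⁻¹
  rw [comp_twist, _root_.inv_inv] at h3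
  have h4 : p = lift (p ≫ fst G V) (p ≫ snd G V) := by
    ext <;> simp
  have h5 := congrArg (fun t => lift (p ≫ fst G V) t ≫ Φ₂.act) h3
  rw [← lift_mul_act, mul_inv_cancel, lift_one_act, ← h4] at h5
  exact h5

end K688.LinLiftUniq
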