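import Groth.Agent.GIT.K689.LinBunBasic
import Groth.Agent.GIT.K688.ActRes

/-!
# Ratios of invariant sections of a linearised line bundle are invariant functions

For sections `f`, `g` of weight `n` and an open `W ⊆ X_g`: the ratio `r ∈ Γ(X, W)` with
`f = π^* r * g`; its pullback along an equivariant morphism into `W` is invariant when `f`, `g` are.
-/

set_option autoImplicit false

universe u

open CategoryTheory CategoryTheory.Limits MonoidalCategory CartesianMonoidalCategory MonObj AlgebraicGeometry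
  TopologicalSpace Opposite

namespace K688.LinRatio

open K689.SchGlue K689.Coord K689.CoordUP K689.Weight K689.Ratio K689.ActBasic K689.LinBunBasic
open K688.ActRes (op inc)

section Base

variable {S : Scheme.{u}} {X V : Over S} {π : V ⟶ X}

/-- `r` is the ratio of `f` by `g` over `W`. -/
def IsRatio (π : V ⟶ X) (W : X.left.Opens) (f g : Γ(V.left, ⊤)) (r : Γ(X.left, W)) : Prop :=
  rs π.left (le_top : W ≤ ⊤) (tt π.left f) = π.left.app W r * rs π.left (le_top : W ≤ ⊤) (tt π.left g)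

theorem exists_isRatio (A : GLinSh.LinAtlas π) {n : ℕ} {f g : Γ(V.left, ⊤)}
    (hf : GLinSh.HasWeight A.chart n f) (hg : GLinSh.HasWeight A.chart n g) (W : X.left.Opens)
    (hW : (W : Set X.left) ⊆ GLinSh.nonvanishing π g) : ∃ r, IsRatio π W f g r := by
  have := A.affine
  rw [hasWeight_iff] at hf hg
  rw [nonvanishing_eq] at hW
  refine exists_ratio (atl A) (hf.restrict le_top) (hg.restrict le_top) ?_
  rw [nv_rs]
  exact fun x hx => ⟨hW hx, hx⟩

theorem isRatio_unique (A : GLinSh.LinAtlas π) {n : ℕ} {f g : Γ(V.left, ⊤)}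
    (hg : GLinSh.HasWeight A.chart n g) {W : X.left.Opens}
    (hW : (W : Set X.left) ⊆ GLinSh.nonvanishing π g) {r r' : Γ(X.left, W)}
    (h : IsRatio π W f g r) (h' : IsRatio π W f g r') : r = r' := by
  have := A.affine
  rw [hasWeight_iff] at hg
  rw [nonvanishing_eq] at hW
  exact ratio_unique (atl A) hg le_top hW r r' (h.symm.trans h')

theorem IsRatio.restrict {W W' : X.left.Opens} {f g : Γ(V.left, ⊤)} {r : Γ(X.left, W)}
    (h : IsRatio π W f g r) (hW : W' ≤ W) : IsRatio π W' f g (rsec hW r) := by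
  have h1 := congrArg (rs π.left hW) h
  rw [rs_rs, rs_mul, rs_rs, rs_app] at h1
  exact h1

theorem IsRatio.mul {W : X.left.Opens} {f g h : Γ(V.left, ⊤)} {r r' : Γ(X.left, W)}
    (h₁ : IsRatio π W f g r) (h₂ : IsRatio π W g h r') : IsRatio π W f h (r * r') := by
  rw [IsRatio] at *
  rw [h₁, h₂, map_mul, _root_.mul_assoc]

theorem isRatio_self (W : X.left.Opens) (f : Γ(V.left, ⊤)) : IsRatio π W f f 1 := by
  rw [IsRatio, map_one, _root_.one_mul]

theorem basicOpen_isRatio (A : GLinSh.LinAtlas π) {n : ℕ} {f g : Γ(V.left, ⊤)}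
    (hg : GLinSh.HasWeight A.chart n g) {W : X.left.Opens}
    (hW : (W : Set X.left) ⊆ GLinSh.nonvanishing π g) {r : Γ(X.left, W)} (h : IsRatio π W f g r) :
    (X.left.basicOpen r : Set X.left) = GLinSh.nonvanishing π f ∩ W := by
  have := A.affine
  rw [hasWeight_iff] at hg
  rw [nonvanishing_eq] at hW ⊢
  rw [basicOpen_ratio (atl A) (hg.restrict le_top) (by
    rw [nv_rs]
    exact fun x hx => ⟨hW hx, hx⟩) r h, nv_rs]

/-- The value of a ratio at a lift to `V`. -/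
theorem IsRatio.eval {W : X.left.Opens} {f g : Γ(V.left, ⊤)} {r : Γ(X.left, W)}
    (h : IsRatio π W f g r) {T : Scheme.{u}} (s : T ⟶ V.left) (x : T ⟶ X.left)
    (hs : s ≫ π.left = x) (hx : ⊤ ≤ x ⁻¹ᵁ W) :
    s.appTop f = x.appLE W ⊤ hx r * s.appTop g := by
  subst hs
  have key : ∀ t : Γ(V.left, ⊤), ev (p := π.left) s (U := W) hx (rs π.left le_top (tt π.left t)) = s.appTop t := by
    intro t
    rw [rs_tt]
    simp only [ev]
    have h1 := Scheme.Hom.map_appLE s (show ⊤ ≤ s ⁻¹ᵁ (π.left ⁻¹ᵁ W) from hx)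
      (homOfLE (le_top : π.left ⁻¹ᵁ W ≤ ⊤)).op
    refine (congrArg (fun φ => φ.hom t) h1).trans ?_
    have h2 : s.appLE ⊤ ⊤ le_top = s.appTop := Scheme.Hom.appLE_eq_app _
    exact congrArg (fun φ => φ.hom t) h2
  have h3 := congrArg (ev (p := π.left) s (U := W) hx) h
  rw [key] at h3
  refine h3.trans ((ev_mul (p := π.left) (U := W) s hx _ _).trans ?_)
  rw [key, ev_app (p := π.left) (U := W) s hx (s ≫ π.left) rfl hx]

/-- Local lifts to `V` at which a section of weight `n` is invertible. -/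
theorem exists_local_lift (A : GLinSh.LinAtlas π) {n : ℕ} {g : Γ(V.left, ⊤)}
    (hg : GLinSh.HasWeight A.chart n g) {T : Scheme.{u}} (x : T ⟶ X.left)
    (hx : ∀ t : T, x t ∈ GLinSh.nonvanishing π g) (t : T) :
    ∃ (O : T.Opens) (s : (O : Scheme.{u}) ⟶ V.left), t ∈ O ∧ s ≫ π.left = O.ι ≫ x ∧ IsUnit (s.appTop g) := by
  have := A.affine
  rw [hasWeight_iff] at hg
  rw [nonvanishing_eq] at hx
  obtain ⟨W, h, -, y, d, hW, hxW, hy, hd, -, e⟩ := exists_adm_unit (atl A) hg (hx t)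
    (O' := ⊤) trivial
  have hle : ⊤ ≤ ((x ⁻¹ᵁ W).ι ≫ x) ⁻¹ᵁ W := fun z _ => z.2
  obtain ⟨s, hs, hsp, hsy⟩ := ((atl A).adm_coord hy).exists_lift ((x ⁻¹ᵁ W).ι ≫ x) hle 1
  refine ⟨x ⁻¹ᵁ W, s, hxW, hsp, ?_⟩
  have key : ev (p := π.left) s (U := W) hs (rs π.left h (tt π.left g)) = s.appTop g := by
    rw [rs_tt]
    simp only [ev]
    have h1 := Scheme.Hom.map_appLE s (show ⊤ ≤ s ⁻¹ᵁ (π.left ⁻¹ᵁ W) from hs)
      (homOfLE (le_top : π.left ⁻¹ᵁ W ≤ ⊤)).op
    refine (congrArg (fun φ => φ.hom g) h1).trans ?_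
    have h2 : s.appLE ⊤ ⊤ le_top = s.appTop := Scheme.Hom.appLE_eq_app _
    exact congrArg (fun φ => φ.hom g) h2
  rw [← key, e, ev_mul, ev_pow, hsy, one_pow, _root_.mul_one, ev_app s hs _ hsp hle]
  exact hd.map _

end Base

section Inv

variable {S : Scheme.{u}} {G X : Over S} [GrpObj G] {a : AlgGrp.Action G X} (B : GLinSh.LinBun G a)

/-- Ratios of invariant sections are invariant. -/
theorem invariant_ratio {n : ℕ} {f g : Γ(B.V.left, ⊤)} (hf : GLinSh.IsInvFn B.lift f)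
    (hg : B.IsInvSection n g) {W : X.left.Opens}
    (hW : (W : Set X.left) ⊆ GLinSh.nonvanishing B.π g) {r : Γ(X.left, W)}
    (h : IsRatio B.π W f g r) {P : Over S} (b : AlgGrp.Action G P) (k : P ⟶ X)
    (hk : b.act ≫ k = (G ◁ k) ≫ a.act) (hkW : ⊤ ≤ k.left ⁻¹ᵁ W) :
    b.act.left.appTop (k.left.appLE W ⊤ hkW r) = (snd G P).left.appTop (k.left.appLE W ⊤ hkW r) := by
  -- the two points of `X`
  have hgx : ∀ z, (b.act ≫ k).left z ∈ W := fun z => by
    rw [Over.comp_left, Scheme.Hom.comp_apply]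
    exact hkW trivial
  have hx : ∀ z, (snd G P ≫ k).left z ∈ W := fun z => by
    rw [Over.comp_left, Scheme.Hom.comp_apply]
    exact hkW trivial
  have e1 : b.act.left.appTop (k.left.appLE W ⊤ hkW r) =
      (b.act ≫ k).left.appLE W ⊤ (fun z _ => hgx z) r := by
    have h1 := Scheme.Hom.appLE_comp_appLE b.act.left k.left W ⊤ ⊤ hkW le_top
    have h2 : b.act.left.appLE ⊤ ⊤ le_top = b.act.left.appTop := Scheme.Hom.appLE_eq_app _
    rw [← h2]
    exact congrArg (fun φ => φ.hom r) h1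
  have e2 : (snd G P).left.appTop (k.left.appLE W ⊤ hkW r) =
      (snd G P ≫ k).left.appLE W ⊤ (fun z _ => hx z) r := by
    have h1 := Scheme.Hom.appLE_comp_appLE (snd G P).left k.left W ⊤ ⊤ hkW le_top
    have h2 : (snd G P).left.appLE ⊤ ⊤ le_top = (snd G P).left.appTop := Scheme.Hom.appLE_eq_app _
    rw [← h2]
    exact congrArg (fun φ => φ.hom r) h1
  rw [e1, e2]
  refine section_ext _ _ fun z _ => ?_
  obtain ⟨O, s, hzO, hs, hu⟩ := exists_local_lift B.atlas hg.1 (snd G P ≫ k).left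
    (fun z => hW (hx z)) z
  refine ⟨O, le_top, hzO, rsec_eq_of_ι_appTop O _ _ ?_⟩
  -- everything over `S`
  let T : Over S := op (G ⊗ P) O
  let s' : T ⟶ B.V := Over.homMk s (by
    have h3 : s ≫ B.V.hom = (s ≫ B.π.left) ≫ X.hom := by rw [Category.assoc, Over.w]
    rw [h3, hs, Category.assoc, Over.w]
    rfl)
  have hs' : s' ≫ B.π = inc (G ⊗ P) O ≫ snd G P ≫ k := by
    ext1
    exact hs
  let g' : T ⟶ G := inc (G ⊗ P) O ≫ fst G P
  have hgs : (lift g' s' ≫ B.lift.act) ≫ B.π = inc (G ⊗ P) O ≫ b.act ≫ k := by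
    rw [Category.assoc, B.lift_π, lift_whiskerLeft_assoc, hs', hk]
    have h4 : lift g' (inc (G ⊗ P) O ≫ snd G P ≫ k) = inc (G ⊗ P) O ≫ (G ◁ k) := by
      apply CartesianMonoidalCategory.hom_ext <;> simp [g']
    rw [h4, Category.assoc]
  have hval : ∀ t : Γ(B.V.left, ⊤), GLinSh.IsInvFn B.lift t →
      (lift g' s' ≫ B.lift.act).left.appTop t = s'.left.appTop t := by
    intro t ht
    have h5 : (lift g' s' ≫ B.lift.act).left.appTop t =
        (lift g' s').left.appTop (B.lift.act.left.appTop t) := by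
      rw [Over.comp_left, Scheme.Hom.comp_appTop]
      rfl
    have h6 : (lift g' s').left.appTop ((snd G B.V).left.appTop t) =
        (lift g' s' ≫ snd G B.V).left.appTop t := by
      rw [Over.comp_left, Scheme.Hom.comp_appTop]
      rfl
    have ht' : B.lift.act.left.appTop t = (snd G B.V).left.appTop t := ht
    rw [h5, ht', h6, lift_snd]
  have hle1 : ⊤ ≤ (inc (G ⊗ P) O ≫ b.act ≫ k).left ⁻¹ᵁ W := fun z _ => hgx (O.ι z)
  have hle2 : ⊤ ≤ (inc (G ⊗ P) O ≫ snd G P ≫ k).left ⁻¹ᵁ W := fun z _ => hx (O.ι z)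
  have v1 := h.eval (lift g' s' ≫ B.lift.act).left (inc (G ⊗ P) O ≫ b.act ≫ k).left
    (congrArg (fun q : T ⟶ X => q.left) hgs) hle1
  have v2 := h.eval s'.left (inc (G ⊗ P) O ≫ snd G P ≫ k).left
    (congrArg (fun q : T ⟶ X => q.left) hs') hle2
  rw [hval f hf, hval g hg.2, v2] at v1
  have hfin := hu.mul_right_cancel v1
  -- back to restrictions
  have c1 : O.ι.appTop ((b.act ≫ k).left.appLE W ⊤ (fun z _ => hgx z) r) =
      (inc (G ⊗ P) O ≫ b.act ≫ k).left.appLE W ⊤ hle1 r := by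
    have h1 := Scheme.Hom.appLE_comp_appLE O.ι (b.act ≫ k).left W ⊤ ⊤ (fun z _ => hgx z) le_top
    have h2 : O.ι.appLE ⊤ ⊤ le_top = O.ι.appTop := Scheme.Hom.appLE_eq_app _
    rw [← h2]
    exact congrArg (fun φ => φ.hom r) h1
  have c2 : O.ι.appTop ((snd G P ≫ k).left.appLE W ⊤ (fun z _ => hx z) r) =
      (inc (G ⊗ P) O ≫ snd G P ≫ k).left.appLE W ⊤ hle2 r := by
    have h1 := Scheme.Hom.appLE_comp_appLE O.ι (snd G P ≫ k).left W ⊤ ⊤ (fun z _ => hx z) le_top
    have h2 : O.ι.appLE ⊤ ⊤ le_top = O.ι.appTop := Scheme.Hom.appLE_eq_app _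
    rw [← h2]
    exact congrArg (fun φ => φ.hom r) h1
  rw [c1, c2]
  exact hfin.symm

end Inv

end K688.LinRatio
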