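import Groth.Agent.GIT.K688.ActRes

/-!
# Categorical quotients are local on the target

* `LocHyp P a φ`: `P` holds over all small enough opens of the target.
* `isCatQuot_of_local`: `IsCatQuot` is local on the target.
* `afterBaseChange_of_charts`: for a property which is local on the target, holding after every base
  change in `Q` can be checked on charts.
* `isUnivCatQuot_of_charts`, `isUnifCatQuot_of_charts`.
-/

set_option autoImplicit false

universe u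

open CategoryTheory CategoryTheory.Limits MonoidalCategory CartesianMonoidalCategory MonObj AlgebraicGeometry

namespace K688.QuotLocal

open K688.ActRes K689.SchGlue

variable {S : Scheme.{u}} {G X Y : Over S} [GrpObj G]

/-- `P` holds for the restriction of `φ` over every open subscheme of small enough opens of the
target. -/
def LocHyp (P : ∀ ⦃X' Y' : Over S⦄, AlgGrp.Action G X' → (X' ⟶ Y') → Prop)
    (a : AlgGrp.Action G X) (φ : X ⟶ Y) : Prop :=
  ∀ y : Y.left, ∃ V : Y.left.Opens, y ∈ V ∧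
    ∀ ⦃X' Y' : Over S⦄ (pr : X' ⟶ X) (φ' : X' ⟶ Y') (g : Y' ⟶ Y), IsOpenImmersion g.left →
      Set.range g.left ⊆ (V : Set Y.left) → IsPullback pr φ' φ g →
      ∀ a' : AlgGrp.Action G X', a'.act ≫ pr = (G ◁ pr) ≫ a.act → GIT.IsInvariant a' φ' → P a' φ'

/-- Gluing of morphisms in `Over S` on a cover by opens of the source. -/
theorem glue_over {T Z : Over S} {I : Type*} (O : I → T.left.Opens) (hO : ∀ x : T.left, ∃ i, x ∈ O i)
    (s : ∀ i, op T (O i) ⟶ Z)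
    (h : ∀ i j, incLE T (inf_le_left : O i ⊓ O j ≤ O i) ≫ s i = incLE T (inf_le_right : O i ⊓ O j ≤ O j) ≫ s j) :
    ∃ σ : T ⟶ Z, ∀ i, inc T (O i) ≫ σ = s i := by
  obtain ⟨σ, hσ⟩ := glue_opens O hO (fun i => (s i).left) fun i j =>
    congrArg (fun t : op T (O i ⊓ O j) ⟶ Z => t.left) (h i j)
  refine ⟨Over.homMk σ ?_, fun i => ?_⟩
  · refine hom_ext_opens O hO _ _ fun i => ?_
    rw [← Category.assoc, hσ]
    exact Over.w (s i)
  · ext1
    exact hσ i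

/-- Morphisms in `Over S` are determined on a cover by opens of the source. -/
theorem hom_ext_over {T Z : Over S} {I : Type*} (O : I → T.left.Opens) (hO : ∀ x : T.left, ∃ i, x ∈ O i)
    {f g : T ⟶ Z} (h : ∀ i, inc T (O i) ≫ f = inc T (O i) ≫ g) : f = g := by
  ext1
  refine hom_ext_opens O hO _ _ fun i => ?_
  exact congrArg (fun t : op T (O i) ⟶ Z => t.left) (h i)

/-- Being a categorical quotient is local on the target. -/
theorem isCatQuot_of_local {a : AlgGrp.Action G X} {φ : X ⟶ Y} (hφ : GIT.IsInvariant a φ)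
    (H : LocHyp (fun _ _ a' φ' => GIT.IsCatQuot a' φ') a φ) : GIT.IsCatQuot a φ := by
  refine ⟨hφ, fun Z ψ hψ => ?_⟩
  choose V hyV HV using H
  -- the quotient property over an open of some `V y`
  have key : ∀ (y : Y.left) (W : Y.left.Opens), W ≤ V y →
      ∃! χ : op Y W ⟶ Z, phiW φ W ≫ χ = inc X _ ≫ ψ := by
    intro y W hW
    obtain ⟨a', ha'⟩ := exists_aW a φ hφ W
    have h1 := HV y (inc X _) (phiW φ W) (inc Y W) inferInstance
      (by
        have : Set.range (inc Y W).left = (W : Set Y.left) := Scheme.Opens.range_ι _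
        rw [this]
        exact hW) (isPullback_phiW φ W) a' ha' (isInvariant_phiW hφ ha')
    refine h1.2 Z (inc X _ ≫ ψ) ?_
    rw [GIT.IsInvariant, reassoc_of% ha', hψ, whiskerLeft_snd_assoc]
  choose χ hχ hχu using fun y => key y (V y) le_rfl
  have hres : ∀ (y : Y.left) (W : Y.left.Opens) (hW : W ≤ V y),
      phiW φ W ≫ incLE Y hW ≫ χ y = inc X _ ≫ ψ := by
    intro y W hW
    have h2 : phiW φ W ≫ incLE Y hW = incLE X (φ.left.preimage_mono hW) ≫ phiW φ (V y) := by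
      rw [← cancel_mono (inc Y (V y)), Category.assoc, Category.assoc, incLE_inc, phiW_inc, phiW_inc,
        incLE_inc_assoc]
    rw [reassoc_of% h2]
    have h3 : phiW φ (V y) ≫ χ y = inc X _ ≫ ψ := hχ y
    rw [h3, incLE_inc_assoc]
  obtain ⟨σ, hσ⟩ := glue_over V (fun y => ⟨y, hyV y⟩) χ fun y y' =>
    (key y (V y ⊓ V y') inf_le_left).unique (hres y _ inf_le_left) (hres y' _ inf_le_right)
  refine ⟨σ, ?_, fun σ' hσ' => ?_⟩
  · refine hom_ext_over (fun y => φ.left ⁻¹ᵁ V y) (fun x => ⟨φ.left x, hyV (φ.left x)⟩) fun y => ?_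
    rw [← phiW_inc_assoc, hσ]
    exact hχ y
  · refine hom_ext_over V (fun y => ⟨y, hyV y⟩) fun y => ?_
    refine (key y (V y) le_rfl).unique ?_ ?_
    · rw [phiW_inc_assoc, hσ']
    · rw [hσ]
      exact hχ y

theorem isPullback_id_of_mono {A B C : Scheme.{u}} (h : A ⟶ B) (g : B ⟶ C) [Mono g] :
    IsPullback (𝟙 A) h (h ≫ g) g where
  w := by simp
  isLimit' := ⟨PullbackCone.IsLimit.mk _ (fun s => s.fst) (fun s => Category.comp_id _)
    (fun s => by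
      rw [← cancel_mono g, Category.assoc, s.condition])
    (fun s m h1 _ => by rw [← h1, Category.comp_id])⟩

/-- A property of actions with an invariant morphism which is local on the target. -/
def IsLocalOnTarget (P : ∀ ⦃X' Y' : Over S⦄, AlgGrp.Action G X' → (X' ⟶ Y') → Prop) : Prop :=
  ∀ ⦃X Y : Over S⦄ (a : AlgGrp.Action G X) (φ : X ⟶ Y), GIT.IsInvariant a φ → LocHyp P a φ → P a φ

theorem isLocalOnTarget_isCatQuot :
    IsLocalOnTarget (G := G) (S := S) (fun _ _ a' φ' => GIT.IsCatQuot a' φ') :=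
  fun _ _ _ _ h H => isCatQuot_of_local h H

/-- A chart of `φ` at `y`: an open of the target over which `φ` is identified with `φ₁`. -/
structure Chart (a : AlgGrp.Action G X) (φ : X ⟶ Y) {X₁ Y₁ : Over S} (a₁ : AlgGrp.Action G X₁)
    (φ₁ : X₁ ⟶ Y₁) (pr₁ : X₁ ⟶ X) (g₁ : Y₁ ⟶ Y) : Prop where
  open_g : IsOpenImmersion g₁.left
  pb : IsPullback pr₁ φ₁ φ g₁
  act : a₁.act ≫ pr₁ = (G ◁ pr₁) ≫ a.act

/-- A property which is local on the target, holding after every base change in `Q` of charts, holds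
after every base change in `Q`. -/
theorem afterBaseChange_of_charts (P : ∀ ⦃X' Y' : Over S⦄, AlgGrp.Action G X' → (X' ⟶ Y') → Prop)
    (hP : IsLocalOnTarget P) (Q : MorphismProperty Scheme.{u}) [Q.IsStableUnderComposition]
    [Q.IsStableUnderBaseChange] (hQo : @IsOpenImmersion ≤ Q)
    {a : AlgGrp.Action G X} {φ : X ⟶ Y}
    (H : ∀ y : Y.left, ∃ (X₁ Y₁ : Over S) (a₁ : AlgGrp.Action G X₁) (φ₁ : X₁ ⟶ Y₁) (pr₁ : X₁ ⟶ X)
      (g₁ : Y₁ ⟶ Y), Chart a φ a₁ φ₁ pr₁ g₁ ∧ y ∈ Set.range g₁.left ∧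
        GIT.AfterBaseChange P (fun _ g => Q g.left) a₁ φ₁) :
    GIT.AfterBaseChange P (fun _ g => Q g.left) a φ := by
  intro X' Y' pr φ' g hg hpb a' ha' hinv
  refine hP a' φ' hinv fun y' => ?_
  obtain ⟨X₁, Y₁, a₁, φ₁, pr₁, g₁, hc, hy, hQ⟩ := H (g.left y')
  have := hc.open_g
  have hm : Mono g₁ := mono_of_isOpenImmersion g₁
  have hmp : Mono pr₁ := ⟨fun {Z} u v huv => by
    apply hc.pb.hom_ext huv
    rw [← cancel_mono g₁, Category.assoc, Category.assoc, ← hc.pb.w, reassoc_of% huv]⟩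
  refine ⟨g.left ⁻¹ᵁ g₁.left.opensRange, hy, fun X'' Y'' pr'' φ'' g'' ho hr hpb'' a'' ha'' hinv'' => ?_⟩
  have hr' : Set.range (g'' ≫ g).left ⊆ Set.range g₁.left := by
    rintro _ ⟨z, rfl⟩
    rw [Over.comp_left, Scheme.Hom.comp_apply]
    exact hr ⟨z, rfl⟩
  let h0 : Y''.left ⟶ Y₁.left := IsOpenImmersion.lift g₁.left (g'' ≫ g).left hr'
  have hh0 : h0 ≫ g₁.left = (g'' ≫ g).left := IsOpenImmersion.lift_fac _ _ _
  let h : Y'' ⟶ Y₁ := Over.homMk h0 (by rw [← Over.w g₁, ← Category.assoc, hh0, Over.w])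
  have hh : h ≫ g₁ = g'' ≫ g := by ext1; exact hh0
  have hw : (pr'' ≫ pr) ≫ φ = (φ'' ≫ h) ≫ g₁ := by
    rw [Category.assoc, hpb.w, reassoc_of% hpb''.w, Category.assoc, hh]
  let u : X'' ⟶ X₁ := hc.pb.lift (pr'' ≫ pr) (φ'' ≫ h) hw
  have hu1 : u ≫ pr₁ = pr'' ≫ pr := hc.pb.lift_fst _ _ _
  have hu2 : u ≫ φ₁ = φ'' ≫ h := hc.pb.lift_snd _ _ _
  have hbig : IsPullback (u ≫ pr₁) φ'' φ (h ≫ g₁) := by
    rw [hu1, hh]
    exact hpb''.paste_horiz hpb
  have hsq : IsPullback u φ'' φ₁ h := IsPullback.of_right hbig hu2 hc.pb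
  refine hQ u φ'' h ?_ hsq a'' ?_ hinv''
  · have e1 : Q (h0 ≫ g₁.left) := by
      rw [hh0, Over.comp_left]
      exact Q.comp_mem g''.left g.left (hQo _ ho) hg
    exact MorphismProperty.of_isPullback (isPullback_id_of_mono h0 g₁.left) e1
  · rw [← cancel_mono pr₁, Category.assoc, hu1, Category.assoc, hc.act, ← whiskerLeft_comp_assoc, hu1,
      reassoc_of% ha'', ha', whiskerLeft_comp_assoc]

/-- A property which is local on the target and holds after every base change in `Q` of charts. -/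
theorem of_charts (P : ∀ ⦃X' Y' : Over S⦄, AlgGrp.Action G X' → (X' ⟶ Y') → Prop)
    (hP : IsLocalOnTarget P) (Q : MorphismProperty Scheme.{u}) [Q.IsStableUnderComposition]
    [Q.IsStableUnderBaseChange] (hQo : @IsOpenImmersion ≤ Q)
    {a : AlgGrp.Action G X} {φ : X ⟶ Y} (hφ : GIT.IsInvariant a φ)
    (H : ∀ y : Y.left, ∃ (X₁ Y₁ : Over S) (a₁ : AlgGrp.Action G X₁) (φ₁ : X₁ ⟶ Y₁) (pr₁ : X₁ ⟶ X)
      (g₁ : Y₁ ⟶ Y), Chart a φ a₁ φ₁ pr₁ g₁ ∧ y ∈ Set.range g₁.left ∧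
        GIT.AfterBaseChange P (fun _ g => Q g.left) a₁ φ₁) :
    P a φ ∧ GIT.AfterBaseChange P (fun _ g => Q g.left) a φ := by
  have h1 := afterBaseChange_of_charts P hP Q hQo H
  exact ⟨h1 (𝟙 X) φ (𝟙 Y) (hQo _ (inferInstanceAs (IsOpenImmersion (𝟙 Y.left)))) (IsPullback.of_horiz_isIso ⟨by simp⟩) a (by simp) hφ, h1⟩

/-- Being a universal categorical quotient can be checked on charts. -/
theorem isUnivCatQuot_of_charts {a : AlgGrp.Action G X} {φ : X ⟶ Y} (hφ : GIT.IsInvariant a φ)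
    (H : ∀ y : Y.left, ∃ (X₁ Y₁ : Over S) (a₁ : AlgGrp.Action G X₁) (φ₁ : X₁ ⟶ Y₁) (pr₁ : X₁ ⟶ X)
      (g₁ : Y₁ ⟶ Y), Chart a φ a₁ φ₁ pr₁ g₁ ∧ y ∈ Set.range g₁.left ∧ GIT.IsUnivCatQuot a₁ φ₁) :
    GIT.IsUnivCatQuot a φ := by
  have h1 := of_charts (fun _ _ a' φ' => GIT.IsCatQuot a' φ') isLocalOnTarget_isCatQuot
    (⊤ : MorphismProperty Scheme.{u}) le_top hφ (fun y => by
      obtain ⟨X₁, Y₁, a₁, φ₁, pr₁, g₁, hc, hy, h⟩ := H y
      exact ⟨X₁, Y₁, a₁, φ₁, pr₁, g₁, hc, hy, fun X' Y' pr φ' g _ => h.2 pr φ' g trivial⟩)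
  exact ⟨h1.1, fun X' Y' pr φ' g _ => h1.2 pr φ' g trivial⟩

/-- Being a uniform categorical quotient can be checked on charts. -/
theorem isUnifCatQuot_of_charts {a : AlgGrp.Action G X} {φ : X ⟶ Y} (hφ : GIT.IsInvariant a φ)
    (H : ∀ y : Y.left, ∃ (X₁ Y₁ : Over S) (a₁ : AlgGrp.Action G X₁) (φ₁ : X₁ ⟶ Y₁) (pr₁ : X₁ ⟶ X)
      (g₁ : Y₁ ⟶ Y), Chart a φ a₁ φ₁ pr₁ g₁ ∧ y ∈ Set.range g₁.left ∧ GIT.IsUnifCatQuot a₁ φ₁) :
    GIT.IsUnifCatQuot a φ :=
  of_charts (fun _ _ a' φ' => GIT.IsCatQuot a' φ') isLocalOnTarget_isCatQuot @Flat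
    (fun _ _ _ (_ : IsOpenImmersion _) => inferInstance) hφ (fun y => by
      obtain ⟨X₁, Y₁, a₁, φ₁, pr₁, g₁, hc, hy, h⟩ := H y
      exact ⟨X₁, Y₁, a₁, φ₁, pr₁, g₁, hc, hy, h.2⟩)

/-- A universal categorical quotient is a uniform one. -/
theorem _root_.GIT.IsUnivCatQuot.isUnifCatQuot {a : AlgGrp.Action G X} {φ : X ⟶ Y}
    (h : GIT.IsUnivCatQuot a φ) : GIT.IsUnifCatQuot a φ :=
  ⟨h.1, fun _ _ pr φ' g _ => h.2 pr φ' g trivial⟩

/-- Base change of a universal categorical quotient. -/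
theorem _root_.GIT.IsUnivCatQuot.baseChange {a : AlgGrp.Action G X} {φ : X ⟶ Y} (h : GIT.IsUnivCatQuot a φ)
    {X' Y' : Over S} {pr : X' ⟶ X} {φ' : X' ⟶ Y'} {g : Y' ⟶ Y} (hpb : IsPullback pr φ' φ g)
    {a' : AlgGrp.Action G X'} (ha' : a'.act ≫ pr = (G ◁ pr) ≫ a.act) (hinv : GIT.IsInvariant a' φ') :
    GIT.IsUnivCatQuot a' φ' := by
  refine ⟨h.2 pr φ' g trivial hpb a' ha' hinv, fun X'' Y'' pr'' φ'' g'' _ hpb'' a'' ha'' hinv'' => ?_⟩
  refine h.2 (pr'' ≫ pr) φ'' (g'' ≫ g) trivial (hpb''.paste_horiz hpb) a'' ?_ hinv''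
  rw [reassoc_of% ha'', ha', whiskerLeft_comp_assoc]

end K688.QuotLocal
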