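import Groth.Agent.GIT.K688.UnitTensor
import Groth.Prelude.Def_CoactBr
import Groth.Agent.Sga3B.DSPts
import Groth.Agent.Sga3B.CellDim
import Groth.Agent.Sga3C.SchemImage
import Groth.Agent.Fdesc.GeomAlgClosed
import Groth.Agent.Flat2B.SmoothGeom
import Groth.Agent.Books.AlgPts

/-!
# Rosenlicht: a unit on a connected smooth group with value one at the identity is a character
-/

set_option autoImplicit false

universe u

open CategoryTheory MonoidalCategory CartesianMonoidalCategory MonObj GrpObj AlgebraicGeometry Limits Opposite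
open scoped TensorProduct

namespace K688.RosUnits

/-- Restriction of global functions of an integral scheme along an open immersion from a nonempty
scheme is injective. -/
theorem injective_appTop (X : Scheme.{u}) [IsIntegral X] {U : Scheme.{u}} [Nonempty U] (j : U ⟶ X)
    [IsOpenImmersion j] : Function.Injective j.appTop.hom := by
  rw [injective_iff_map_eq_zero]
  intro a ha
  obtain ⟨b⟩ := ‹Nonempty U›
  have hgerm : Function.Injective (X.presheaf.germ ⊤ (j b) trivial).hom :=
    germ_injective_of_isIntegral X (j b) (show j b ∈ (⊤ : X.Opens) from trivial)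
  apply hgerm
  rw [map_zero]
  have hst : Function.Injective (j.stalkMap b).hom :=
    ((ConcreteCategory.isIso_iff_bijective (j.stalkMap b)).mp inferInstance).1
  apply hst
  rw [map_zero]
  have h := Scheme.Hom.germ_stalkMap_apply j ⊤ b trivial a
  refine h.trans ?_
  have h2 : (j.app ⊤).hom a = 0 := ha
  erw [h2, map_zero]

section Over

variable {S : Scheme.{u}}

theorem isOpenImmersion_whiskerLeft {X Y : Over S} (j : X ⟶ Y) (F : Over S) [IsOpenImmersion j.left] :
    IsOpenImmersion (F ◁ j).left :=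
  MorphismProperty.of_isPullback (Groth.Agent.Sga3C.SchemImage.isPullback_whiskerLeft_left j F).flip
    inferInstance

theorem isOpenImmersion_whiskerRight {X Y : Over S} (j : X ⟶ Y) (F : Over S) [IsOpenImmersion j.left] :
    IsOpenImmersion (j ▷ F).left :=
  MorphismProperty.of_isPullback (Groth.Agent.Sga3C.SchemImage.isPullback_whiskerRight_left j F).flip
    inferInstance

theorem isOpenImmersion_tensorHom {X Y X' Y' : Over S} (j : X ⟶ Y) (j' : X' ⟶ Y')
    [IsOpenImmersion j.left] [IsOpenImmersion j'.left] : IsOpenImmersion (j ⊗ₘ j').left := by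
  have h1 := isOpenImmersion_whiskerRight j X'
  have h2 := isOpenImmersion_whiskerLeft j' Y
  rw [MonoidalCategory.tensorHom_def]
  exact MorphismProperty.comp_mem _ _ _ h1 h2

end Over

section Chart

open CoactBr

variable {k : Type u} [Field k]

/-- An affine open neighbourhood of a `k`-point. -/
theorem exists_chart (X : Over (Spec (CommRingCat.of k))) [LocallyOfFiniteType X.hom]
    (x : sp k k ⟶ X) :
    ∃ (B : Type u) (_ : CommRing B) (_ : Algebra k B) (j : sp k B ⟶ X) (ε : B →ₐ[k] k),
      IsOpenImmersion j.left ∧ pt ε ≫ j = x ∧ Algebra.FiniteType k B := by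
  let p0 : (sp k k).left := IsLocalRing.closedPoint k
  have hp0 : ∀ p : (sp k k).left, p = p0 := fun p =>
    Subsingleton.elim (α := PrimeSpectrum k) _ _
  obtain ⟨_, ⟨U, hU, rfl⟩, hxU, -⟩ :=
    X.left.isBasis_affineOpens.exists_subset_of_mem_open (Set.mem_univ (x.left p0)) isOpen_univ
  have hU : IsAffineOpen U := hU
  let φ : CommRingCat.of k ⟶ Γ(X.left, U) := Spec.preimage (hU.fromSpec ≫ X.hom)
  have hφ : Spec.map φ = hU.fromSpec ≫ X.hom := Spec.map_preimage _
  let _ : Algebra k Γ(X.left, U) := φ.hom.toAlgebra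
  have hlft : LocallyOfFiniteType (Spec.map φ) := by rw [hφ]; infer_instance
  have hft : Algebra.FiniteType k Γ(X.left, U) :=
    (HasRingHomProperty.Spec_iff (P := @LocallyOfFiniteType)).mp hlft
  let w : sp k Γ(X.left, U) ⟶ X := Over.homMk hU.fromSpec hφ.symm
  have hwo : IsOpenImmersion w.left := inferInstanceAs (IsOpenImmersion hU.fromSpec)
  have hr : Set.range x.left ⊆ Set.range hU.fromSpec := by
    rintro _ ⟨p, rfl⟩
    have : Set.range hU.fromSpec = U := hU.range_fromSpec
    rw [this, hp0 p]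
    exact hxU
  let e : Spec (CommRingCat.of k) ⟶ Spec (CommRingCat.of Γ(X.left, U)) :=
    IsOpenImmersion.lift hU.fromSpec x.left hr
  have he : e ≫ hU.fromSpec = x.left := IsOpenImmersion.lift_fac _ _ _
  have heo : e ≫ Spec.map φ = 𝟙 _ := by
    have h1 : e ≫ Spec.map φ = x.left ≫ X.hom := by
      rw [hφ]
      exact (Category.assoc e hU.fromSpec X.hom).symm.trans (congrArg (· ≫ X.hom) he)
    rw [h1, Over.w x]
    change Spec.map (CommRingCat.ofHom (algebraMap k k)) = _
    rw [Algebra.algebraMap_self, CommRingCat.ofHom_id, Spec.map_id]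
  let ε : Γ(X.left, U) →ₐ[k] k :=
    { (Spec.preimage e).hom with
      commutes' := fun c => by
        have h2 : φ ≫ Spec.preimage e = 𝟙 _ := by
          apply Spec.map_injective
          rw [Spec.map_comp, Spec.map_preimage, heo, Spec.map_id]
        exact congrArg (fun f : CommRingCat.of k ⟶ CommRingCat.of k => f.hom c) h2 }
  refine ⟨Γ(X.left, U), inferInstance, inferInstance, w, ε, hwo, ?_, hft⟩
  ext1
  rw [Over.comp_left, pt_left]
  have h3 : (CommRingCat.ofHom ε.toRingHom) = Spec.preimage e := rfl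
  rw [h3, Spec.map_preimage]
  exact he

/-- The value in `A` of a global function of `X` along `sp k A ⟶ X`. -/
noncomputable def ev {X : Over (Spec (CommRingCat.of k))} {A : Type u} [CommRing A] [Algebra k A]
    (j : sp k A ⟶ X) : Γ(X.left, ⊤) →+* A :=
  ((j.left.appTop ≫ (Scheme.ΓSpecIso (CommRingCat.of A)).hom).hom : Γ(X.left, ⊤) →+* A)

lemma ev_comp {X Y : Over (Spec (CommRingCat.of k))} {A : Type u} [CommRing A] [Algebra k A]
    (j : sp k A ⟶ X) (f : X ⟶ Y) (a : Γ(Y.left, ⊤)) : ev (j ≫ f) a = ev j (f.left.appTop a) := by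
  rw [ev, ev, Over.comp_left, Scheme.Hom.comp_appTop]
  rfl

lemma ev_pt_comp {X : Over (Spec (CommRingCat.of k))} {A B : Type u} [CommRing A] [Algebra k A]
    [CommRing B] [Algebra k B] (φ : A →ₐ[k] B) (j : sp k A ⟶ X) (a : Γ(X.left, ⊤)) :
    ev (pt φ ≫ j) a = φ (ev j a) := by
  rw [ev, ev, Over.comp_left, Scheme.Hom.comp_appTop, pt_left]
  have h := Scheme.ΓSpecIso_naturality (CommRingCat.ofHom φ.toRingHom)
  have h2 := congrArg (fun f => f.hom (j.left.appTop a)) h
  exact h2

lemma isUnit_ev {X : Over (Spec (CommRingCat.of k))} {A : Type u} [CommRing A] [Algebra k A]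
    (j : sp k A ⟶ X) {a : Γ(X.left, ⊤)} (ha : IsUnit a) : IsUnit (ev j a) := ha.map _

lemma ev_injective {X : Over (Spec (CommRingCat.of k))} [IsIntegral X.left] {A : Type u} [CommRing A]
    [Algebra k A] [Nontrivial A] (j : sp k A ⟶ X) [IsOpenImmersion j.left] :
    Function.Injective (ev j) := by
  have : Nonempty (sp k A).left := inferInstanceAs (Nonempty (PrimeSpectrum A))
  have h1 := injective_appTop X.left j.left
  have h2 : Function.Injective (Scheme.ΓSpecIso (CommRingCat.of A)).hom.hom :=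
    ((ConcreteCategory.isIso_iff_bijective (Scheme.ΓSpecIso (CommRingCat.of A)).hom).mp
      inferInstance).1
  exact h2.comp h1

/-- The product of two charts. -/
noncomputable def prodChart {X Y : Over (Spec (CommRingCat.of k))} {A B : Type u} [CommRing A]
    [Algebra k A] [CommRing B] [Algebra k B] (j : sp k A ⟶ X) (j' : sp k B ⟶ Y) :
    sp k (A ⊗[k] B) ⟶ X ⊗ Y :=
  lift (pt Algebra.TensorProduct.includeLeft ≫ j) (pt Algebra.TensorProduct.includeRight ≫ j')

noncomputable local instance braidedAlgSpecOf (R : Type u) [CommRing R] : (algSpec (CommRingCat.of R)).Braided :=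
  braidedAlgSpec

lemma isIso_lift_incl (A B : Type u) [CommRing A] [Algebra k A] [CommRing B] [Algebra k B] :
    IsIso (lift (pt (R := k) (Algebra.TensorProduct.includeLeft : A →ₐ[k] A ⊗[k] B))
      (pt (Algebra.TensorProduct.includeRight : B →ₐ[k] A ⊗[k] B))) := by
  have h := lift_pt_pt (R := k) (Algebra.TensorProduct.includeLeft : A →ₐ[k] A ⊗[k] B)
    (Algebra.TensorProduct.includeRight : B →ₐ[k] A ⊗[k] B)
  have h2 : (Algebra.TensorProduct.lift (Algebra.TensorProduct.includeLeft : A →ₐ[k] A ⊗[k] B)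
    (Algebra.TensorProduct.includeRight : B →ₐ[k] A ⊗[k] B) fun _ _ => .all _ _) =
      AlgHom.id k (A ⊗[k] B) := by
    ext <;> simp
  rw [h2, pt_id] at h
  have h3 := Functor.Monoidal.μ_δ (algSpec (CommRingCat.of k)) (op (.of k A)) (op (.of k B))
  refine ⟨Functor.LaxMonoidal.μ (algSpec (CommRingCat.of k)) (op (.of k A)) (op (.of k B)), h, ?_⟩
  have h4 : lift (pt (R := k) (Algebra.TensorProduct.includeLeft : A →ₐ[k] A ⊗[k] B))
      (pt (Algebra.TensorProduct.includeRight : B →ₐ[k] A ⊗[k] B)) =
      Functor.OplaxMonoidal.δ (algSpec (CommRingCat.of k)) (op (.of k A)) (op (.of k B)) := by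
    have h5 := congrArg (fun t => t ≫
      Functor.OplaxMonoidal.δ (algSpec (CommRingCat.of k)) (op (.of k A)) (op (.of k B))) h
    refine Eq.trans ?_ (h5.trans (Category.id_comp _))
    exact (Category.comp_id _).symm.trans ((congrArg (fun t => _ ≫ t) h3.symm).trans
      (Category.assoc _ _ _).symm)
  rw [h4]
  exact h3

theorem isOpenImmersion_prodChart {X Y : Over (Spec (CommRingCat.of k))} {A B : Type u} [CommRing A]
    [Algebra k A] [CommRing B] [Algebra k B] (j : sp k A ⟶ X) (j' : sp k B ⟶ Y)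
    [IsOpenImmersion j.left] [IsOpenImmersion j'.left] : IsOpenImmersion (prodChart j j').left := by
  have h1 := isIso_lift_incl (k := k) A B
  have h2 := isOpenImmersion_tensorHom j j'
  have h3 : prodChart j j' = lift (pt Algebra.TensorProduct.includeLeft)
      (pt Algebra.TensorProduct.includeRight) ≫ (j ⊗ₘ j') := by
    rw [lift_map]
    rfl
  rw [h3, Over.comp_left]
  have h4 : IsIso (lift (pt (R := k) (Algebra.TensorProduct.includeLeft : A →ₐ[k] A ⊗[k] B))
      (pt (Algebra.TensorProduct.includeRight : B →ₐ[k] A ⊗[k] B))).left :=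
    (inferInstance : IsIso ((Over.forget _).map (lift (pt (R := k)
      (Algebra.TensorProduct.includeLeft : A →ₐ[k] A ⊗[k] B))
      (pt (Algebra.TensorProduct.includeRight : B →ₐ[k] A ⊗[k] B)))))
  exact MorphismProperty.comp_mem _ _ _ (inferInstanceAs (IsOpenImmersion (Over.Hom.left _))) h2

end Chart

section Main

open CoactBr

variable {k : Type u} [Field k] [IsAlgClosed k]

theorem isIntegral_tensor (X Y : Over (Spec (CommRingCat.of k))) [IsIntegral X.left]
    [Smooth X.hom] [IsIntegral Y.left] [Smooth Y.hom] : IsIntegral (X ⊗ Y).left := by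
  have := Groth.Agent.Fdesc.GeomAlgClosed.geometricallyIrreducible_of_irreducibleSpace X.hom
  have := Groth.Agent.Flat2B.SmoothGeom.geometricallyIntegral_of_smooth X.hom
  have : IsLocallyNoetherian Y.left := LocallyOfFiniteType.isLocallyNoetherian Y.hom
  change IsIntegral (pullback X.hom Y.hom)
  infer_instance

/-- **Rosenlicht.**  A unit on a connected smooth group with value `1` at the identity is
multiplicative. -/
theorem mul_appTop (G : Over (Spec (CommRingCat.of k))) [GrpObj G] [Smooth G.hom]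
    [ConnectedSpace G.left] (u : Γ(G.left, ⊤)) (hu : IsUnit u) (h1 : η[G].left.appTop u = 1) :
    μ[G].left.appTop u = (fst G G).left.appTop u * (snd G G).left.appTop u := by
  have hint : IsIntegral G.left := Groth.Agent.Sga3B.CellDim.isIntegral_of_connected_grp G
  have hint2 := isIntegral_tensor G G
  obtain ⟨A, _, _, j, ε, hj, hε, hft⟩ := exists_chart G (1 : sp k k ⟶ G)
  have hntA : Nontrivial A := ε.toRingHom.domain_nontrivial
  have hne : Nonempty (sp k A).left := inferInstanceAs (Nonempty (PrimeSpectrum A))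
  have hdA : IsDomain A := by
    have h2 : IsIntegral (sp k A).left := isIntegral_of_isOpenImmersion j.left
    have h3 : IsDomain Γ(Spec (CommRingCat.of A), ⊤) :=
      inferInstanceAs (IsDomain Γ((sp k A).left, ⊤))
    exact (Scheme.ΓSpecIso (CommRingCat.of A)).symm.commRingCatIsoToRingEquiv.toMulEquiv.isDomain _
  have hopen := isOpenImmersion_prodChart j j
  set ψ := prodChart j j with hψ
  have hntAA : Nontrivial (A ⊗[k] A) := by
    have : IsDomain (A ⊗[k] A) := Groth.Agent.Fdesc.TensorDomain.isDomain_tensorProduct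
    infer_instance
  apply ev_injective ψ
  set uA := ev j u with huA
  obtain ⟨a, b, ha, hb, hab⟩ := K688.UnitTensor.exists_tmul_of_isUnit (k := k) (A := A) (B := A)
    (isUnit_ev ψ (hu.map μ[G].left.appTop.hom))
  have hfst : ev ψ ((fst G G).left.appTop u) = uA ⊗ₜ[k] (1 : A) := by
    rw [← ev_comp, hψ, prodChart, lift_fst, ev_pt_comp]
    rfl
  have hsnd : ev ψ ((snd G G).left.appTop u) = (1 : A) ⊗ₜ[k] uA := by
    rw [← ev_comp, hψ, prodChart, lift_snd, ev_pt_comp]
    rfl
  -- restriction to `G × {e}`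
  let m1 : A ⊗[k] A →ₐ[k] A := Algebra.TensorProduct.lift (AlgHom.id k A)
    ((Algebra.ofId k A).comp ε) fun _ _ => .all _ _
  let m2 : A ⊗[k] A →ₐ[k] A := Algebra.TensorProduct.lift ((Algebra.ofId k A).comp ε)
    (AlgHom.id k A) fun _ _ => .all _ _
  have hone : pt ((Algebra.ofId k A).comp ε) ≫ j = (1 : sp k A ⟶ G) := by
    rw [pt_comp, Category.assoc, hε, MonObj.comp_one]
  have hm1 : pt m1 ≫ ψ = lift j (1 : sp k A ⟶ G) := by
    rw [hψ, prodChart, comp_lift]
    congr 1
    · rw [← Category.assoc, ← pt_comp]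
      have : m1.comp Algebra.TensorProduct.includeLeft = AlgHom.id k A := by
        ext x; simp [m1]
      rw [this, pt_id, Category.id_comp]
    · rw [← Category.assoc, ← pt_comp]
      have : m1.comp Algebra.TensorProduct.includeRight = (Algebra.ofId k A).comp ε := by
        ext x; simp [m1]
      rw [this, hone]
  have hm2 : pt m2 ≫ ψ = lift (1 : sp k A ⟶ G) j := by
    rw [hψ, prodChart, comp_lift]
    congr 1
    · rw [← Category.assoc, ← pt_comp]
      have : m2.comp Algebra.TensorProduct.includeLeft = (Algebra.ofId k A).comp ε := by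
        ext x; simp [m2]
      rw [this, hone]
    · rw [← Category.assoc, ← pt_comp]
      have : m2.comp Algebra.TensorProduct.includeRight = AlgHom.id k A := by
        ext x; simp [m2]
      rw [this, pt_id, Category.id_comp]
  have e1 : m1 (ev ψ (μ[G].left.appTop u)) = uA := by
    rw [← ev_comp, ← ev_pt_comp, ← Category.assoc, hm1, ← Hom.mul_def, _root_.mul_one]
  have e2 : m2 (ev ψ (μ[G].left.appTop u)) = uA := by
    rw [← ev_comp, ← ev_pt_comp, ← Category.assoc, hm2, ← Hom.mul_def, _root_.one_mul]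
  rw [hab] at e1 e2
  have e1' : ε b • a = uA := by
    rw [← e1]
    simp [m1, Algebra.smul_def, mul_comm, Algebra.ofId_apply]
  have e2' : ε a • b = uA := by
    rw [← e2]
    simp [m2, Algebra.smul_def, Algebra.ofId_apply]
  have e3 : ε uA = 1 := by
    have h5 : ev (pt ε ≫ j) u = ε uA := ev_pt_comp ε j u
    rw [← h5, hε, Hom.one_def, ev_comp, h1, map_one]
  have e4 : ε a * ε b = 1 := by
    rw [← e3, ← e1', map_smul, smul_eq_mul, mul_comm]
  rw [hab, map_mul, hfst, hsnd, Algebra.TensorProduct.tmul_mul_tmul, _root_.mul_one,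
    _root_.one_mul]
  have e5 : uA ⊗ₜ[k] uA = (ε b • a) ⊗ₜ[k] (ε a • b) := by rw [e1', e2']
  rw [e5, TensorProduct.smul_tmul_smul, mul_comm, e4, one_smul]

/-- The morphism to `𝔾ₘ` attached to a unit. -/
noncomputable def toGm {S : Scheme.{u}} {T : Over S} (u : Γ(T.left, ⊤)ˣ) : T ⟶ Red.Gm S :=
  Groth.Agent.Sga3B.DSPts.dsEquiv T ℤ ((Units.coeHom _).comp (zpowersHom _ u))

lemma comp_toGm {S : Scheme.{u}} {T T' : Over S} (h : T' ⟶ T) (u : Γ(T.left, ⊤)ˣ) :
    h ≫ toGm u = toGm (Units.map (h.left.appTop.hom : Γ(T.left, ⊤) →* Γ(T'.left, ⊤)) u) := by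
  rw [toGm, Groth.Agent.Sga3B.DSPts.dsEquiv_naturality, toGm]
  congr 1
  ext
  simp

lemma toGm_mul {S : Scheme.{u}} {T : Over S} (u v : Γ(T.left, ⊤)ˣ) :
    toGm (u * v) = toGm u * toGm v := by
  rw [toGm, toGm, toGm, ← map_mul]
  congr 1
  ext
  simp

lemma toGm_one {S : Scheme.{u}} {T : Over S} : toGm (1 : Γ(T.left, ⊤)ˣ) = 1 := by
  have h : (Units.coeHom Γ(T.left, ⊤)).comp (zpowersHom _ (1 : Γ(T.left, ⊤)ˣ)) = 1 := by
    ext
    simp
  rw [toGm, h, map_one]

lemma toGm_injective {S : Scheme.{u}} {T : Over S} : Function.Injective (toGm (T := T)) := by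
  intro u v h
  have h1 := (Groth.Agent.Sga3B.DSPts.dsEquiv T ℤ).injective h
  have h2 := DFunLike.congr_fun h1 (Multiplicative.ofAdd 1)
  exact Units.ext (by simpa using h2)

/-- A unit which is multiplicative and `1` at the identity is a character. -/
lemma isMonHom_toGm {S : Scheme.{u}} (G : Over S) [GrpObj G] (u : Γ(G.left, ⊤)ˣ)
    (h1 : η[G].left.appTop (u : Γ(G.left, ⊤)) = 1)
    (h2 : μ[G].left.appTop (u : Γ(G.left, ⊤)) =
      (fst G G).left.appTop (u : Γ(G.left, ⊤)) * (snd G G).left.appTop (u : Γ(G.left, ⊤))) :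
    IsMonHom (toGm u) where
  one_hom := by
    rw [comp_toGm]
    have : Units.map (η[G].left.appTop.hom : Γ(G.left, ⊤) →* Γ((𝟙_ (Over S)).left, ⊤)) u = 1 :=
      Units.ext h1
    rw [this, toGm_one, Hom.one_def, toUnit_unique (toUnit (𝟙_ (Over S))) (𝟙 _), Category.id_comp]
  mul_hom := by
    rw [comp_toGm]
    have : Units.map (μ[G].left.appTop.hom : Γ(G.left, ⊤) →* Γ((G ⊗ G).left, ⊤)) u =
        Units.map ((fst G G).left.appTop.hom : Γ(G.left, ⊤) →* Γ((G ⊗ G).left, ⊤)) u *
          Units.map ((snd G G).left.appTop.hom : Γ(G.left, ⊤) →* Γ((G ⊗ G).left, ⊤)) u :=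
      Units.ext h2
    rw [this, toGm_mul, ← comp_toGm, ← comp_toGm, Hom.mul_def, lift_fst_comp_snd_comp]

/-- If `G` has no nontrivial characters, a unit with value `1` at the identity is `1`. -/
theorem eq_one_of_no_character (G : Over (Spec (CommRingCat.of k))) [GrpObj G] [Smooth G.hom]
    [ConnectedSpace G.left] (hχ : ∀ (χ : G ⟶ Red.Gm (Spec (CommRingCat.of k))) [IsMonHom χ], χ = 1)
    (u : Γ(G.left, ⊤)) (hu : IsUnit u) (h1 : η[G].left.appTop u = 1) : u = 1 := by
  obtain ⟨u, rfl⟩ := hu
  have h2 := mul_appTop G u u.isUnit h1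
  have := isMonHom_toGm G u h1 h2
  have h3 := hχ (toGm u)
  rw [← toGm_one] at h3
  exact congrArg Units.val (toGm_injective h3)

end Main

end K688.RosUnits
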