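import Groth.Agent.GIT.K688.SsMain

/-!
# The quotient of the semi-stable locus is separated and has an ample module
-/

set_option autoImplicit false

universe u

open CategoryTheory CategoryTheory.Limits MonoidalCategory CartesianMonoidalCategory MonObj AlgebraicGeometry
  TopologicalSpace Opposite

namespace K688.SsMain.QD

open K688.ActRes K688.QuotLocal K688.QuotGlue K688.SepCover K688.QuotSec K688.LinRatio K688.SsQuot
open K689.LinBunBasic

variable {S : Scheme.{u}} {G X : Over S} [GrpObj G] {a : AlgGrp.Action G X}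
variable {B : GLinSh.LinBun G a} {U : X.left.Opens} {aU : AlgGrp.Action G (op X U)} (D : QD B U aU)

/-- the range of a chart -/
noncomputable def O (i : J B) : D.Z.left.Opens := (D.j i).left.opensRange

theorem isAffineOpen_O (i : J B) : IsAffineOpen (D.O i) := by
  have := D.aff i
  exact isAffineOpen_opensRange (D.j i).left

theorem preimage_O (i : J B) : D.ψ.left ⁻¹ᵁ D.O i = VV U i := by
  ext x
  exact Set.ext_iff.1 (D.pre i) x

theorem mem_O_iff (i : J B) (x : (op X U).left) : D.ψ.left x ∈ D.O i ↔ U.ι x ∈ i.W := by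
  have h : x ∈ D.ψ.left ⁻¹ᵁ D.O i ↔ x ∈ VV U i := by rw [D.preimage_O]
  exact h

/-- Functions on the chart of the quotient with given pullback. -/
theorem exists_fun (haU : aU.act ≫ inc X U = (G ◁ inc X U) ≫ a.act) (i : J B) {m : ℕ}
    {f g : Γ(B.V.left, ⊤)} (hf : GLinSh.IsInvFn B.lift f) (hg : B.IsInvSection m g)
    (hW : (i.W : Set X.left) ⊆ GLinSh.nonvanishing B.π g) {r : Γ(X.left, i.W)}
    (h : IsRatio B.π i.W f g r) :
    ∃ c : Γ(D.Z.left, D.O i), D.ψ.left.appLE (D.O i) (VV U i) (D.preimage_O i).ge c =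
      (inc X U).left.appLE i.W (VV U i) (inc_le U i) r := by
  have hinv := invariant_kk U aU haU i (D.b i) (D.hb i) hf hg hW h
  have hmem : ((kk U i).left.appLE i.W ⊤ (kk_le U i) r) ∈ Set.range (D.φ i).left.appTop := by
    rw [D.inv i]
    exact hinv
  obtain ⟨d, hd⟩ := hmem
  refine exists_section_of_chart (D.ch i).pb.w (D.preimage_O i).ge _ d ?_
  rw [hd, appLE_appLE]
  rfl

theorem basicOpen_fun (i : J B) {m : ℕ} {f g : Γ(B.V.left, ⊤)}
    (hg : GLinSh.HasWeight B.atlas.chart m g)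
    (hW : (i.W : Set X.left) ⊆ GLinSh.nonvanishing B.π g) {r : Γ(X.left, i.W)}
    (h : IsRatio B.π i.W f g r) (c : Γ(D.Z.left, D.O i))
    (hc : D.ψ.left.appLE (D.O i) (VV U i) (D.preimage_O i).ge c =
      (inc X U).left.appLE i.W (VV U i) (inc_le U i) r) (x : (op X U).left) :
    D.ψ.left x ∈ D.Z.left.basicOpen c ↔ U.ι x ∈ i.W ∧ U.ι x ∈ GLinSh.nonvanishing B.π f := by
  have h1 := Scheme.basicOpen_appLE D.ψ.left (VV U i) (D.O i) (D.preimage_O i).ge c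
  have h2 := Scheme.basicOpen_appLE (inc X U).left (VV U i) i.W (inc_le U i) r
  have h3 := basicOpen_isRatio B.atlas hg hW h
  have h4 : VV U i ⊓ D.ψ.left ⁻¹ᵁ D.Z.left.basicOpen c =
      VV U i ⊓ (inc X U).left ⁻¹ᵁ X.left.basicOpen r := by
    rw [← h1, ← h2, hc]
  have h5 : x ∈ D.ψ.left ⁻¹ᵁ D.Z.left.basicOpen c ↔ x ∈ VV U i ⊓ D.ψ.left ⁻¹ᵁ D.Z.left.basicOpen c := by
    constructor
    · intro hx
      have : D.ψ.left x ∈ D.O i := D.Z.left.basicOpen_le c hx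
      exact ⟨(D.mem_O_iff i x).1 this, hx⟩
    · intro hx
      exact hx.2
  have h6 : x ∈ VV U i ⊓ (inc X U).left ⁻¹ᵁ X.left.basicOpen r ↔
      U.ι x ∈ i.W ∧ U.ι x ∈ (X.left.basicOpen r : Set X.left) := Iff.rfl
  change x ∈ D.ψ.left ⁻¹ᵁ D.Z.left.basicOpen c ↔ _
  rw [h5, h4, h6, h3]
  constructor
  · rintro ⟨h7, h8, -⟩
    exact ⟨h7, h8⟩
  · rintro ⟨h7, h8⟩
    exact ⟨h7, h8, h7⟩

theorem eq_of_preimage {O O' : D.Z.left.Opens} (h : ∀ x, D.ψ.left x ∈ O ↔ D.ψ.left x ∈ O') : O = O' := by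
  ext z
  obtain ⟨x, rfl⟩ := D.surj z
  exact h x

variable (B) in
/-- the sections of weight `N` -/
def JN (N : ℕ) : Type u := {i : J B // B.IsInvSection N i.1}

/-- The charts of a fixed weight cover. -/
theorem exists_N [CompactSpace D.Z.left] : ∃ N : ℕ, 1 ≤ N ∧ ∀ z : D.Z.left, ∃ i : JN B N, z ∈ D.O i.1 := by
  obtain ⟨t, ht⟩ := isCompact_univ.elim_finite_subcover (fun i : J B => (D.O i : Set D.Z.left))
    (fun i => (D.O i).isOpen) (fun z _ => Set.mem_iUnion.2 (D.cov z))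
  let N := ∏ i ∈ t, i.n
  have hN : 1 ≤ N := Nat.one_le_iff_ne_zero.mpr
    (Finset.prod_ne_zero_iff.mpr fun i _ => Nat.one_le_iff_ne_zero.mp i.n_pos)
  refine ⟨N, hN, fun z => ?_⟩
  have hz := ht (Set.mem_univ z)
  simp only [Set.mem_iUnion] at hz
  obtain ⟨i, hit, hzi⟩ := hz
  obtain ⟨m, hm⟩ : i.n ∣ N := Finset.dvd_prod_of_mem _ hit
  have hm0 : m ≠ 0 := by
    rintro rfl
    rw [mul_zero] at hm
    omega
  have hinv : B.IsInvSection N (i.1 ^ m) := by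
    rw [hm]
    exact invSection_pow B i.inv m
  have hnv : GLinSh.nonvanishing B.π (i.1 ^ m) = i.W := by
    rw [nonvanishing_pow i.inv.1 _ hm0, ← i.coe_W]
  let i' : J B := ⟨i.1 ^ m, N, i.W, hN, hinv, hnv.symm, i.affine⟩
  refine ⟨⟨i', hinv⟩, ?_⟩
  have hW : i'.W = i.W := SetLike.coe_injective (i'.coe_W.trans hnv)
  obtain ⟨x, rfl⟩ := D.surj z
  change D.ψ.left x ∈ D.O i'
  rw [D.mem_O_iff, hW, ← D.mem_O_iff]
  exact hzi

theorem separated_and_ample (haU : aU.act ≫ inc X U = (G ◁ inc X U) ≫ a.act) [IsAffine S]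
    [CompactSpace D.Z.left] : IsSeparated D.Z.hom ∧ ∃ M : D.Z.left.Modules, CohB1.IsAmple M := by
  obtain ⟨N, hN, hcov⟩ := D.exists_N
  have hW : ∀ p : JN B N, (p.1.W : Set X.left) ⊆ GLinSh.nonvanishing B.π p.1.1 := fun p =>
    p.1.coe_W.le
  have hr : ∀ p q : JN B N, ∃ r, IsRatio B.π p.1.W q.1.1 p.1.1 r := fun p q =>
    exists_isRatio B.atlas q.2.1 p.2.1 p.1.W (hW p)
  choose r hr using hr
  have hc : ∀ p q : JN B N, ∃ c : Γ(D.Z.left, D.O p.1),
      D.ψ.left.appLE (D.O p.1) (VV U p.1) (D.preimage_O p.1).ge c =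
        (inc X U).left.appLE p.1.W (VV U p.1) (inc_le U p.1) (r p q) := fun p q =>
    D.exists_fun haU p.1 q.2.2 p.2 (hW p) (hr p q)
  choose c hc using hc
  have hinj : ∀ (T : D.Z.left.Opens), Function.Injective (D.ψ.left.appLE T (D.ψ.left ⁻¹ᵁ T) le_rfl) :=
    fun T => app_injective D.uqψ T le_rfl le_rfl
  -- pullback of restrictions
  have hres : ∀ (p q : JN B N) (T : D.Z.left.Opens) (hT : T ≤ D.O p.1)
      (hT' : D.ψ.left ⁻¹ᵁ T ≤ (inc X U).left ⁻¹ᵁ p.1.W),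
      D.ψ.left.appLE T (D.ψ.left ⁻¹ᵁ T) le_rfl (rr hT (c p q)) =
        (inc X U).left.appLE p.1.W (D.ψ.left ⁻¹ᵁ T) hT' (r p q) := by
    intro p q T hT hT'
    rw [appLE_rr]
    have h1 := congrArg (rr (show D.ψ.left ⁻¹ᵁ T ≤ VV U p.1 from hT')) (hc p q)
    rw [rr_appLE, rr_appLE] at h1
    exact h1
  have hTle : ∀ (p : JN B N) (T : D.Z.left.Opens), T ≤ D.O p.1 →
      D.ψ.left ⁻¹ᵁ T ≤ (inc X U).left ⁻¹ᵁ p.1.W := by
    intro p T hT x hx
    exact (D.mem_O_iff p.1 x).1 (hT hx)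
  refine K688.SepCover.separated_and_ample D.Z.hom (I := JN B N) (fun p => D.O p.1)
    (fun p => D.isAffineOpen_O p.1) hcov c ?_ ?_ ?_
  · intro p
    have h1 : r p p = 1 := isRatio_unique B.atlas p.2.1 (hW p) (hr p p) (isRatio_self _ _)
    apply app_injective D.uqψ (D.O p.1) (D.preimage_O p.1).ge (D.preimage_O p.1).le
    rw [hc p p, h1, map_one, map_one]
  · intro p q
    refine D.eq_of_preimage fun x => ?_
    rw [D.basicOpen_fun p.1 p.2.1 (hW p) (hr p q) (c p q) (hc p q) x]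
    have h1 : (D.ψ.left x ∈ D.O p.1 ⊓ D.O q.1) ↔ (D.ψ.left x ∈ D.O p.1 ∧ D.ψ.left x ∈ D.O q.1) := Iff.rfl
    rw [h1, D.mem_O_iff, D.mem_O_iff, ← q.1.coe_W]
    rfl
  · intro p q s T hp hq
    apply hinj T
    rw [map_mul, hres p q T hp (hTle p T hp), hres q s T hq (hTle q T hq), hres p s T hp (hTle p T hp)]
    -- on `W p ⊓ W q`
    have hT2 : D.ψ.left ⁻¹ᵁ T ≤ (inc X U).left ⁻¹ᵁ (p.1.W ⊓ q.1.W) := fun x hx =>
      ⟨hTle p T hp hx, hTle q T hq hx⟩
    have e1 := appLE_rr (inc X U).left (inf_le_left : p.1.W ⊓ q.1.W ≤ p.1.W) hT2 (r p q)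
    have e2 := appLE_rr (inc X U).left (inf_le_right : p.1.W ⊓ q.1.W ≤ q.1.W) hT2 (r q s)
    have e3 := appLE_rr (inc X U).left (inf_le_left : p.1.W ⊓ q.1.W ≤ p.1.W) hT2 (r p s)
    rw [← e1, ← e2, ← e3, ← map_mul]
    congr 1
    have r1 := (hr p q).restrict (inf_le_left : p.1.W ⊓ q.1.W ≤ p.1.W)
    have r2 := (hr q s).restrict (inf_le_right : p.1.W ⊓ q.1.W ≤ q.1.W)
    have r3 := (hr p s).restrict (inf_le_left : p.1.W ⊓ q.1.W ≤ p.1.W)
    have r4 := r2.mul r1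
    have hWW : ((p.1.W ⊓ q.1.W : X.left.Opens) : Set X.left) ⊆ GLinSh.nonvanishing B.π p.1.1 :=
      fun x hx => hW p (show x ∈ p.1.W from hx.1)
    have := isRatio_unique B.atlas p.2.1 hWW r4 r3
    rw [mul_comm] at this
    exact this

end K688.SsMain.QD
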