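import Groth.Agent.GIT.K688.SsQuot

/-!
# The quotient of the semi-stable locus: construction and properties
-/

set_option autoImplicit false

universe u

open CategoryTheory CategoryTheory.Limits MonoidalCategory CartesianMonoidalCategory MonObj AlgebraicGeometry
  TopologicalSpace Opposite

namespace K688.SsMain

open K688.ActRes K688.QuotLocal K688.QuotGlue K688.SepCover K688.QuotSec K688.LinRatio K688.SsQuot
open K689.LinBunBasic

variable {S : Scheme.{u}} {G X : Over S} [GrpObj G] {a : AlgGrp.Action G X}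

/-- The quotient of the semi-stable locus with its charts. -/
structure QD (B : GLinSh.LinBun G a) (U : X.left.Opens) (aU : AlgGrp.Action G (op X U)) where
  /-- the quotient -/
  Z : Over S
  /-- the quotient map -/
  ψ : op X U ⟶ Z
  /-- the quotients of the charts -/
  Y : J B → Over S
  /-- the quotient maps of the charts -/
  φ : ∀ i : J B, op (op X U) (VV U i) ⟶ Y i
  /-- the actions on the charts -/
  b : ∀ i : J B, AlgGrp.Action G (op (op X U) (VV U i))
  /-- the inclusions of the quotients of the charts -/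
  j : ∀ i : J B, Y i ⟶ Z
  hb : ∀ i : J B, (b i).act ≫ inc (op X U) (VV U i) = (G ◁ inc (op X U) (VV U i)) ≫ aU.act
  aff : ∀ i : J B, IsAffine (Y i).left
  inv : ∀ i : J B, Set.range (φ i).left.appTop =
    {f | (b i).act.left.appTop f = (snd G (op (op X U) (VV U i))).left.appTop f}
  uq : ∀ i : J B, GIT.IsUnivCatQuot (b i) (φ i)
  us : ∀ i : J B, GIT.IsUnivSubmersive (φ i).left
  lft : ∀ i : J B, LocallyOfFiniteType (op (op X U) (VV U i)).hom → LocallyOfFiniteType (Y i).hom
  ch : ∀ i : J B, Chart aU ψ (b i) (φ i) (inc (op X U) (VV U i)) (j i)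
  pre : ∀ i : J B, ψ.left ⁻¹' Set.range (j i).left = (VV U i : Set (op X U).left)
  cov : ∀ z : Z.left, ∃ i : J B, z ∈ Set.range (j i).left
  uqψ : GIT.IsUnivCatQuot aU ψ

theorem isQuotientMap_of_us {X Y : Scheme.{u}} {f : X ⟶ Y} (h : GIT.IsUnivSubmersive f) :
    Topology.IsQuotientMap f :=
  h (𝟙 X) (𝟙 Y) f (IsPullback.of_vert_isIso ⟨by simp⟩)

/-- Existence of the quotient of the semi-stable locus. -/
theorem nonempty_QD (hQ : HasAffQuot G) (B : GLinSh.LinBun G a) (U : X.left.Opens)
    (hU : (U : Set X.left) = B.ssLocus) (aU : AlgGrp.Action G (op X U))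
    (haU : aU.act ≫ inc X U = (G ◁ inc X U) ≫ a.act) : Nonempty (QD B U aU) := by
  have hle : ∀ i : J B, i.W ≤ U := fun i x hx => by
    have : x ∈ (U : Set X.left) := by
      rw [hU]
      exact i.mem_ss hx
    exact this
  choose b hb using exists_b (B := B) U aU haU
  have haff : ∀ i : J B, IsAffine (op (op X U) (VV U i)).left := fun i => isAffineOpen_VV U i (hle i)
  choose Y φ hYa hinv huq hus hlft using fun i : J B => hQ (op (op X U) (VV U i)) (b i)
  obtain ⟨Z, ψ, j, hch, hpre, hcov, huqψ⟩ := exists_glue aU (fun i : J B => VV U i) Y φ b hb huq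
    (fun i => (isQuotientMap_of_us (hus i)).surjective)
    (fun i i' => by
      obtain ⟨l, hl⟩ := J.exists_inf i i'
      refine ⟨l, ?_⟩
      change U.ι ⁻¹ᵁ l.W = _
      rw [hl]
      rfl)
    (fun i i' _ => exists_sat U aU haU i i' (b i') (hb i') (φ i') (hinv i'))
    (fun x => by
      have hx : (U.ι x) ∈ B.ssLocus := by
        rw [← hU]
        exact x.2
      exact J.exists_mem (U.ι x) hx)
  exact ⟨⟨Z, ψ, Y, φ, b, j, hb, hYa, hinv, huq, hus, hlft, hch, hpre, hcov, huqψ⟩⟩

namespace QD

variable {B : GLinSh.LinBun G a} {U : X.left.Opens} {aU : AlgGrp.Action G (op X U)} (D : QD B U aU)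

instance (i : J B) : IsOpenImmersion (D.j i).left := (D.ch i).open_g

theorem surj : Function.Surjective D.ψ.left := by
  intro z
  obtain ⟨i, y, rfl⟩ := D.cov z
  obtain ⟨x, rfl⟩ := (isQuotientMap_of_us (D.us i)).surjective y
  refine ⟨(inc (op X U) (VV U i)).left x, ?_⟩
  rw [← Scheme.Hom.comp_apply, ← Scheme.Hom.comp_apply, ← Over.comp_left, ← Over.comp_left, (D.ch i).pb.w]

theorem pb_left (i : J B) : IsPullback (inc (op X U) (VV U i)).left (D.φ i).left D.ψ.left (D.j i).left :=
  (D.ch i).pb.map (Over.forget S)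

theorem isUnivSubmersive : GIT.IsUnivSubmersive D.ψ.left :=
  SubmLocal.isUnivSubmersive_of_charts D.ψ.left fun z => by
    obtain ⟨i, hi⟩ := D.cov z
    exact ⟨_, _, (D.φ i).left, _, (D.j i).left, (D.ch i).open_g, D.pb_left i, hi, D.us i⟩

set_option backward.isDefEq.respectTransparency false in
theorem isAffineHom (haff : ∀ i : J B, IsAffine (op (op X U) (VV U i)).left) : IsAffineHom D.ψ.left :=
  SubmLocal.of_charts @IsAffineHom D.ψ.left fun z => by
    obtain ⟨i, hi⟩ := D.cov z
    have := haff i
    have := D.aff i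
    exact ⟨_, _, (D.φ i).left, _, (D.j i).left, (D.ch i).open_g, D.pb_left i, hi, inferInstance⟩

set_option backward.isDefEq.respectTransparency false in
theorem locallyOfFiniteType [LocallyOfFiniteType X.hom] : LocallyOfFiniteType D.Z.hom := by
  rw [IsZariskiLocalAtSource.iff_of_iSup_eq_top (P := @LocallyOfFiniteType)
    (fun i => (D.j i).left.opensRange)
    (top_le_iff.1 fun z _ => TopologicalSpace.Opens.mem_iSup.2 (D.cov z))]
  intro i
  have h1 : LocallyOfFiniteType (D.Y i).hom := D.lft i (by
    change LocallyOfFiniteType ((VV U i).ι ≫ U.ι ≫ X.hom)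
    infer_instance)
  have h2 : (D.j i).left.opensRange.ι = (D.j i).left.isoOpensRange.inv ≫ (D.j i).left := by
    rw [Iso.eq_inv_comp, Scheme.Hom.isoOpensRange_hom_ι]
  have h3 : (D.j i).left ≫ D.Z.hom = (D.Y i).hom := Over.w (D.j i)
  rw [h2, Category.assoc, h3]
  infer_instance

theorem compactSpace [CompactSpace (op X U).left] : CompactSpace D.Z.left :=
  ⟨by
    rw [← Set.range_eq_univ.mpr D.surj]
    exact isCompact_range D.ψ.left.continuous⟩

end QD

end K688.SsMain
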