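import Groth.Prelude.Def_W4bk4git07Quot
import Mathlib.AlgebraicGeometry.PullbackCarrier
import Mathlib.AlgebraicGeometry.Morphisms.Constructors
import Mathlib.AlgebraicGeometry.Morphisms.Affine
import Mathlib.AlgebraicGeometry.Morphisms.FiniteType

/-!
# Properties of quotient maps which are local on the target, on charts
-/

set_option autoImplicit false

universe u

open CategoryTheory CategoryTheory.Limits AlgebraicGeometry Topology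

namespace K688.SubmLocal

theorem exists_restrict_isPullback {X Y X₁ Y₁ X' Y' : Scheme.{u}} {φ : X ⟶ Y} {φ₁ : X₁ ⟶ Y₁}
    {pr₁ : X₁ ⟶ X} {g₁ : Y₁ ⟶ Y} [IsOpenImmersion g₁] (hpb : IsPullback pr₁ φ₁ φ g₁)
    {i₁ : X' ⟶ X} {i₂ : Y' ⟶ Y} {f' : X' ⟶ Y'} (h : IsPullback i₁ f' φ i₂) :
    ∃ (u : (f' ⁻¹ᵁ (i₂ ⁻¹ᵁ g₁.opensRange)).toScheme ⟶ X₁) (v : (i₂ ⁻¹ᵁ g₁.opensRange).toScheme ⟶ Y₁),
      IsPullback u (f' ∣_ (i₂ ⁻¹ᵁ g₁.opensRange)) φ₁ v := by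
  set V := i₂ ⁻¹ᵁ g₁.opensRange with hV
  have hr : Set.range (V.ι ≫ i₂) ⊆ Set.range g₁ := by
    rintro _ ⟨z, rfl⟩
    exact z.2
  let v : V.toScheme ⟶ Y₁ := IsOpenImmersion.lift g₁ (V.ι ≫ i₂) hr
  have hv : v ≫ g₁ = V.ι ≫ i₂ := IsOpenImmersion.lift_fac _ _ _
  have h1 := (isPullback_morphismRestrict f' V).flip.paste_horiz h
  have hw : ((f' ⁻¹ᵁ V).ι ≫ i₁) ≫ φ = ((f' ∣_ V) ≫ v) ≫ g₁ := by
    rw [h1.w, Category.assoc, hv]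
  let u := hpb.lift ((f' ⁻¹ᵁ V).ι ≫ i₁) ((f' ∣_ V) ≫ v) hw
  have hu1 : u ≫ pr₁ = (f' ⁻¹ᵁ V).ι ≫ i₁ := hpb.lift_fst _ _ _
  have hu2 : u ≫ φ₁ = (f' ∣_ V) ≫ v := hpb.lift_snd _ _ _
  refine ⟨u, v, IsPullback.of_right ?_ hu2 hpb⟩
  rw [hu1, hv]
  exact h1

theorem isQuotientMap_of_local {X Y : Scheme.{u}} (f : X ⟶ Y)
    (H : ∀ y : Y, ∃ V : Y.Opens, y ∈ V ∧ IsQuotientMap (f ∣_ V)) : IsQuotientMap f := by
  have hsurj : Function.Surjective f := by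
    intro y
    obtain ⟨V, hy, hV⟩ := H y
    obtain ⟨x, hx⟩ := hV.surjective ⟨y, hy⟩
    refine ⟨(f ⁻¹ᵁ V).ι x, ?_⟩
    rw [← Scheme.Hom.comp_apply, ← morphismRestrict_ι, Scheme.Hom.comp_apply, hx]
    rfl
  refine ⟨Topology.isCoinducing_iff.mpr fun U => ⟨fun hU => ?_, fun hU => hU.preimage f.continuous⟩, hsurj⟩
  rw [isOpen_iff_forall_mem_open]
  intro y hy
  obtain ⟨V, hyV, hV⟩ := H y
  have h1 : IsOpen (V.ι ⁻¹' U) := by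
    rw [← hV.isOpen_preimage]
    have h2 : (f ∣_ V) ⁻¹' (V.ι ⁻¹' U) = (f ⁻¹ᵁ V).ι ⁻¹' (f ⁻¹' U) := by
      ext x
      have h3 : V.ι ((f ∣_ V) x) = f ((f ⁻¹ᵁ V).ι x) := by
        rw [← Scheme.Hom.comp_apply, ← Scheme.Hom.comp_apply, morphismRestrict_ι]
      exact (congrArg (· ∈ U) h3).to_iff
    rw [h2]
    exact hU.preimage (f ⁻¹ᵁ V).ι.continuous
  refine ⟨V.ι '' (V.ι ⁻¹' U), Set.image_preimage_subset _ _, V.ι.isOpenEmbedding.isOpenMap _ h1,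
    ⟨⟨y, hyV⟩, hy, rfl⟩⟩

theorem isUnivSubmersive_of_charts {X Y : Scheme.{u}} (φ : X ⟶ Y)
    (H : ∀ y : Y, ∃ (X₁ Y₁ : Scheme.{u}) (φ₁ : X₁ ⟶ Y₁) (pr₁ : X₁ ⟶ X) (g₁ : Y₁ ⟶ Y),
      IsOpenImmersion g₁ ∧ IsPullback pr₁ φ₁ φ g₁ ∧ y ∈ Set.range g₁ ∧ GIT.IsUnivSubmersive φ₁) :
    GIT.IsUnivSubmersive φ := by
  intro X' Y' i₁ i₂ f' h
  change IsQuotientMap f'
  refine isQuotientMap_of_local f' fun y' => ?_
  obtain ⟨X₁, Y₁, φ₁, pr₁, g₁, ho, hpb, hy, hs⟩ := H (i₂ y')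
  obtain ⟨u, v, huv⟩ := exists_restrict_isPullback hpb h.flip
  exact ⟨i₂ ⁻¹ᵁ g₁.opensRange, hy, hs _ _ _ huv.flip⟩

/-- A property which is local on the target can be checked on charts. -/
theorem of_charts (P : MorphismProperty Scheme.{u}) [IsZariskiLocalAtTarget P]
    {X Y : Scheme.{u}} (φ : X ⟶ Y)
    (H : ∀ y : Y, ∃ (X₁ Y₁ : Scheme.{u}) (φ₁ : X₁ ⟶ Y₁) (pr₁ : X₁ ⟶ X) (g₁ : Y₁ ⟶ Y),
      IsOpenImmersion g₁ ∧ IsPullback pr₁ φ₁ φ g₁ ∧ y ∈ Set.range g₁ ∧ P φ₁) : P φ := by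
  choose X₁ Y₁ φ₁ pr₁ g₁ ho hpb hy hP using H
  have := ho
  rw [IsZariskiLocalAtTarget.iff_of_iSup_eq_top (P := P) (fun y => (g₁ y).opensRange)
    (top_le_iff.1 fun y _ => TopologicalSpace.Opens.mem_iSup.2 ⟨y, hy y⟩)]
  intro y
  -- the restriction over the range of `g₁ y` is isomorphic to `φ₁ y`
  have h1 := isPullback_morphismRestrict φ (g₁ y).opensRange
  let e : Y₁ y ≅ (g₁ y).opensRange.toScheme := (g₁ y).isoOpensRange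
  have he : e.hom ≫ (g₁ y).opensRange.ι = g₁ y := (g₁ y).isoOpensRange_hom_ι
  have h2 : IsPullback (pr₁ y) (φ₁ y ≫ e.hom) φ (g₁ y).opensRange.ι := by
    refine IsPullback.of_iso (hpb y) (Iso.refl _) (Iso.refl _) e (Iso.refl _) ?_ ?_ ?_ ?_
    · simp
    · simp
    · simp
    · simp [he]
  let e' := h1.flip.isoIsPullback _ _ h2
  have he' : e'.hom ≫ (φ₁ y ≫ e.hom) = φ ∣_ (g₁ y).opensRange := IsPullback.isoIsPullback_hom_snd _ _ _ _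
  rw [← he', MorphismProperty.cancel_left_of_respectsIso (P := P),
    MorphismProperty.cancel_right_of_respectsIso (P := P)]
  exact hP y

end K688.SubmLocal
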