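import Groth.Agent.GIT.K688.QuotSec
import Groth.Agent.GIT.K688.LinRatio
import Groth.Agent.GIT.K688.SubmLocal

/-!
# The quotient of the semi-stable locus of a linearised line bundle

From the existence of affine quotients (`HasAffQuot`), the semi-stable locus of a linearised line
bundle has a universal categorical quotient which is affine, universally submersive, separated, with
an ample module.
-/

set_option autoImplicit false

universe u

open CategoryTheory CategoryTheory.Limits MonoidalCategory CartesianMonoidalCategory MonObj AlgebraicGeometry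
  TopologicalSpace Opposite

namespace K688.SsQuot

open K688.ActRes K688.QuotLocal K688.QuotGlue K688.SepCover K688.QuotSec K688.LinRatio
open K689.LinBunBasic

variable {S : Scheme.{u}}

/-- Affine schemes with an action of `G` have a quotient by the invariants. -/
def HasAffQuot (G : Over S) [GrpObj G] : Prop :=
  ∀ (X : Over S) [IsAffine X.left] (a : AlgGrp.Action G X),
    ∃ (Y : Over S) (φ : X ⟶ Y), IsAffine Y.left ∧
      Set.range φ.left.appTop = {f : Γ(X.left, ⊤) | a.act.left.appTop f = (snd G X).left.appTop f} ∧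
      GIT.IsUnivCatQuot a φ ∧ GIT.IsUnivSubmersive φ.left ∧
      (LocallyOfFiniteType X.hom → LocallyOfFiniteType Y.hom)

variable {G X : Over S} [GrpObj G] {a : AlgGrp.Action G X} (B : GLinSh.LinBun G a)

/-- The sections defining the semi-stable locus. -/
def J : Type u := {f : Γ(B.V.left, ⊤) // ∃ (n : ℕ) (W : X.left.Opens), 1 ≤ n ∧ B.IsInvSection n f ∧
  (W : Set X.left) = GLinSh.nonvanishing B.π f ∧ IsAffineOpen W}

variable {B}

namespace J

/-- a weight -/
noncomputable def n (i : J B) : ℕ := i.2.choose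

/-- the open `X_f` -/
noncomputable def W (i : J B) : X.left.Opens := i.2.choose_spec.choose

theorem n_pos (i : J B) : 1 ≤ i.n := i.2.choose_spec.choose_spec.1

theorem inv (i : J B) : B.IsInvSection i.n i.1 := i.2.choose_spec.choose_spec.2.1

theorem coe_W (i : J B) : (i.W : Set X.left) = GLinSh.nonvanishing B.π i.1 :=
  i.2.choose_spec.choose_spec.2.2.1

theorem affine (i : J B) : IsAffineOpen i.W := i.2.choose_spec.choose_spec.2.2.2

theorem mem_ss (i : J B) {x : X.left} (hx : x ∈ i.W) : x ∈ B.ssLocus := by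
  refine ⟨i.n, i.1, i.n_pos, i.inv, ?_, i.W, i.coe_W, i.affine⟩
  rw [← i.coe_W]
  exact hx

theorem exists_mem (x : X.left) (hx : x ∈ B.ssLocus) : ∃ i : J B, x ∈ i.W := by
  obtain ⟨n, f, hn, hf, hxf, W, hW, hWa⟩ := hx
  let i : J B := ⟨f, n, W, hn, hf, hW, hWa⟩
  refine ⟨i, ?_⟩
  have : x ∈ (i.W : Set X.left) := by
    rw [i.coe_W]
    exact hxf
  exact this

/-- an invariant open -/
theorem inv_W (i : J B) (z : (G ⊗ X).left) : a.act.left z ∈ i.W ↔ (snd G X).left z ∈ i.W := by
  have h := nonvanishing_invariant i.inv.2 z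
  rw [← i.coe_W] at h
  exact h

theorem exists_inf (i j : J B) : ∃ l : J B, l.W = i.W ⊓ j.W := by
  have hw : B.IsInvSection (i.n + j.n) (i.1 * j.1) := invSection_mul B i.inv j.inv
  have hnv : GLinSh.nonvanishing B.π (i.1 * j.1) = (i.W ⊓ j.W : X.left.Opens) := by
    rw [nonvanishing_mul i.inv.1 j.inv.1, ← i.coe_W, ← j.coe_W]
    rfl
  have haff : IsAffineOpen (i.W ⊓ j.W) :=
    isAffineOpen_mul i.inv.1 j.inv.1 (Nat.one_le_iff_ne_zero.mp j.n_pos) j.W j.coe_W j.affine _ hnv.symm
  let l : J B := ⟨i.1 * j.1, i.n + j.n, i.W ⊓ j.W, by have := j.n_pos; omega, hw, hnv.symm, haff⟩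
  refine ⟨l, ?_⟩
  have : (l.W : Set X.left) = (i.W ⊓ j.W : X.left.Opens) := l.coe_W.trans hnv
  exact SetLike.coe_injective this

end J

section Charts

variable (U : X.left.Opens)

/-- `X_f` inside `U` -/
noncomputable abbrev VV (i : J B) : (op X U).left.Opens := U.ι ⁻¹ᵁ i.W

/-- the morphism `X_f ⟶ X` -/
noncomputable abbrev kk (i : J B) : op (op X U) (VV U i) ⟶ X := inc (op X U) (VV U i) ≫ inc X U

theorem kk_le (i : J B) : ⊤ ≤ (kk U i).left ⁻¹ᵁ i.W := fun z _ => z.2

theorem inc_le (i : J B) : VV U i ≤ (inc X U).left ⁻¹ᵁ i.W := le_rfl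

theorem isAffineOpen_VV (i : J B) (hU : i.W ≤ U) : IsAffineOpen (VV U i) :=
  i.affine.preimage_of_isOpenImmersion U.ι (by rwa [Scheme.Opens.opensRange_ι])

theorem exists_b (aU : AlgGrp.Action G (op X U)) (haU : aU.act ≫ inc X U = (G ◁ inc X U) ≫ a.act)
    (i : J B) : ∃ b : AlgGrp.Action G (op (op X U) (VV U i)),
      b.act ≫ inc (op X U) (VV U i) = (G ◁ inc (op X U) (VV U i)) ≫ aU.act := by
  refine exists_restrict aU (inc (op X U) (VV U i)) fun z hz => ?_
  have h1 : Set.range (inc (op X U) (VV U i)).left = (VV U i : Set (op X U).left) :=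
    Scheme.Opens.range_ι _
  rw [h1] at hz ⊢
  have h2 : (inc X U).left (aU.act.left z) = a.act.left ((G ◁ inc X U).left z) := by
    rw [← Scheme.Hom.comp_apply, ← Scheme.Hom.comp_apply, ← Over.comp_left, ← Over.comp_left, haU]
  have h3 : (snd G X).left ((G ◁ inc X U).left z) = (inc X U).left ((snd G (op X U)).left z) := by
    rw [← Scheme.Hom.comp_apply, ← Scheme.Hom.comp_apply, ← Over.comp_left, ← Over.comp_left,
      whiskerLeft_snd]
  change (inc X U).left (aU.act.left z) ∈ i.W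
  rw [h2, i.inv_W, h3]
  exact hz

/-- The ratio functions on the charts are invariant. -/
theorem invariant_kk (aU : AlgGrp.Action G (op X U)) (haU : aU.act ≫ inc X U = (G ◁ inc X U) ≫ a.act)
    (i : J B) (b : AlgGrp.Action G (op (op X U) (VV U i)))
    (hb : b.act ≫ inc (op X U) (VV U i) = (G ◁ inc (op X U) (VV U i)) ≫ aU.act)
    {m : ℕ} {f g : Γ(B.V.left, ⊤)} (hf : GLinSh.IsInvFn B.lift f) (hg : B.IsInvSection m g)
    (hW : (i.W : Set X.left) ⊆ GLinSh.nonvanishing B.π g) {r : Γ(X.left, i.W)}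
    (h : IsRatio B.π i.W f g r) :
    b.act.left.appTop ((kk U i).left.appLE i.W ⊤ (kk_le U i) r) =
      (snd G _).left.appTop ((kk U i).left.appLE i.W ⊤ (kk_le U i) r) := by
  refine invariant_ratio B hf hg hW h b (kk U i) ?_ (kk_le U i)
  rw [reassoc_of% hb, haU, whiskerLeft_comp_assoc]

/-- The value of the ratio on the charts: non-vanishing locus. -/
theorem basicOpen_kk (i : J B) {m : ℕ} {f g : Γ(B.V.left, ⊤)} (hg : GLinSh.HasWeight B.atlas.chart m g)
    (hW : (i.W : Set X.left) ⊆ GLinSh.nonvanishing B.π g) {r : Γ(X.left, i.W)}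
    (h : IsRatio B.π i.W f g r) (z : (op (op X U) (VV U i)).left) :
    z ∈ (op (op X U) (VV U i)).left.basicOpen ((kk U i).left.appLE i.W ⊤ (kk_le U i) r) ↔
      (kk U i).left z ∈ GLinSh.nonvanishing B.π f := by
  have h1 := Scheme.basicOpen_appLE (kk U i).left ⊤ i.W (kk_le U i) r
  have h2 := basicOpen_isRatio B.atlas hg hW h
  have h3 : z ∈ (op (op X U) (VV U i)).left.basicOpen ((kk U i).left.appLE i.W ⊤ (kk_le U i) r) ↔
      z ∈ (⊤ ⊓ (kk U i).left ⁻¹ᵁ X.left.basicOpen r : (op (op X U) (VV U i)).left.Opens) := by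
    rw [← h1]
  rw [h3]
  have h4 : (z ∈ (⊤ ⊓ (kk U i).left ⁻¹ᵁ X.left.basicOpen r : (op (op X U) (VV U i)).left.Opens)) ↔
      (kk U i).left z ∈ (X.left.basicOpen r : Set X.left) :=
    ⟨fun h => h.2, fun h => ⟨trivial, h⟩⟩
  rw [h4, h2]
  exact ⟨fun h => h.1, fun h => ⟨h, kk_le U i trivial⟩⟩

/-- A chart contained in another one is saturated for the quotient of the latter. -/
theorem exists_sat (aU : AlgGrp.Action G (op X U)) (haU : aU.act ≫ inc X U = (G ◁ inc X U) ≫ a.act)
    (i j : J B) (b : AlgGrp.Action G (op (op X U) (VV U j)))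
    (hb : b.act ≫ inc (op X U) (VV U j) = (G ◁ inc (op X U) (VV U j)) ≫ aU.act)
    {Y : Over S} (φ : op (op X U) (VV U j) ⟶ Y)
    (hφ : Set.range φ.left.appTop =
      {f | b.act.left.appTop f = (snd G (op (op X U) (VV U j))).left.appTop f}) :
    ∃ O : Y.left.Opens, φ.left ⁻¹ᵁ O = (VV U j).ι ⁻¹ᵁ VV U i := by
  have hF : B.IsInvSection (i.n * j.n) (i.1 ^ j.n) := invSection_pow B i.inv j.n
  have hG : B.IsInvSection (i.n * j.n) (j.1 ^ i.n) := by
    rw [mul_comm]
    exact invSection_pow B j.inv i.n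
  have hi0 : i.n ≠ 0 := Nat.one_le_iff_ne_zero.mp i.n_pos
  have hj0 : j.n ≠ 0 := Nat.one_le_iff_ne_zero.mp j.n_pos
  have hW : (j.W : Set X.left) ⊆ GLinSh.nonvanishing B.π (j.1 ^ i.n) := by
    rw [nonvanishing_pow j.inv.1 _ hi0, ← j.coe_W]
  obtain ⟨r, hr⟩ := exists_isRatio B.atlas hF.1 hG.1 j.W hW
  have hinv := invariant_kk U aU haU j b hb hF.2 hG hW hr
  have hmem : ((kk U j).left.appLE j.W ⊤ (kk_le U j) r) ∈ Set.range φ.left.appTop := by
    rw [hφ]
    exact hinv
  obtain ⟨d, hd⟩ := hmem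
  refine ⟨Y.left.basicOpen d, ?_⟩
  rw [Scheme.preimage_basicOpen_top]
  ext z
  have h1 := basicOpen_kk U j hG.1 hW hr z
  rw [nonvanishing_pow i.inv.1 _ hj0, ← i.coe_W, ← hd] at h1
  exact h1

end Charts

end K688.SsQuot
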