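import Groth.Agent.GIT.K688.Farkas
import Mathlib.LinearAlgebra.Dimension.Constructions
import Mathlib.LinearAlgebra.FiniteDimensional.Lemmas
import Mathlib.LinearAlgebra.LinearIndependent.Lemmas
import Mathlib.Data.Fin.Tuple.Sort
import Mathlib.Data.Rat.Lemmas
import Mathlib.Algebra.BigOperators.Pi
import Mathlib.Tactic.Positivity
import Mathlib.Tactic.Push

/-!
# Stable configurations and bases: the weighted base polytope of a vector configuration

* `greedy_*`: the greedy basis with respect to a ranking of a finite family of vectors;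
* `exists_weights`: a vector dominated by the rank function is a nonnegative rational combination of
  indicator vectors of bases.
-/

set_option autoImplicit false

namespace K688.StableConf

section Greedy

variable {K V E : Type*} [Field K] [AddCommGroup V] [Module K V] [Fintype E]
  (x : E → V) (ρ : E → ℕ)

open Classical in
/-- The greedy independent set: those `j` with `x j` not in the span of the `x i` ranked before. -/
noncomputable def greedy (K : Type*) [Field K] {V : Type*} [AddCommGroup V] [Module K V] {E : Type*}
    [Fintype E] (x : E → V) (ρ : E → ℕ) : Finset E :=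
  Finset.univ.filter fun j => x j ∉ Submodule.span K (x '' {i | ρ i < ρ j})

lemma mem_greedy {j : E} : j ∈ greedy K x ρ ↔ x j ∉ Submodule.span K (x '' {i | ρ i < ρ j}) := by
  simp [greedy]

lemma greedy_aux (hρ : Function.Injective ρ) (n : ℕ) :
    LinearIndepOn K x {j | j ∈ greedy K x ρ ∧ ρ j < n} ∧
      Submodule.span K (x '' {j | j ∈ greedy K x ρ ∧ ρ j < n}) =
        Submodule.span K (x '' {j | ρ j < n}) := by
  induction n with
  | zero => simp
  | succ n ih =>
    by_cases hn : ∃ j₀, ρ j₀ = n
    · obtain ⟨j₀, hj₀⟩ := hn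
      have h1 : {j | ρ j < n + 1} = insert j₀ {j | ρ j < n} := by
        ext j
        simp only [Set.mem_ofPred_eq, Set.mem_insert_iff]
        constructor
        · intro h
          rcases Nat.lt_succ_iff_lt_or_eq.1 h with h | h
          · exact Or.inr h
          · exact Or.inl (hρ (h.trans hj₀.symm))
        · rintro (rfl | h)
          · omega
          · omega
      by_cases hg : j₀ ∈ greedy K x ρ
      · have h2 : {j | j ∈ greedy K x ρ ∧ ρ j < n + 1} =
            insert j₀ {j | j ∈ greedy K x ρ ∧ ρ j < n} := by
          ext j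
          have := Set.ext_iff.1 h1 j
          simp only [Set.mem_ofPred_eq, Set.mem_insert_iff] at this ⊢
          rw [this]
          constructor
          · rintro ⟨h, rfl | h'⟩
            · exact Or.inl rfl
            · exact Or.inr ⟨h, h'⟩
          · rintro (rfl | h)
            · exact ⟨hg, Or.inl rfl⟩
            · exact ⟨h.1, Or.inr h.2⟩
        rw [h1, h2]
        constructor
        · refine ih.1.insert ?_
          rw [ih.2]
          have := (mem_greedy x ρ).1 hg
          rwa [hj₀] at this
        · rw [Set.image_insert_eq, Set.image_insert_eq, Submodule.span_insert,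
            Submodule.span_insert, ih.2]
      · have h2 : {j | j ∈ greedy K x ρ ∧ ρ j < n + 1} =
            {j | j ∈ greedy K x ρ ∧ ρ j < n} := by
          ext j
          have := Set.ext_iff.1 h1 j
          simp only [Set.mem_ofPred_eq, Set.mem_insert_iff] at this ⊢
          rw [this]
          constructor
          · rintro ⟨h, rfl | h'⟩
            · exact absurd h hg
            · exact ⟨h, h'⟩
          · rintro h
            exact ⟨h.1, Or.inr h.2⟩
        have h3 : x j₀ ∈ Submodule.span K (x '' {j | ρ j < n}) := by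
          by_contra h
          apply hg
          rw [mem_greedy, hj₀]
          exact h
        rw [h1, h2]
        refine ⟨ih.1, ?_⟩
        rw [ih.2, Set.image_insert_eq, Submodule.span_insert_eq_span h3]
    · have h1 : ∀ j, ρ j < n + 1 ↔ ρ j < n := by
        intro j
        constructor
        · intro h
          rcases Nat.lt_succ_iff_lt_or_eq.1 h with h | h
          · exact h
          · exact absurd ⟨j, h⟩ hn
        · intro h
          omega
      simp only [h1]
      exact ih

/-- The number of greedy elements ranked before `n` is the dimension of the span of all vectors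
ranked before `n`. -/
lemma card_greedy_filter (hρ : Function.Injective ρ) (n : ℕ) :
    ((greedy K x ρ).filter fun j => ρ j < n).card =
      Module.finrank K (Submodule.span K (x '' {j | ρ j < n})) := by
  classical
  obtain ⟨h1, h2⟩ := greedy_aux (K := K) x ρ hρ n
  rw [← h2]
  have h3 := finrank_span_eq_card (R := K) h1
  have h4 : Set.range (fun i : {j | j ∈ greedy K x ρ ∧ ρ j < n} => x i) =
      x '' {j | j ∈ greedy K x ρ ∧ ρ j < n} := by
    ext v
    simp
  rw [h4] at h3
  rw [h3]
  exact (Fintype.card_of_subtype _ fun j => by simp).symm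

end Greedy

section Abel

variable {E : Type*} [Fintype E]

/-- Summation by parts: a weight with nonpositive partial sums and total sum zero pairs nonnegatively
with a monotone function. -/
lemma sum_mul_nonneg (ρ : E → ℕ) (hρ : Function.Injective ρ) (c w : E → ℚ)
    (hc : ∀ i j, ρ i ≤ ρ j → c i ≤ c j)
    (hw : ∀ n, ∑ j ∈ Finset.univ.filter (fun j => ρ j < n), w j ≤ 0)
    (hw0 : ∑ j, w j = 0) : 0 ≤ ∑ j, c j * w j := by
  classical
  have key : ∀ n, ∀ t : ℚ, (∀ j, ρ j < n → c j ≤ t) →
      t * ∑ j ∈ Finset.univ.filter (fun j => ρ j < n), w j ≤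
        ∑ j ∈ Finset.univ.filter (fun j => ρ j < n), c j * w j := by
    intro n
    induction n with
    | zero => intro t _; simp
    | succ n ih =>
      intro t ht
      by_cases hn : ∃ j₀, ρ j₀ = n
      · obtain ⟨j₀, hj₀⟩ := hn
        have h1 : (Finset.univ.filter fun j => ρ j < n + 1) =
            insert j₀ (Finset.univ.filter fun j => ρ j < n) := by
          ext j
          simp only [Finset.mem_filter, Finset.mem_univ, true_and, Finset.mem_insert]
          constructor
          · intro h
            rcases Nat.lt_succ_iff_lt_or_eq.1 h with h | h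
            · exact Or.inr h
            · exact Or.inl (hρ (h.trans hj₀.symm))
          · rintro (rfl | h)
            · omega
            · omega
        have h2 : j₀ ∉ Finset.univ.filter fun j => ρ j < n := by simp [hj₀]
        have h3 := hw (n + 1)
        have h4 := ih (c j₀) (fun j hj => hc j j₀ (by omega))
        rw [h1, Finset.sum_insert h2] at h3
        rw [h1, Finset.sum_insert h2, Finset.sum_insert h2]
        have h5 : c j₀ ≤ t := ht j₀ (by omega)
        nlinarith
      · have h1 : ∀ j, ρ j < n + 1 ↔ ρ j < n := by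
          intro j
          constructor
          · intro h
            rcases Nat.lt_succ_iff_lt_or_eq.1 h with h | h
            · exact h
            · exact absurd ⟨j, h⟩ hn
          · intro h
            omega
        simp only [h1] at ht ⊢
        exact ih t ht
  obtain ⟨n, hn⟩ : ∃ n, ∀ j, ρ j < n := by
    refine ⟨(Finset.univ.sup ρ) + 1, fun j => Nat.lt_succ_of_le (Finset.le_sup (Finset.mem_univ j))⟩
  obtain ⟨t, ht⟩ : ∃ t : ℚ, ∀ j, c j ≤ t := by
    refine ⟨∑ j, |c j|, fun j => (le_abs_self _).trans ?_⟩
    exact Finset.single_le_sum (f := fun j => |c j|) (fun i _ => abs_nonneg _) (Finset.mem_univ j)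
  have h1 := key n t (fun j _ => ht j)
  have h2 : (Finset.univ.filter fun j => ρ j < n) = Finset.univ := by
    ext j
    simp [hn j]
  rw [h2, hw0, mul_zero] at h1
  exact h1

/-- Membership in the cone spanned by indicator vectors, by the Farkas lemma. -/
lemma exists_cone_coeff [DecidableEq E] (B : Finset (Finset E)) (y : E → ℚ)
    (h : ∀ c : E → ℚ, (∀ S ∈ B, 0 ≤ ∑ j ∈ S, c j) → 0 ≤ ∑ j, c j * y j) :
    ∃ u : Finset E → ℚ, (∀ S, 0 ≤ u S) ∧ ∀ j, y j = ∑ S ∈ B, if j ∈ S then u S else 0 := by
  obtain ⟨u, hu, hy⟩ := K688.Farkas.farkas (F := ℚ) (W := E → ℚ) B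
    (fun S => -∑ j ∈ S, LinearMap.proj j) (-∑ j, y j • LinearMap.proj j) (by
      intro c hc
      have := h c (fun S hS => by
        have := hc S hS
        simpa using this)
      simp only [LinearMap.neg_apply, LinearMap.sum_apply, LinearMap.smul_apply,
        LinearMap.proj_apply, smul_eq_mul]
      have h2 : ∑ j, y j * c j = ∑ j, c j * y j := Finset.sum_congr rfl fun j _ => mul_comm _ _
      rw [h2]
      linarith)
  refine ⟨u, hu, fun j => ?_⟩
  have h1 := LinearMap.congr_fun hy (Pi.single j 1)
  simp only [LinearMap.neg_apply, LinearMap.sum_apply, LinearMap.smul_apply,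
    LinearMap.proj_apply, smul_eq_mul, Pi.single_apply] at h1
  simp only [mul_ite, mul_one, mul_zero, Finset.sum_ite_eq', Finset.mem_univ, if_true, mul_neg,
    Finset.sum_neg_distrib, neg_inj] at h1
  rw [h1]

end Abel

section Main

/-- A finite family can be ranked so that a given function is monotone. -/
lemma exists_rank {E : Type*} [Fintype E] (c : E → ℚ) :
    ∃ ρ : E → ℕ, Function.Injective ρ ∧ ∀ i j, ρ i ≤ ρ j → c i ≤ c j := by
  set e := Fintype.equivFin E
  set f : Fin (Fintype.card E) → ℚ := c ∘ e.symm with hf
  refine ⟨fun j => ((Tuple.sort f).symm (e j) : ℕ), ?_, ?_⟩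
  · intro i j hij
    exact e.injective ((Tuple.sort f).symm.injective (Fin.ext hij))
  · intro i j hij
    have h := Tuple.monotone_sort f (a := (Tuple.sort f).symm (e i))
      (b := (Tuple.sort f).symm (e j)) hij
    simpa [hf] using h

variable {K V E : Type*} [Field K] [AddCommGroup V] [Module K V] [FiniteDimensional K V]
  [Fintype E] [DecidableEq E] (x : E → V)

omit [FiniteDimensional K V] in
open Classical in
/-- A nonnegative weight `y` whose mass in every subspace `L` is at most `dim L / dim V` of the total
mass is a nonnegative rational combination of indicator vectors of bases. -/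
theorem exists_bases_coeff (hV : 0 < Module.finrank K V) (y : E → ℚ) (hy : ∀ j, 0 ≤ y j)
    (h : ∀ L : Submodule K V, (∑ j with x j ∈ L, y j) * Module.finrank K V ≤
      Module.finrank K L * ∑ j, y j)
    (hspan : Submodule.span K (Set.range x) = ⊤) (B : Finset (Finset E))
    (hB : ∀ S : Finset E, S.card = Module.finrank K V → LinearIndepOn K x (S : Set E) → S ∈ B) :
    ∃ u : Finset E → ℚ, (∀ S, 0 ≤ u S) ∧ ∀ j, y j = ∑ S ∈ B, if j ∈ S then u S else 0 := by
  refine exists_cone_coeff B y fun c hc => ?_
  obtain ⟨ρ, hρ, hmono⟩ := exists_rank c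
  set S := greedy K x ρ with hS
  obtain ⟨n, hn⟩ : ∃ n, ∀ j, ρ j < n :=
    ⟨(Finset.univ.sup ρ) + 1, fun j => Nat.lt_succ_of_le (Finset.le_sup (Finset.mem_univ j))⟩
  have hSn : (S.filter fun j => ρ j < n) = S := by
    ext j
    simp [hn j]
  have hcard : S.card = Module.finrank K V := by
    have h1 := card_greedy_filter (K := K) x ρ hρ n
    rw [← hS, hSn] at h1
    have h2 : {j | ρ j < n} = Set.univ := by
      ext j
      simp [hn j]
    rw [h1, h2, Set.image_univ, hspan, finrank_top]
  have hli : LinearIndepOn K x (S : Set E) := by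
    have h1 := (greedy_aux (K := K) x ρ hρ n).1
    have h2 : {j | j ∈ greedy K x ρ ∧ ρ j < n} = (S : Set E) := by
      ext j
      simp [hn j, hS]
    rwa [h2] at h1
  have hc0 := hc S (hB S hcard hli)
  set r : ℚ := (Module.finrank K V : ℚ) with hr
  have hr0 : 0 < r := by
    rw [hr]
    exact_mod_cast hV
  set Y : ℚ := ∑ j, y j with hY
  have hY0 : 0 ≤ Y := Finset.sum_nonneg fun j _ => hy j
  have h1 := sum_mul_nonneg ρ hρ c (fun j => y j * r - if j ∈ S then Y else 0) hmono (by
    intro n
    rw [Finset.sum_sub_distrib, ← Finset.sum_mul, ← Finset.sum_filter, Finset.sum_const,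
      nsmul_eq_mul]
    have h2 : ((Finset.univ.filter fun j => ρ j < n).filter fun j => j ∈ S) =
        S.filter fun j => ρ j < n := by
      ext j
      simp [and_comm]
    rw [h2, card_greedy_filter (K := K) x ρ hρ n]
    have h3 := h (Submodule.span K (x '' {j | ρ j < n}))
    have h4 : ∑ j with ρ j < n, y j ≤
        ∑ j with x j ∈ Submodule.span K (x '' {j | ρ j < n}), y j := by
      refine Finset.sum_le_sum_of_subset_of_nonneg ?_ fun i _ _ => hy i
      intro j hj
      rw [Finset.mem_filter] at hj ⊢
      exact ⟨hj.1, Submodule.subset_span ⟨j, hj.2, rfl⟩⟩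
    have h5 := mul_le_mul_of_nonneg_right h4 hr0.le
    linarith) (by
    rw [Finset.sum_sub_distrib, ← Finset.sum_mul, ← Finset.sum_filter, Finset.sum_const,
      nsmul_eq_mul]
    have h2 : (Finset.univ.filter fun j => j ∈ S) = S := by
      ext j
      simp
    rw [h2, hcard, ← hr]
    ring)
  have h2 : ∑ j, c j * (y j * r - if j ∈ S then Y else 0) =
      r * ∑ j, c j * y j - Y * ∑ j ∈ S, c j := by
    have h3 : Y * ∑ j ∈ S, c j = ∑ j, (if j ∈ S then Y * c j else 0) := by
      rw [Finset.mul_sum, ← Finset.sum_filter]
      refine Finset.sum_congr ?_ fun _ _ => rfl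
      ext j
      simp
    rw [h3, Finset.mul_sum, ← Finset.sum_sub_distrib]
    refine Finset.sum_congr rfl fun j _ => ?_
    split_ifs <;> ring
  rw [h2] at h1
  have h3 : 0 ≤ r * ∑ j, c j * y j := by
    have := mul_nonneg hY0 hc0
    linarith
  exact nonneg_of_mul_nonneg_right h3 hr0

end Main

section Statement

/-- Common denominators. -/
lemma exists_denominator {ι : Type*} [Fintype ι] (u : ι → ℚ) (hu : ∀ i, 0 ≤ u i) :
    ∃ (M : ℕ) (a : ι → ℕ), 0 < M ∧ ∀ i, (M : ℚ) * u i = a i := by
  classical
  have h : ∀ i, ∃ a : ℕ, ((∏ j, (u j).den : ℕ) : ℚ) * u i = a := by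
    intro i
    obtain ⟨k, hk⟩ : (u i).den ∣ ∏ j, (u j).den := Finset.dvd_prod_of_mem _ (Finset.mem_univ i)
    refine ⟨k * (u i).num.toNat, ?_⟩
    rw [hk]
    have h1 : ((u i).num.toNat : ℚ) = (u i).num := by
      have := Int.toNat_of_nonneg (Rat.num_nonneg.2 (hu i))
      exact_mod_cast this
    push_cast
    rw [h1]
    have h2 := Rat.den_mul_eq_num (u i)
    linear_combination (k : ℚ) * h2
  choose a ha using h
  exact ⟨∏ j, (u j).den, a, Finset.prod_pos fun j _ => (u j).den_pos, ha⟩

lemma sum_card_filter {E : Type*} [DecidableEq E] (F : Finset E) (P : Multiset (Finset E)) :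
    ∑ j ∈ F, Multiset.card (P.filter (fun S => j ∈ S)) = (P.map fun S => (S ∩ F).card).sum := by
  induction P using Multiset.induction with
  | empty => simp
  | cons S P ih =>
    rw [Multiset.map_cons, Multiset.sum_cons, ← ih]
    have h : ∀ j, Multiset.card ((S ::ₘ P).filter (fun S => j ∈ S)) =
        (if j ∈ S then 1 else 0) + Multiset.card (P.filter (fun S => j ∈ S)) := by
      intro j
      rw [Multiset.filter_cons, Multiset.card_add]
      split_ifs <;> simp
    simp_rw [h]
    rw [Finset.sum_add_distrib, Finset.sum_boole, Finset.filter_mem_eq_inter, Finset.inter_comm,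
      Nat.cast_id]

variable (K : Type*) [Field K] (V : Type*) [AddCommGroup V] [Module K V] [FiniteDimensional K V]
    (m : ℕ) (x : Fin (m + 1) → V)

theorem mp (hx : ∀ i, x i ≠ 0)
    (hA : ∀ L : Submodule K V, L ≠ ⊥ → L ≠ ⊤ →
        Set.ncard {i : Fin (m + 1) | x i ∈ L} * Module.finrank K V < Module.finrank K L * (m + 1)) :
      ∃ N N₀ : ℕ, 0 < N₀ ∧ N₀ ≤ N ∧
        ∀ i : Fin (m + 1), ∃ P : Multiset (Finset (Fin (m + 1))), P ≠ 0 ∧
          (∀ S ∈ P, S.card = Module.finrank K V ∧ LinearIndependent K (fun j : S => x j)) ∧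
          ∀ j : Fin (m + 1),
            Multiset.card (P.filter (fun S => j ∈ S)) = if j = i then N - N₀ else N := by
  classical
  have : Nontrivial V := ⟨x 0, 0, hx 0⟩
  have hV : 0 < Module.finrank K V := Module.finrank_pos
  set r := Module.finrank K V with hr
  have hspan : Submodule.span K (Set.range x) = ⊤ := by
    by_contra hne
    have h1 := hA _ (fun h => hx 0 (by
      have : x 0 ∈ Submodule.span K (Set.range x) := Submodule.subset_span ⟨0, rfl⟩
      rw [h] at this
      exact (Submodule.mem_bot K).1 this)) hne
    have h2 : {i : Fin (m + 1) | x i ∈ Submodule.span K (Set.range x)} = Set.univ := by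
      ext i
      simp only [Set.mem_ofPred_eq, Set.mem_univ, iff_true]
      exact Submodule.subset_span ⟨i, rfl⟩
    rw [h2, Set.ncard_univ, Nat.card_fin, mul_comm] at h1
    have h3 := Submodule.finrank_le (Submodule.span K (Set.range x))
    rw [← hr] at h3
    have h4 := lt_of_mul_lt_mul_right h1 (Nat.zero_le _)
    omega
  set B : Finset (Finset (Fin (m + 1))) := Finset.univ.filter fun S =>
    S.card = r ∧ LinearIndependent K (fun j : S => x j) with hB
  have key : ∀ i : Fin (m + 1), ∃ u : Finset (Fin (m + 1)) → ℚ, (∀ S, 0 ≤ u S) ∧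
      ∀ j, (if j = i then (r : ℚ) else r + 1) = ∑ S ∈ B, if j ∈ S then u S else 0 := by
    intro i
    refine exists_bases_coeff x hV (fun j => if j = i then (r : ℚ) else r + 1) ?_ ?_ hspan B ?_
    · intro j
      split_ifs <;> positivity
    · intro L
      rw [← hr]
      have htot : ∑ j : Fin (m + 1), (if j = i then (r : ℚ) else r + 1) =
          (r + 1) * (m + 1) - 1 := by
        have h1 : ∀ j : Fin (m + 1), (if j = i then (r : ℚ) else r + 1) =
            (r + 1) - (if j = i then 1 else 0) := by
          intro j
          split_ifs <;> ring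
        simp_rw [h1]
        rw [Finset.sum_sub_distrib, Finset.sum_const, Finset.sum_ite_eq' Finset.univ i]
        simp
        ring
      rw [htot]
      rcases eq_or_ne L ⊥ with rfl | hL
      · have h1 : (Finset.univ.filter fun j => x j ∈ (⊥ : Submodule K V)) = ∅ := by
          ext j
          simp [hx j]
        rw [h1]
        simp
      rcases eq_or_ne L ⊤ with rfl | hL'
      · have h1 : (Finset.univ.filter fun j => x j ∈ (⊤ : Submodule K V)) = Finset.univ := by
          ext j
          simp
        rw [h1, htot, finrank_top, ← hr, mul_comm]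
      have h1 := hA L hL hL'
      rw [Set.ncard_eq_toFinset_card', Set.toFinset_ofPred] at h1
      set F := Finset.univ.filter fun j => x j ∈ L with hF
      have h2 : ∑ j ∈ F, (if j = i then (r : ℚ) else r + 1) ≤ F.card * (r + 1) := by
        rw [← nsmul_eq_mul]
        refine Finset.sum_le_card_nsmul _ _ _ fun j _ => ?_
        split_ifs <;> linarith
      have h3 : Module.finrank K L ≤ r := Submodule.finrank_le L
      have h4 : (F.card : ℚ) * r + 1 ≤ Module.finrank K L * (m + 1) := by
        exact_mod_cast h1
      have h5 : (Module.finrank K L : ℚ) ≤ r := by exact_mod_cast h3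
      have h6 : (0 : ℚ) ≤ r := by positivity
      nlinarith
    · intro S hS hS'
      rw [hB, Finset.mem_filter]
      exact ⟨Finset.mem_univ _, hS, hS'⟩
  choose u hu hy using key
  obtain ⟨M, a, hM, ha⟩ := exists_denominator
    (fun p : Fin (m + 1) × Finset (Fin (m + 1)) => u p.1 p.2) fun p => hu p.1 p.2
  have hcount : ∀ i j : Fin (m + 1), ∑ S ∈ B, (if j ∈ S then a (i, S) else 0) =
      if j = i then M * (r + 1) - M else M * (r + 1) := by
    intro i j
    have h1 : ((∑ S ∈ B, (if j ∈ S then a (i, S) else 0) : ℕ) : ℚ) =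
        M * (if j = i then (r : ℚ) else r + 1) := by
      rw [hy, Finset.mul_sum]
      push_cast
      refine Finset.sum_congr rfl fun S _ => ?_
      split_ifs
      · exact (ha (i, S)).symm
      · simp
    have h2 : M * (r + 1) - M = M * r := by
      rw [Nat.mul_succ, Nat.add_sub_cancel]
    rw [h2]
    split_ifs at h1 ⊢
    · exact_mod_cast h1
    · exact_mod_cast h1
  refine ⟨M * (r + 1), M, hM, Nat.le_mul_of_pos_right _ (Nat.succ_pos _), fun i => ?_⟩
  set P : Multiset (Finset (Fin (m + 1))) := ∑ S ∈ B, Multiset.replicate (a (i, S)) S with hP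
  have hPc : ∀ j : Fin (m + 1), Multiset.card (P.filter (fun S => j ∈ S)) =
      if j = i then M * (r + 1) - M else M * (r + 1) := by
    intro j
    rw [← hcount i j, hP, ← Multiset.countP_eq_card_filter]
    have h1 : ∀ s : Finset (Finset (Fin (m + 1))), Multiset.countP (fun S => j ∈ S)
        (∑ S ∈ s, Multiset.replicate (a (i, S)) S) = ∑ S ∈ s, (if j ∈ S then a (i, S) else 0) := by
      intro s
      induction s using Finset.induction_on with
      | empty => simp
      | insert S s hS ih =>
        rw [Finset.sum_insert hS, Finset.sum_insert hS, Multiset.countP_add, ih]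
        congr 1
        rw [Multiset.countP_eq_card_filter]
        split_ifs with hj
        · rw [Multiset.filter_eq_self.2, Multiset.card_replicate]
          intro T hT
          rwa [Multiset.eq_of_mem_replicate hT]
        · rw [Multiset.filter_eq_nil.2, Multiset.card_zero]
          intro T hT
          rwa [Multiset.eq_of_mem_replicate hT]
    exact h1 B
  refine ⟨P, ?_, ?_, hPc⟩
  · intro h0
    have h1 := hPc i
    rw [h0, if_pos rfl, Multiset.filter_zero, Multiset.card_zero, Nat.mul_succ,
      Nat.add_sub_cancel] at h1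
    have : 0 < M * r := Nat.mul_pos hM hV
    omega
  · intro S hS
    rw [hP, Multiset.mem_sum] at hS
    obtain ⟨T, hT, hST⟩ := hS
    rw [Multiset.eq_of_mem_replicate hST]
    rw [hB, Finset.mem_filter] at hT
    exact hT.2

theorem mpr (hx : ∀ i, x i ≠ 0)
    (hB : ∃ N N₀ : ℕ, 0 < N₀ ∧ N₀ ≤ N ∧
        ∀ i : Fin (m + 1), ∃ P : Multiset (Finset (Fin (m + 1))), P ≠ 0 ∧
          (∀ S ∈ P, S.card = Module.finrank K V ∧ LinearIndependent K (fun j : S => x j)) ∧
          ∀ j : Fin (m + 1),
            Multiset.card (P.filter (fun S => j ∈ S)) = if j = i then N - N₀ else N)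
    (L : Submodule K V) (hL : L ≠ ⊥) (hL' : L ≠ ⊤) :
    Set.ncard {i : Fin (m + 1) | x i ∈ L} * Module.finrank K V < Module.finrank K L * (m + 1) := by
  classical
  obtain ⟨N, N₀, hN₀, hN, hP⟩ := hB
  obtain ⟨i, hi⟩ : ∃ i, x i ∉ L := by
    by_contra hcon
    push Not at hcon
    obtain ⟨P, hP0, hP1, -⟩ := hP 0
    obtain ⟨S, hS⟩ := Multiset.exists_mem_of_ne_zero hP0
    obtain ⟨hc, hli⟩ := hP1 S hS
    apply hL'
    rw [eq_top_iff, ← hli.span_eq_top_of_card_eq_finrank' (by simpa using hc), Submodule.span_le]
    rintro _ ⟨j, rfl⟩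
    exact hcon j
  obtain ⟨P, hP0, hP1, hP2⟩ := hP i
  set F : Finset (Fin (m + 1)) := Finset.univ.filter fun j => x j ∈ L with hF
  have hFc : Set.ncard {i : Fin (m + 1) | x i ∈ L} = F.card := by
    rw [Set.ncard_eq_toFinset_card', Set.toFinset_ofPred]
  rw [hFc]
  have h1 := sum_card_filter F P
  have h2 := sum_card_filter Finset.univ P
  have h3 : ∑ j ∈ F, Multiset.card (P.filter (fun S => j ∈ S)) = F.card * N := by
    rw [← smul_eq_mul, ← Finset.sum_const]
    refine Finset.sum_congr rfl fun j hj => ?_
    rw [hP2, if_neg]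
    rintro rfl
    exact hi (Finset.mem_filter.1 hj).2
  have h4 : (∑ j, Multiset.card (P.filter (fun S => j ∈ S))) + N₀ = (m + 1) * N := by
    rw [← Finset.add_sum_erase _ _ (Finset.mem_univ i), hP2, if_pos rfl]
    have : ∑ j ∈ Finset.univ.erase i, Multiset.card (P.filter (fun S => j ∈ S)) = m * N := by
      have h5 : ∀ j ∈ Finset.univ.erase i, Multiset.card (P.filter (fun S => j ∈ S)) = N := by
        intro j hj
        rw [hP2, if_neg (Finset.ne_of_mem_erase hj)]
      rw [Finset.sum_congr rfl h5, Finset.sum_const, Finset.card_erase_of_mem (Finset.mem_univ i)]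
      simp
    rw [this, Nat.add_mul, one_mul]
    omega
  have h5 : (P.map fun S => (S ∩ Finset.univ).card).sum = Multiset.card P * Module.finrank K V := by
    rw [← smul_eq_mul, ← Multiset.sum_replicate, ← Multiset.map_const']
    congr 1
    refine Multiset.map_congr rfl fun S hS => ?_
    rw [Finset.inter_univ, (hP1 S hS).1]
  have h6 : (P.map fun S => (S ∩ F).card).sum ≤ Multiset.card P * Module.finrank K L := by
    have h7 : ∀ S ∈ P, (S ∩ F).card ≤ Module.finrank K L := by
      intro S hS
      have hli := (hP1 S hS).2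
      have hli' : LinearIndepOn K x (S : Set (Fin (m + 1))) := hli
      have h8 : LinearIndepOn K x ((S ∩ F : Finset (Fin (m + 1))) : Set (Fin (m + 1))) :=
        hli'.mono (by
          intro j hj
          exact (Finset.mem_inter.1 (Finset.mem_coe.1 hj)).1)
      have h9 := finrank_span_eq_card (R := K) h8
      have h9' : Fintype.card ((S ∩ F : Finset (Fin (m + 1))) : Set (Fin (m + 1))) =
          (S ∩ F).card := Fintype.card_of_subtype _ fun j => by rw [Finset.mem_coe]
      rw [← h9', ← h9]
      refine Submodule.finrank_mono ?_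
      rw [Submodule.span_le]
      rintro _ ⟨⟨j, hj⟩, rfl⟩
      exact (Finset.mem_filter.1 (Finset.mem_inter.1 hj).2).2
    have h8 := Multiset.sum_le_card_nsmul (P.map fun S => (S ∩ F).card) (Module.finrank K L) (by
      intro a ha
      obtain ⟨S, hS, rfl⟩ := Multiset.mem_map.1 ha
      exact h7 S hS)
    rwa [Multiset.card_map, smul_eq_mul] at h8
  rw [← h1, h3] at h6
  rw [h2, h5] at h4
  have hLpos : 0 < Module.finrank K L := by
    have : Nontrivial L := Submodule.nontrivial_iff_ne_bot.2 hL
    exact Module.finrank_pos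
  have hNpos : 0 < N := lt_of_lt_of_le hN₀ hN
  by_contra hcon
  push Not at hcon
  have h10 : (Module.finrank K L * (m + 1)) * N ≤ (F.card * Module.finrank K V) * N :=
    Nat.mul_le_mul_right _ hcon
  have h11 : F.card * N * Module.finrank K V ≤ Multiset.card P * Module.finrank K L *
      Module.finrank K V := Nat.mul_le_mul_right _ h6
  have h12 : Module.finrank K L * (Multiset.card P * Module.finrank K V + N₀) =
      Module.finrank K L * ((m + 1) * N) := by rw [h4]
  have h13 : 0 < Module.finrank K L * N₀ := Nat.mul_pos hLpos hN₀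
  nlinarith

end Statement

end K688.StableConf
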