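import Groth.Agent.Fdesc.TensorDomain
import Mathlib.RingTheory.Valuation.LocalSubring
import Mathlib.RingTheory.LocalRing.ResidueField.Basic
import Mathlib.LinearAlgebra.TensorProduct.Basis
import Mathlib.LinearAlgebra.Dual.Lemmas
import Mathlib.RingTheory.Flat.Basic
import Mathlib.RingTheory.Localization.FractionRing

/-!
# Units of a tensor product of two domains over an algebraically closed field (Rosenlicht)

`exists_tmul_of_isUnit`: `A` a domain, `B` a domain of finite type over an algebraically closed field `k`;
every unit of `A ⊗ B` is `a ⊗ b` with `a`, `b` units.  The proof uses Gauss extensions of all valuation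
rings of the fraction field of `A` containing `k`.
-/

set_option autoImplicit false

open TensorProduct

namespace K688.UnitTensor

section Scalar

variable {k K : Type*} [Field k] [IsAlgClosed k] [Field K] [Algebra k K]

/-- An element of all valuation rings containing the algebraically closed field `k` is a scalar. -/
theorem exists_scalar (z : K)
    (h : ∀ V : ValuationSubring K, (∀ c : k, algebraMap k K c ∈ V) → z ∈ V) :
    ∃ c : k, algebraMap k K c = z := by
  have h1 : z ∈ (⨅ V : {V : ValuationSubring K // Set.range (algebraMap k K) ⊆ V.toSubring},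
      V.1.toSubring) := by
    rw [Subring.mem_iInf]
    rintro ⟨V, hV⟩
    exact h V fun c => hV ⟨c, rfl⟩
  rw [iInf_valuationSubring_superset] at h1
  have h2 : IsIntegral (Subring.closure (Set.range (algebraMap k K))) z := h1
  have h3 : Subring.closure (Set.range (algebraMap k K)) = (algebraMap k K).range :=
    Subring.closure_eq (algebraMap k K).range
  have h4 : IsIntegral k z := by
    obtain ⟨p, hp, hpz⟩ := h2
    have hlift : ∃ q : Polynomial k, q.map (algebraMap k K) =
        p.map (algebraMap (Subring.closure (Set.range (algebraMap k K))) K) ∧ q.Monic := by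
      have h5 : p.map (algebraMap (Subring.closure (Set.range (algebraMap k K))) K) ∈
          Polynomial.lifts (algebraMap k K) := by
        rw [Polynomial.lifts_iff_coeff_lifts]
        intro n
        rw [Polynomial.coeff_map]
        have h6 : ∀ x ∈ Subring.closure (Set.range (algebraMap k K)),
            x ∈ (algebraMap k K).range := fun x hx => h3 ▸ hx
        exact h6 _ (p.coeff n).2
      obtain ⟨q, hq, -, hqm⟩ := Polynomial.lifts_and_degree_eq_and_monic h5 (hp.map _)
      exact ⟨q, hq, hqm⟩
    obtain ⟨q, hq, hqm⟩ := hlift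
    refine ⟨q, hqm, ?_⟩
    rw [← Polynomial.eval_map, hq, Polynomial.eval_map]
    exact hpz
  exact minpoly.mem_range_of_degree_eq_one k z
    (IsAlgClosed.degree_eq_one_of_irreducible k (minpoly.irreducible h4))

end Scalar

section Gauss

variable {k K : Type*} [Field k] [Field K] [Algebra k K]

/-- A valuation ring containing `k` as a `k`-subalgebra. -/
def subalg (V : ValuationSubring K) (hV : ∀ c : k, algebraMap k K c ∈ V) : Subalgebra k K where
  toSubsemiring := V.toSubring.toSubsemiring
  algebraMap_mem' := hV

lemma mem_subalg {V : ValuationSubring K} {hV : ∀ c : k, algebraMap k K c ∈ V} {x : K} :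
    x ∈ subalg V hV ↔ x ∈ V := Iff.rfl

instance (V : ValuationSubring K) (hV : ∀ c : k, algebraMap k K c ∈ V) :
    ValuationRing (subalg V hV) :=
  inferInstanceAs (ValuationRing V)

variable (V : ValuationSubring K) (hV : ∀ c : k, algebraMap k K c ∈ V)
variable {B : Type*} [CommRing B] [Algebra k B]

/-- A finite nonempty family of elements of `K`, not all zero, can be divided by one of its nonzero
members with all quotients in `V`. -/
lemma exists_div_mem {ι : Type*} (s : Finset ι) (a : ι → K) (h : ∃ i ∈ s, a i ≠ 0) :
    ∃ i ∈ s, a i ≠ 0 ∧ ∀ j ∈ s, a j / a i ∈ V := by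
  classical
  obtain ⟨i, hi, hmax⟩ := Finset.exists_max_image s (fun i => V.valuation (a i))
    (h.imp fun i hi => hi.1)
  obtain ⟨i₀, hi₀, hne⟩ := h
  have hai : a i ≠ 0 := by
    intro h0
    have := hmax i₀ hi₀
    rw [h0, map_zero, le_zero_iff, map_eq_zero] at this
    exact hne this
  refine ⟨i, hi, hai, fun j hj => ?_⟩
  rw [← ValuationSubring.valuation_le_one_iff, map_div₀]
  exact div_le_one_of_le₀ (hmax j hj) zero_le

/-- The map `V ⊗ B → K ⊗ B`. -/
noncomputable def inc : subalg V hV ⊗[k] B →ₐ[k] K ⊗[k] B :=
  Algebra.TensorProduct.map (subalg V hV).val (AlgHom.id k B)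

/-- The map `V ⊗ B → κ ⊗ B`. -/
noncomputable def red : subalg V hV ⊗[k] B →ₐ[k]
    IsLocalRing.ResidueField (subalg V hV) ⊗[k] B :=
  Algebra.TensorProduct.map (IsScalarTower.toAlgHom k (subalg V hV)
    (IsLocalRing.ResidueField (subalg V hV))) (AlgHom.id k B)

lemma inc_injective : Function.Injective (inc V hV (B := B)) := by
  have := Module.Flat.rTensor_preserves_injective_linearMap (M := B)
    (subalg V hV).val.toLinearMap Subtype.val_injective
  exact this

/-- Gauss content: a nonzero element of `K ⊗ B` can be scaled into `V ⊗ B` with nonzero reduction. -/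
lemma exists_scale {F : K ⊗[k] B} (hF : F ≠ 0) :
    ∃ (c : K) (F' : subalg V hV ⊗[k] B), c ≠ 0 ∧ inc V hV F' = c • F ∧ red V hV F' ≠ 0 := by
  classical
  let b := Module.Basis.ofVectorSpace k B
  let bK := Algebra.TensorProduct.basis K b
  have hne : ∃ i ∈ (bK.repr F).support, bK.repr F i ≠ 0 := by
    by_contra hcon
    push Not at hcon
    apply hF
    apply bK.repr.injective
    rw [map_zero]
    ext i
    by_cases hi : i ∈ (bK.repr F).support
    · exact hcon i hi
    · simpa using hi
  obtain ⟨i, hi, hai, hdiv⟩ := exists_div_mem V (bK.repr F).support (bK.repr F) hne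
  have hdiv' : ∀ j, bK.repr F j / bK.repr F i ∈ subalg V hV := by
    intro j
    by_cases hj : j ∈ (bK.repr F).support
    · exact hdiv j hj
    · rw [Finsupp.notMem_support_iff.1 hj, zero_div]
      exact Subalgebra.zero_mem _
  let bS := Algebra.TensorProduct.basis (subalg V hV) b
  let d : _ → subalg V hV := fun j => ⟨bK.repr F j / bK.repr F i, hdiv' j⟩
  have hd : ∀ j, d j ≠ 0 → j ∈ (bK.repr F).support := by
    intro j hj
    by_contra hcon
    apply hj
    apply Subtype.ext
    change bK.repr F j / bK.repr F i = 0
    rw [Finsupp.notMem_support_iff.1 hcon, zero_div]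
  refine ⟨(bK.repr F i)⁻¹, bS.repr.symm (Finsupp.onFinset (bK.repr F).support d hd),
    inv_ne_zero hai, ?_, ?_⟩
  · apply bK.repr.injective
    ext j
    rw [map_smul, Finsupp.smul_apply, smul_eq_mul]
    have h1 := Groth.Agent.Fdesc.TensorDomain.repr_map b (subalg V hV).val
      (bS.repr.symm (Finsupp.onFinset (bK.repr F).support d hd)) j
    refine h1.trans ?_
    rw [LinearEquiv.apply_symm_apply, Finsupp.onFinset_apply, mul_comm, ← div_eq_mul_inv]
    rfl
  · intro h0
    have h1 := Groth.Agent.Fdesc.TensorDomain.repr_map b (IsScalarTower.toAlgHom k (subalg V hV)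
      (IsLocalRing.ResidueField (subalg V hV)))
      (bS.repr.symm (Finsupp.onFinset (bK.repr F).support d hd)) i
    have h2 : d i = 1 := Subtype.ext (div_self hai)
    rw [LinearEquiv.apply_symm_apply, Finsupp.onFinset_apply, h2, map_one] at h1
    have h3 : Algebra.TensorProduct.map (IsScalarTower.toAlgHom k (subalg V hV)
        (IsLocalRing.ResidueField (subalg V hV))) (AlgHom.id k B)
        (bS.repr.symm (Finsupp.onFinset (bK.repr F).support d hd)) = 0 := h0
    rw [h3, map_zero, Finsupp.zero_apply] at h1
    exact zero_ne_one h1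

/-- Evaluation at a point of `B`, over a `k`-algebra `R`. -/
noncomputable def evB (R : Type*) [CommRing R] [Algebra k R] (y : B →ₐ[k] k) : R ⊗[k] B →ₐ[k] R :=
  (Algebra.TensorProduct.rid k k R).toAlgHom.comp
    (Algebra.TensorProduct.map (AlgHom.id k R) y)

lemma evB_tmul (R : Type*) [CommRing R] [Algebra k R] (y : B →ₐ[k] k) (r : R) (b : B) :
    evB R y (r ⊗ₜ[k] b) = y b • r := by
  simp [evB]

lemma evB_map {R R' : Type*} [CommRing R] [Algebra k R] [CommRing R'] [Algebra k R'] (φ : R →ₐ[k] R')
    (y : B →ₐ[k] k) (z : R ⊗[k] B) :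
    evB R' y (Algebra.TensorProduct.map φ (AlgHom.id k B) z) = φ (evB R y z) := by
  induction z with
  | zero => simp
  | tmul r b => simp [evB_tmul]
  | add x y hx hy => rw [map_add, map_add, map_add, map_add, hx, hy]

include hV in
/-- For a unit of `K ⊗ B`, the values at two points of `B` have the same valuation. -/
theorem div_mem [IsAlgClosed k] [IsDomain B] {f g : K ⊗[k] B} (hfg : f * g = 1) (y y' : B →ₐ[k] k) :
    evB K y f / evB K y' f ∈ V := by
  have hf : f ≠ 0 := by
    rintro rfl
    rw [zero_mul] at hfg
    have := congrArg (evB K y) hfg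
    rw [map_zero, map_one] at this
    exact zero_ne_one this
  have hg : g ≠ 0 := by
    rintro rfl
    rw [mul_zero] at hfg
    have := congrArg (evB K y) hfg
    rw [map_zero, map_one] at this
    exact zero_ne_one this
  obtain ⟨c, F, hc, hF, hF'⟩ := exists_scale V hV hf
  obtain ⟨d, G, hd, hG, hG'⟩ := exists_scale V hV hg
  have : IsDomain (IsLocalRing.ResidueField (subalg V hV) ⊗[k] B) :=
    Groth.Agent.Fdesc.TensorDomain.isDomain_tensorProduct
  have h1 : inc V hV (F * G) = (c * d) • (1 : K ⊗[k] B) := by
    rw [map_mul, hF, hG, smul_mul_smul_comm, hfg]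
  have h2 : ((evB (subalg V hV) y (F * G) : subalg V hV) : K) = c * d := by
    have h3 := evB_map (subalg V hV).val y (F * G)
    have h4 : Algebra.TensorProduct.map (subalg V hV).val (AlgHom.id k B) (F * G) =
        (c * d) • (1 : K ⊗[k] B) := h1
    rw [h4] at h3
    have h5 : evB K y ((c * d) • (1 : K ⊗[k] B)) = c * d := by
      rw [Algebra.TensorProduct.one_def, TensorProduct.smul_tmul', evB_tmul, map_one, one_smul,
        smul_eq_mul, mul_one]
    rw [h5] at h3
    exact h3.symm
  set e := evB (subalg V hV) y (F * G) with he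
  have h3 : F * G = e ⊗ₜ[k] (1 : B) := by
    apply inc_injective V hV
    rw [h1, inc, Algebra.TensorProduct.map_tmul, Algebra.TensorProduct.one_def,
      TensorProduct.smul_tmul', smul_eq_mul, mul_one, map_one]
    congr 1
    exact h2.symm
  have h4 : red V hV (F * G) ≠ 0 := by
    rw [map_mul]
    exact mul_ne_zero hF' hG'
  have h5 : IsUnit e := by
    by_contra hcon
    apply h4
    rw [h3, red, Algebra.TensorProduct.map_tmul]
    have : IsScalarTower.toAlgHom k (subalg V hV) (IsLocalRing.ResidueField (subalg V hV)) e = 0 :=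
      (IsLocalRing.residue_eq_zero_iff e).2 hcon
    rw [this, TensorProduct.zero_tmul]
  have h6 : ∀ w : B →ₐ[k] k, IsUnit (evB (subalg V hV) w F) := by
    intro w
    have h7 : evB (subalg V hV) w F * evB (subalg V hV) w G = e := by
      rw [← map_mul, h3, evB_tmul, map_one, one_smul]
    rw [← h7] at h5
    exact isUnit_of_mul_isUnit_left h5
  have h7 : ∀ w : B →ₐ[k] k, ((evB (subalg V hV) w F : subalg V hV) : K) = c * evB K w f := by
    intro w
    have h8 := evB_map (subalg V hV).val w F
    have h9 : Algebra.TensorProduct.map (subalg V hV).val (AlgHom.id k B) F = c • f := hF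
    rw [h9] at h8
    have h10 : evB K w (c • f) = c * evB K w f := by
      have : c • f = (c ⊗ₜ[k] (1 : B)) * f := by
        rw [Algebra.smul_def]
        rfl
      rw [this, map_mul, evB_tmul, map_one, one_smul]
    rw [h10] at h8
    exact h8.symm
  obtain ⟨u, hu⟩ := h6 y'
  have h8 : evB K y f / evB K y' f =
      ((evB (subalg V hV) y F * (↑u⁻¹ : subalg V hV) : subalg V hV) : K) := by
    have h9 : ((↑u⁻¹ : subalg V hV) : K) = (c * evB K y' f)⁻¹ := by
      rw [← h7, ← hu]
      refine eq_inv_of_mul_eq_one_left ?_
      have := congrArg (fun z : subalg V hV => (z : K)) u.inv_mul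
      exact this
    rw [Subalgebra.coe_mul, h7, h9, mul_inv, div_eq_mul_inv]
    field_simp
  rw [h8]
  exact (evB (subalg V hV) y F * (↑u⁻¹ : subalg V hV)).2

end Gauss

section Main

variable {k : Type*} [Field k] [IsAlgClosed k] {A B : Type*} [CommRing A] [IsDomain A] [Algebra k A]
  [CommRing B] [IsDomain B] [Algebra k B] [Algebra.FiniteType k B]

omit [IsDomain A] in
/-- Elements of `A ⊗ B` are detected by points of `B` (`B` reduced of finite type). -/
lemma ext_evB {z w : A ⊗[k] B} (h : ∀ y : B →ₐ[k] k, evB A y z = evB A y w) : z = w := by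
  classical
  have hJ : IsJacobsonRing B := isJacobsonRing_of_finiteType (A := k)
  have h0 : Ideal.jacobson (⊥ : Ideal B) = ⊥ := by
    have := hJ.out (I := (⊥ : Ideal B)) (by
      rw [Ideal.isRadical_iff_quotient_reduced]
      exact isReduced_of_injective (RingEquiv.quotientBot B) (RingEquiv.quotientBot B).injective)
    exact this
  let b := Module.Basis.ofVectorSpace k A
  rw [← sub_eq_zero]
  have h1 : ∀ y : B →ₐ[k] k, evB A y (z - w) = 0 := fun y => by rw [map_sub, h y, sub_self]
  generalize z - w = v at h1
  -- coordinates of `v` in `B`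
  apply (TensorProduct.equivFinsuppOfBasisLeft (N := B) b).injective
  rw [map_zero]
  ext i
  rw [Finsupp.zero_apply, ← Ideal.mem_bot, ← h0, Ideal.jacobson, Ideal.mem_sInf]
  rintro m ⟨-, hm⟩
  have hm' : m.IsMaximal := hm
  obtain ⟨φ, rfl⟩ := Groth.Agent.Fdesc.TensorDomain.exists_algHom_of_isMaximal (k := k) m
  rw [RingHom.mem_ker]
  have h2 : ∀ v : A ⊗[k] B, φ (TensorProduct.equivFinsuppOfBasisLeft (N := B) b v i) =
      b.repr (evB A φ v) i := by
    intro v
    induction v with
    | zero => simp
    | tmul x y =>
      rw [evB_tmul, TensorProduct.equivFinsuppOfBasisLeft_apply_tmul_apply, map_smul, map_smul,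
        Finsupp.smul_apply, smul_eq_mul, smul_eq_mul, mul_comm]
    | add x y hx hy => rw [map_add, Finsupp.add_apply, map_add, hx, hy, map_add, map_add,
        Finsupp.add_apply]
  refine (h2 v).trans ?_
  rw [h1, map_zero, Finsupp.zero_apply]

/-- **Rosenlicht's unit theorem, affine algebraic form.** -/
theorem exists_tmul_of_isUnit {f : A ⊗[k] B} (hf : IsUnit f) :
    ∃ (a : A) (b : B), IsUnit a ∧ IsUnit b ∧ f = a ⊗ₜ[k] b := by
  classical
  obtain ⟨m, hm⟩ := Ideal.exists_maximal B
  obtain ⟨y₀, hy₀⟩ := Groth.Agent.Fdesc.TensorDomain.exists_algHom_of_isMaximal (k := k) m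
  set a := evB A y₀ f with ha
  have hau : IsUnit a := hf.map (evB A y₀)
  obtain ⟨lam, hlam⟩ := Module.Projective.exists_dual_eq_one k hau.ne_zero
  set b : B := TensorProduct.lid k B (lam.rTensor B f) with hb
  -- values at points
  have hval : ∀ (y : B →ₐ[k] k), y b = lam (evB A y f) := by
    intro y
    rw [hb]
    generalize f = z
    induction z with
    | zero => simp
    | tmul x z => simp [evB_tmul, mul_comm]
    | add x z hx hz => simp only [map_add, hx, hz]
  let K := FractionRing A
  obtain ⟨g, hfg⟩ := hf.exists_right_inv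
  have key : ∀ y : B →ₐ[k] k, evB A y f = y b • a := by
    intro y
    have hmapf := evB_map (IsScalarTower.toAlgHom k A K) y f
    have hmapf₀ := evB_map (IsScalarTower.toAlgHom k A K) y₀ f
    obtain ⟨c, hc⟩ := exists_scalar (k := k)
      (evB K y (Algebra.TensorProduct.map (IsScalarTower.toAlgHom k A K) (AlgHom.id k B) f) /
        evB K y₀ (Algebra.TensorProduct.map (IsScalarTower.toAlgHom k A K) (AlgHom.id k B) f))
      (fun V hV => div_mem V hV
        (g := Algebra.TensorProduct.map (IsScalarTower.toAlgHom k A K) (AlgHom.id k B) g)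
        (by rw [← map_mul, hfg, map_one]) y y₀)
    rw [hmapf, hmapf₀] at hc
    have hne : algebraMap A K a ≠ 0 := by
      intro h
      exact hau.ne_zero ((FaithfulSMul.algebraMap_injective A K) (by rw [h, map_zero]))
    have h1 : evB A y f = c • a := by
      apply FaithfulSMul.algebraMap_injective A K
      have h2 : algebraMap k K c * algebraMap A K a = algebraMap A K (evB A y f) := by
        rw [hc]
        exact div_mul_cancel₀ _ hne
      rw [← h2, Algebra.smul_def, map_mul, ← IsScalarTower.algebraMap_apply]
    rw [h1]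
    congr 1
    rw [hval, h1, map_smul, hlam, smul_eq_mul, mul_one]
  refine ⟨a, b, hau, ?_, ?_⟩
  · by_contra hb0
    obtain ⟨m, hm, hbm⟩ := exists_max_ideal_of_mem_nonunits hb0
    obtain ⟨y, hy⟩ := Groth.Agent.Fdesc.TensorDomain.exists_algHom_of_isMaximal (k := k) m
    have hyb : y b = 0 := by
      rw [← hy] at hbm
      exact hbm
    have h1 : IsUnit (evB A y f) := hf.map (evB A y)
    rw [key y, hyb, zero_smul] at h1
    exact not_isUnit_zero h1
  · refine ext_evB fun y => ?_
    rw [key y, evB_tmul]

end Main

end K688.UnitTensor
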